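import Cfsg.Agent.H111.JM.TList_m3
import Cfsg.Agent.H878.JM.Elts_m3
import Cfsg.Agent.J4.Rep112
import Cfsg.Agent.Lib.F2Rank
import Cfsg.Agent.J4.Lower
import Cfsg.Agent.H860.JM.Defs
import Cfsg.Agent.H858.FixJ4
import Mathlib
import Cfsg.Agent.H753.SLFiveTwo
import Cfsg.Agent.Lib.F2MatGroup
import Cfsg.Agent.LieClassical.SLGen
import Cfsg.Agent.FastGrp
import Cfsg.Agent.Prune
set_option linter.all false

-- part: H856/JM/Comm
section
prune_inst 0x7f00000000000000000000000000000000000000000000000000000000000000000000000000000000000000000000000000000000000000000000000000000000000000000000000000000000000000003fffffffffffffffffffffffffffbeffbdffffffff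
set_option linter.all false
open scoped Cfsg.Agent.FastGrp

/-!
# The involutions inverting `y0` and commuting with `v3`, …, `v9` (helper856)

`cl3`, …, `cl9` : the lists (48, 16, 44, 44, 12, 8, 12 elements of the environment `LK`);
`comm3`, …, `comm9` : `TY t → t * vN = vN * t → t ∈ clN`; `mem_cl3`, … : the converse.
-/

set_option autoImplicit false
set_option maxRecDepth 100000

open Cfsg

namespace Cfsg.Agent.H856.JM.Comm

open Cfsg.Agent.Lib Cfsg.Agent.Lib.F2Mat Cfsg.Agent.Lib.F2MatGroup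
open Cfsg.Agent.J4.Rep112
open Cfsg.Agent.H858.VK
open Cfsg.Agent.H878.JM.Base
open Cfsg.Agent.H111.JM.Eng Cfsg.Agent.H111.JM.Env Cfsg.Agent.H111.JM.TList
open Cfsg.Agent.H856.JM.CommData Cfsg.Agent.H856.JM.CommTest

/-! ### The environment -/

/-- the environment -/
noncomputable def LK : List Spor.J4 := runG slpC LJ

theorem run_LK {k : List ℕ → Bool} (h : run 112 slpJ codes (fun L => run 112 slpC L k) = true) :
    ∃ L', List.Forall₂ (Codes 112) (LK.map rho) L' ∧ k L' = true := by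
  obtain ⟨L1, h1, h2⟩ := run_env h
  obtain ⟨L', h3, h4⟩ := run_sound h1 h2
  exact ⟨L', by unfold LK; rw [← runG_map]; exact h3, h4⟩

theorem getG_runG {G : Type*} [Group G] (ws : List (List ℕ)) (L : List G) (k : ℕ) :
    getG (runG ws L) (ws.length + k) = getG L k := by
  induction ws generalizing L k with
  | nil => rw [runG_nil, List.length_nil, Nat.zero_add]
  | cons w ws ih =>
    rw [runG_cons, List.length_cons]
    have h1 : ws.length + 1 + k = ws.length + (k + 1) := by omega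
    rw [h1, ih]
    rfl

theorem length_slpC : slpC.length = 184 := by decide +kernel

theorem LK_LJ (k : ℕ) : getG LK (184 + k) = getG LJ k := by
  have h := getG_runG slpC LJ k
  rwa [length_slpC] at h

/-- positions, keys, position of `v` -/
def dat : List (List ℕ × List ℕ × ℕ) := [(ps3, ky3, 190), (ps4, ky4, 189), (ps5, ky5, 188),
  (ps6, ky6, 187), (ps7, ky7, 186), (ps8, ky8, 185), (ps9, ky9, 184)]

/-- the test of one list of elements -/
def okl (L : List ℕ) (ps ky : List ℕ) (v : ℕ) : Bool :=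
  (ps.zip ky).all fun p => cond (Nat.beq (key 12159 24 (get (F2Mat.one 112) L p.1)) p.2)
    (eqs 112 [([p.1, p.1], []), ([p.1, 202, p.1, 202], []), ([p.1, v], [v, p.1])] L) false

theorem chkK : run 112 slpJ codes (fun L => run 112 slpC L (fun L =>
    dat.all fun d => okl L d.1 d.2.1 d.2.2)) = true := by
  delta okl
  rw [Lib.F112.run_eq, Lib.F112.eqs_eq]
  decide +kernel

theorem y0_LK : getG LK 202 = y0 := LK_LJ 18

theorem sound {d : List ℕ × List ℕ × ℕ} (hd : d ∈ dat) {p : ℕ × ℕ} (hp : p ∈ d.1.zip d.2.1) :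
    HK (getG LK p.1) p.2 ∧ TY (getG LK p.1) ∧
      getG LK p.1 * getG LK d.2.2 = getG LK d.2.2 * getG LK p.1 := by
  obtain ⟨L', h1, h2⟩ := run_LK chkK
  rw [List.all_eq_true] at h2
  have h3 := h2 d hd
  unfold okl at h3
  rw [List.all_eq_true] at h3
  obtain ⟨h4, h5⟩ := CommTest.cond_true (h3 p hp)
  have h6 := codes_get h1 p.1
  rw [getG_map] at h6
  have h7 : ∀ q ∈ [([p.1, p.1], ([] : List ℕ)), ([p.1, 202, p.1, 202], []), ([p.1, d.2.2], [d.2.2, p.1])],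
      evG LK q.1 = evG LK q.2 := by
    intro q hq
    apply rho_injective
    rw [← evG_map, ← evG_map]
    exact eqs_sound h1 h5 q hq
  have e1 := h7 ([p.1, p.1], []) (by simp)
  have e2 := h7 ([p.1, 202, p.1, 202], []) (by simp)
  have e3 := h7 ([p.1, d.2.2], [d.2.2, p.1]) (by simp)
  simp only [evG_cons, evG_nil, mul_one, y0_LK] at e1 e2 e3
  refine ⟨HK.of_codes h6 h4, ⟨e1, ?_⟩, e3⟩
  have h8 : (getG LK p.1)⁻¹ = getG LK p.1 := inv_eq_of_mul_eq_one_left e1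
  rw [h8]
  have h9 : getG LK p.1 * y0 * getG LK p.1 * y0 = 1 := by
    rw [← e2]; simp only [mul_assoc]
  exact (inv_eq_of_mul_eq_one_left h9).symm

/-! ### The lists -/

/-- the elements at given positions -/
noncomputable def lst (ps : List ℕ) : List Spor.J4 := ps.map (getG LK)

/-- the elements of `T_y` commuting with `v3` -/
noncomputable def cl3 : List Spor.J4 := lst ps3
/-- the elements of `T_y` commuting with `v4` -/
noncomputable def cl4 : List Spor.J4 := lst ps4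
/-- the elements of `T_y` commuting with `v5` -/
noncomputable def cl5 : List Spor.J4 := lst ps5
/-- the elements of `T_y` commuting with `v6` -/
noncomputable def cl6 : List Spor.J4 := lst ps6
/-- the elements of `T_y` commuting with `v7` -/
noncomputable def cl7 : List Spor.J4 := lst ps7
/-- the elements of `T_y` commuting with `v8` -/
noncomputable def cl8 : List Spor.J4 := lst ps8
/-- the elements of `T_y` commuting with `v9` -/
noncomputable def cl9 : List Spor.J4 := lst ps9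

theorem mem_zip_of_mem {ps ky : List ℕ} (h : ps.length = ky.length) {a : ℕ} (ha : a ∈ ky) :
    ∃ k, (k, a) ∈ ps.zip ky := by
  induction ky generalizing ps with
  | nil => exact absurd ha List.not_mem_nil
  | cons b ky ih =>
    rcases ps with _ | ⟨c, ps⟩
    · exact absurd h (by simp)
    · rcases List.mem_cons.1 ha with rfl | h1
      · exact ⟨c, List.mem_cons_self⟩
      · obtain ⟨k, hk⟩ := ih (by simpa using h) h1
        exact ⟨k, List.mem_cons_of_mem _ hk⟩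

theorem lengths : dat.all (fun d => Nat.beq d.1.length d.2.1.length) = true := by decide +kernel

theorem length_of {d : List ℕ × List ℕ × ℕ} (hd : d ∈ dat) : d.1.length = d.2.1.length := by
  have h := lengths
  rw [List.all_eq_true] at h
  exact Nat.eq_of_beq_eq_true (h d hd)

theorem exists_CP (hcard : Nat.card {t // TY t} ≤ 10296) {t : Spor.J4} (ht : TY t) :
    ∃ M, Codes 112 (rho t) M ∧ CP t M := by
  obtain ⟨M, h1, h2, -⟩ := VL_AT (mem_VL hcard ht)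
  exact ⟨M, h1, test_sound h1 h2⟩

theorem mem_lst (hcard : Nat.card {t // TY t} ≤ 10296) {d : List ℕ × List ℕ × ℕ} (hd : d ∈ dat)
    {t : Spor.J4} (ht : TY t) {M : ℕ} (hM : Codes 112 (rho t) M) (h : key 12159 24 M ∈ d.2.1) :
    t ∈ lst d.1 := by
  obtain ⟨k, hk⟩ := mem_zip_of_mem (length_of hd) h
  obtain ⟨h1, h2, -⟩ := sound hd hk
  have h3 : HK t (key 12159 24 M) := ⟨M, hM, rfl⟩
  rw [key_inj hcard ht h2 h3 h1]
  exact List.mem_map_of_mem (List.of_mem_zip hk).1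

theorem comm3 (hcard : Nat.card {t // TY t} ≤ 10296) {t : Spor.J4} (ht : TY t)
    (h : t * v3 = v3 * t) : t ∈ cl3 := by
  obtain ⟨M, h1, h2⟩ := exists_CP hcard ht
  exact mem_lst hcard (d := (ps3, ky3, 190)) (by simp [dat]) ht h1 (h2.c3 h)

theorem comm4 (hcard : Nat.card {t // TY t} ≤ 10296) {t : Spor.J4} (ht : TY t)
    (h : t * v4 = v4 * t) : t ∈ cl4 := by
  obtain ⟨M, h1, h2⟩ := exists_CP hcard ht
  exact mem_lst hcard (d := (ps4, ky4, 189)) (by simp [dat]) ht h1 (h2.c4 h)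

theorem comm5 (hcard : Nat.card {t // TY t} ≤ 10296) {t : Spor.J4} (ht : TY t)
    (h : t * v5 = v5 * t) : t ∈ cl5 := by
  obtain ⟨M, h1, h2⟩ := exists_CP hcard ht
  exact mem_lst hcard (d := (ps5, ky5, 188)) (by simp [dat]) ht h1 (h2.c5 h)

theorem comm6 (hcard : Nat.card {t // TY t} ≤ 10296) {t : Spor.J4} (ht : TY t)
    (h : t * v6 = v6 * t) : t ∈ cl6 := by
  obtain ⟨M, h1, h2⟩ := exists_CP hcard ht
  exact mem_lst hcard (d := (ps6, ky6, 187)) (by simp [dat]) ht h1 (h2.c6 h)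

theorem comm7 (hcard : Nat.card {t // TY t} ≤ 10296) {t : Spor.J4} (ht : TY t)
    (h : t * v7 = v7 * t) : t ∈ cl7 := by
  obtain ⟨M, h1, h2⟩ := exists_CP hcard ht
  exact mem_lst hcard (d := (ps7, ky7, 186)) (by simp [dat]) ht h1 (h2.c7 h)

theorem comm8 (hcard : Nat.card {t // TY t} ≤ 10296) {t : Spor.J4} (ht : TY t)
    (h : t * v8 = v8 * t) : t ∈ cl8 := by
  obtain ⟨M, h1, h2⟩ := exists_CP hcard ht
  exact mem_lst hcard (d := (ps8, ky8, 185)) (by simp [dat]) ht h1 (h2.c8 h)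

theorem comm9 (hcard : Nat.card {t // TY t} ≤ 10296) {t : Spor.J4} (ht : TY t)
    (h : t * v9 = v9 * t) : t ∈ cl9 := by
  obtain ⟨M, h1, h2⟩ := exists_CP hcard ht
  exact mem_lst hcard (d := (ps9, ky9, 184)) (by simp [dat]) ht h1 (h2.c9 h)

end Cfsg.Agent.H856.JM.Comm

private theorem dce_bcf970151d15 : _root_.True := by
  try have : _root_.True := by simp only [_root_.Cfsg.Agent.H111.JM.TList.PL.eq_1]
  try have : _root_.True := by simp only [_root_.Cfsg.Agent.H856.JM.Comm.dat.eq_1]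
  exact _root_.True.intro
end

-- part: H878/JM/FiveTree
section
set_option linter.all false
open scoped Cfsg.Agent.FastGrp

/-!
# The solutions of `(v i * t) ^ 3 = 1` are conjugates of the ten representatives (generated, tools/h878/genfive.py)

Environment `LF` (newest first): 154 new elements, then `LE`.
`gnI` : generators of a subgroup of the centralizer of `(y0, v i)` (with inverses), `trI` : tree of conjugates
(child, parent, `d`, `d⁻¹`), `rtI` : roots, `soI` : the solutions, in the order of their keys `ksI`.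
-/

set_option autoImplicit false
set_option maxRecDepth 100000

open Cfsg

namespace Cfsg.Agent.H878.JM.FiveTree

open Cfsg.Agent.Lib Cfsg.Agent.Lib.F2MatGroup
open Cfsg.Agent.J4.Rep112
open Cfsg.Agent.H858.VK
open Cfsg.Agent.H878.JM.Base Cfsg.Agent.H878.JM.Elts Cfsg.Agent.H878.JM.FiveTest
open Cfsg.Agent.H111.JM.Eng Cfsg.Agent.H111.JM.Env

/-- the program -/
def slpF : List (List ℕ) := [
  [263, 235, 263],
  [261, 236, 261],
  [262, 1, 262],
  [264, 1, 265],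
  [266, 2, 265],
  [266, 2, 267],
  [268, 3, 267],
  [266, 235, 266],
  [266, 236, 266],
  [266, 237, 266],
  [268, 2, 268],
  [268, 3, 268],
  [269, 3, 269],
  [270, 2, 270],
  [270, 235, 270],
  [268, 236, 269],
  [270, 237, 269],
  [270, 2, 271],
  [272, 3, 271],
  [275, 3, 275],
  [275, 4, 275],
  [277, 4, 277],
  [277, 5, 277],
  [279, 5, 279],
  [279, 6, 279],
  [281, 6, 281],
  [281, 7, 281],
  [282, 7, 282],
  [281, 8, 282],
  [283, 9, 282],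
  [283, 9, 284],
  [285, 10, 284],
  [287, 10, 287],
  [286, 11, 287],
  [288, 12, 287],
  [288, 12, 289],
  [290, 13, 289],
  [290, 13, 291],
  [292, 14, 291],
  [292, 14, 293],
  [295, 14, 295],
  [294, 15, 295],
  [296, 16, 295],
  [296, 15, 297],
  [298, 16, 297],
  [301, 16, 301],
  [302, 15, 302],
  [303, 15, 303],
  [301, 15, 302],
  [304, 15, 304],
  [306, 15, 306],
  [307, 14, 307],
  [308, 14, 308],
  [309, 13, 309],
  [307, 13, 308],
  [309, 14, 308],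
  [311, 14, 311],
  [313, 14, 313],
  [313, 15, 313],
  [315, 14, 315],
  [313, 12, 314],
  [313, 270, 313],
  [312, 271, 312],
  [313, 1, 313],
  [316, 1, 316],
  [316, 2, 316],
  [318, 2, 318],
  [318, 3, 318],
  [319, 3, 319],
  [319, 4, 319],
  [320, 4, 320],
  [322, 4, 322],
  [322, 5, 322],
  [323, 5, 323],
  [324, 5, 324],
  [327, 5, 327],
  [327, 6, 327],
  [329, 6, 329],
  [329, 7, 329],
  [329, 7, 329],
  [332, 7, 332],
  [332, 8, 332],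
  [334, 8, 334],
  [334, 9, 334],
  [335, 8, 335],
  [335, 9, 335],
  [336, 9, 336],
  [338, 9, 338],
  [338, 10, 338],
  [339, 10, 339],
  [341, 9, 341],
  [341, 10, 341],
  [342, 10, 342],
  [344, 10, 344],
  [344, 11, 344],
  [345, 11, 345],
  [346, 11, 346],
  [347, 9, 347],
  [348, 7, 348],
  [349, 5, 349],
  [352, 3, 352],
  [352, 4, 352],
  [354, 3, 354],
  [354, 4, 354],
  [354, 3, 354],
  [355, 3, 355],
  [356, 3, 356],
  [357, 3, 357],
  [356, 314, 357],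
  [358, 315, 357],
  [357, 316, 357],
  [358, 2, 358],
  [359, 2, 359],
  [361, 2, 362],
  [363, 3, 362],
  [363, 3, 364],
  [365, 4, 364],
  [365, 4, 366],
  [367, 5, 366],
  [366, 5, 366],
  [367, 5, 367],
  [368, 5, 368],
  [369, 5, 369],
  [370, 5, 370],
  [371, 5, 371],
  [373, 5, 374],
  [375, 5, 374],
  [375, 5, 376],
  [375, 2, 375],
  [376, 2, 376],
  [377, 2, 377],
  [376, 315, 377],
  [378, 316, 377],
  [376, 317, 377],
  [378, 318, 377],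
  [378, 3, 379],
  [380, 4, 379],
  [380, 4, 381],
  [382, 5, 381],
  [384, 5, 385],
  [386, 6, 385],
  [386, 6, 387],
  [388, 7, 387],
  [388, 7, 389],
  [390, 8, 389],
  [390, 8, 391],
  [392, 9, 391],
  [392, 9, 393],
  [394, 10, 393],
  [394, 10, 395],
  [396, 11, 395],
  [394, 10, 395],
  [396, 10, 395],
  [397, 7, 396]]

/-- generators -/
def gn3 : List (ℕ × ℕ) := [(417, 417), (416, 415), (415, 416), (414, 414)]

/-- tree -/
def tr3 : List (ℕ × ℕ × ℕ × ℕ) := [(153, 389, 417, 417), (152, 389, 414, 414), (151, 153, 414, 414), (150, 152, 416, 415), (149, 152, 415, 416), (148, 151, 416, 415), (147, 151, 415, 416)]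

/-- roots -/
def rt3 : List ℕ := [389]

/-- solutions -/
def so3 : List ℕ := [150, 148, 151, 147, 389, 153, 149, 152]

/-- generators -/
def gn4 : List (ℕ × ℕ) := [(413, 413), (412, 412), (411, 411)]

/-- tree -/
def tr4 : List (ℕ × ℕ × ℕ × ℕ) := [(146, 382, 413, 413), (145, 382, 412, 412), (144, 382, 411, 411), (143, 146, 412, 412), (142, 146, 411, 411), (141, 145, 411, 411), (140, 143, 411, 411)]

/-- roots -/
def rt4 : List ℕ := [382]

/-- solutions -/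
def so4 : List ℕ := [143, 144, 145, 142, 141, 146, 140, 382]

/-- generators -/
def gn5 : List (ℕ × ℕ) := [(410, 410), (409, 409), (408, 407), (407, 408)]

/-- tree -/
def tr5 : List (ℕ × ℕ × ℕ × ℕ) := [(139, 375, 410, 410), (138, 375, 408, 407), (137, 375, 407, 408), (136, 139, 408, 407), (135, 139, 407, 408), (134, 138, 410, 410), (133, 138, 409, 409), (132, 137, 410, 410), (131, 137, 409, 409), (130, 136, 410, 410), (129, 136, 409, 409), (128, 135, 410, 410), (127, 135, 409, 409), (126, 134, 409, 409), (125, 134, 408, 407), (124, 134, 407, 408), (123, 133, 408, 407), (122, 133, 407, 408), (121, 132, 409, 409), (120, 132, 408, 407), (119, 132, 407, 408), (118, 131, 408, 407), (117, 131, 407, 408), (116, 130, 408, 407), (115, 130, 407, 408), (114, 129, 408, 407), (113, 128, 409, 409), (112, 128, 408, 407), (111, 128, 407, 408), (110, 126, 408, 407), (109, 126, 407, 408), (108, 125, 410,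 410), (107, 123, 410, 410), (106, 122, 410, 410), (105, 121, 408, 407), (104, 120, 409, 409), (103, 119, 410, 410), (102, 117, 410, 410), (101, 116, 410, 410), (100, 114, 410, 410), (99, 113, 408, 407), (98, 113, 407, 408), (97, 112, 409, 409), (96, 111, 410, 410), (95, 111, 409, 409), (94, 109, 410, 410), (93, 106, 408, 407)]

/-- roots -/
def rt5 : List ℕ := [375]

/-- solutions -/
def so5 : List ℕ := [128, 375, 102, 124, 122, 117, 105, 114, 126, 93, 123, 113, 94, 118, 115, 125, 132, 107, 110, 139, 112, 134, 129, 95, 97, 138, 119, 136, 108, 135, 96, 133, 106, 116, 111, 131, 121, 100, 99, 130, 127, 137, 104, 109, 101, 120, 103, 98]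

/-- generators -/
def gn6 : List (ℕ × ℕ) := [(406, 406), (405, 405), (404, 404)]

/-- tree -/
def tr6 : List (ℕ × ℕ × ℕ × ℕ) := [(92, 363, 406, 406), (91, 363, 404, 404), (90, 92, 404, 404), (89, 91, 406, 406), (88, 91, 405, 405), (87, 90, 406, 406), (86, 90, 405, 405), (85, 89, 405, 405), (84, 89, 404, 404), (83, 88, 404, 404), (82, 87, 405, 405), (81, 87, 404, 404), (80, 86, 404, 404), (79, 85, 404, 404), (78, 84, 406, 406), (77, 84, 405, 405), (76, 83, 406, 406), (75, 83, 405, 405), (74, 82, 404, 404), (73, 81, 406, 406), (72, 81, 405, 405), (71, 80, 406, 406), (70, 80, 405, 405), (69, 78, 405, 405), (68, 78, 404, 404), (67, 77, 404, 404), (66, 76, 405, 405), (65, 76, 404, 404), (64, 75, 404, 404), (63, 73, 405, 405), (62, 73, 404, 404), (61, 72, 404, 404), (60, 71, 405, 405), (59, 71, 404, 404), (58, 70, 404, 404), (57, 69, 404, 404), (56, 66, 404, 404), (55, 63, 404, 404), (54, 60,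 404, 404), (53, 57, 406, 406), (52, 57, 405, 405), (51, 55, 406, 406), (50, 55, 405, 405), (49, 53, 404, 404), (48, 52, 404, 404), (47, 51, 404, 404), (46, 50, 404, 404)]

/-- roots -/
def rt6 : List ℕ := [363]

/-- solutions -/
def so6 : List ℕ := [84, 78, 64, 58, 46, 63, 70, 65, 59, 89, 67, 79, 88, 90, 54, 69, 57, 87, 76, 62, 82, 91, 47, 72, 61, 48, 81, 53, 66, 92, 80, 71, 363, 74, 55, 50, 68, 73, 51, 52, 75, 86, 49, 83, 85, 60, 77, 56]

/-- generators -/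
def gn7 : List (ℕ × ℕ) := [(403, 402), (402, 403), (401, 401)]

/-- tree -/
def tr7 : List (ℕ × ℕ × ℕ × ℕ) := [(45, 360, 403, 402), (44, 360, 402, 403), (43, 360, 401, 401), (42, 45, 401, 401), (41, 44, 401, 401), (40, 43, 403, 402), (39, 43, 402, 403), (38, 42, 403, 402), (37, 42, 402, 403), (36, 41, 403, 402), (35, 41, 402, 403), (34, 40, 401, 401), (33, 39, 401, 401), (32, 38, 401, 401), (31, 37, 401, 401), (30, 36, 401, 401), (29, 35, 401, 401), (28, 34, 403, 402), (27, 33, 402, 403), (26, 32, 403, 402), (25, 28, 401, 401), (24, 27, 401, 401), (23, 26, 401, 401)]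

/-- roots -/
def rt7 : List ℕ := [360, 358]

/-- solutions -/
def so7 : List ℕ := [39, 45, 37, 23, 24, 43, 44, 358, 36, 32, 360, 25, 26, 40, 35, 38, 33, 42, 41, 34, 28, 30, 31, 29, 27]

/-- generators -/
def gn8 : List (ℕ × ℕ) := []

/-- tree -/
def tr8 : List (ℕ × ℕ × ℕ × ℕ) := []

/-- roots -/
def rt8 : List ℕ := [347]

/-- solutions -/
def so8 : List ℕ := [347]

/-- generators -/
def gn9 : List (ℕ × ℕ) := [(400, 399), (399, 400), (398, 397), (397, 398)]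

/-- tree -/
def tr9 : List (ℕ × ℕ × ℕ × ℕ) := [(22, 338, 400, 399), (21, 338, 399, 400), (20, 338, 398, 397), (19, 338, 397, 398), (18, 22, 398, 397), (17, 22, 397, 398), (16, 21, 398, 397), (15, 21, 397, 398), (14, 20, 400, 399), (13, 20, 399, 400), (12, 19, 400, 399), (11, 19, 399, 400), (10, 18, 400, 399), (9, 18, 399, 400), (8, 17, 400, 399), (7, 17, 399, 400), (6, 16, 400, 399), (5, 16, 399, 400), (4, 15, 400, 399), (3, 15, 399, 400), (2, 13, 398, 397), (1, 12, 397, 398), (0, 8, 397, 398)]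

/-- roots -/
def rt9 : List ℕ := [338, 333, 347]

/-- solutions -/
def so9 : List ℕ := [7, 0, 13, 12, 17, 338, 15, 1, 347, 11, 22, 19, 333, 10, 14, 4, 20, 3, 2, 5, 6, 8, 21, 16, 9, 18]

/-- the equations of a tree -/
def esT (T : List (ℕ × ℕ × ℕ × ℕ)) : List (List ℕ × List ℕ) := T.map fun e => ([e.1], [e.2.2.2, e.2.1, e.2.2.1])

/-- the equations of the generators -/
def esG (v : ℕ) (G : List (ℕ × ℕ)) : List (List ℕ × List ℕ) :=
  G.flatMap fun p => [([p.2, p.1], []), ([p.1, 436], [436, p.1]), ([p.1, v], [v, p.1])]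

/-- all equations -/
def esF : List (List ℕ × List ℕ) :=
  esT tr3 ++ (esT tr4 ++ (esT tr5 ++ (esT tr6 ++ (esT tr7 ++ (esT tr8 ++ (esT tr9 ++
  (esG 424 gn3 ++ (esG 423 gn4 ++ (esG 422 gn5 ++ (esG 421 gn6 ++ (esG 420 gn7 ++ (esG 419 gn8 ++ esG 418 gn9))))))))))))

/-- the keys of elements -/
def keysOf (L : List ℕ) (I K : List ℕ) : Bool :=
  List.rec (motive := fun _ => List ℕ → Bool) (fun K => List.rec true (fun _ _ _ => false) K)
    (fun i _ ih K => List.rec false (fun k K' _ =>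
      cond (Nat.beq (key 12159 24 (get (F2Mat.one 112) L i)) k) (ih K') false) K) I K

theorem keysOf_sound {L : List ℕ} {I K : List ℕ} (h : keysOf L I K = true) :
    List.Forall₂ (fun i k => key 12159 24 (get (F2Mat.one 112) L i) = k) I K := by
  induction I generalizing K with
  | nil =>
    rcases K with _ | ⟨k, K⟩
    · exact .nil
    · exact absurd h Bool.false_ne_true
  | cons i I ih =>
    rcases K with _ | ⟨k, K⟩
    · exact absurd h Bool.false_ne_true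
    · have h1 : cond (Nat.beq (key 12159 24 (get (F2Mat.one 112) L i)) k) (keysOf L I K) false = true := h
      rcases hb : Nat.beq (key 12159 24 (get (F2Mat.one 112) L i)) k with _ | _
      · rw [hb] at h1; exact absurd h1 Bool.false_ne_true
      · rw [hb] at h1
        exact .cons (Nat.eq_of_beq_eq_true hb) (ih h1)

/-- the environment -/
noncomputable def LF : List Cfsg.Spor.J4 := runG slpF LE

theorem slpF_length : slpF.length = 154 := by decide +kernel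

theorem getF_old (k : ℕ) : getG LF (154 + k) = getG LE k := getG_runG_old slpF LE slpF_length k

theorem map_LF : LF.map rho = runG (slpJ ++ slpE ++ slpF) (gens.map rho) := by
  rw [Cfsg.Agent.J4.Classes.runG_append, ← map_LE]
  unfold LF
  rw [runG_map]

theorem check : run 112 (slpJ ++ slpE ++ slpF) codes
    (fun L => an (eqs 112 esF L) (an (keysOf L so3 ks3) (an (keysOf L so4 ks4) (an (keysOf L so5 ks5)
      (an (keysOf L so6 ks6) (an (keysOf L so7 ks7) (an (keysOf L so8 ks8) (keysOf L so9 ks9)))))))) = true := by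
  rw [Lib.F112.run_eq, Lib.F112.eqs_eq]
  decide +kernel


theorem sound : (∀ p ∈ esF, evG LF p.1 = evG LF p.2) ∧ ∃ L', List.Forall₂ (Codes 112) (LF.map rho) L' ∧
    keysOf L' so3 ks3 = true ∧ keysOf L' so4 ks4 = true ∧ keysOf L' so5 ks5 = true ∧ keysOf L' so6 ks6 = true ∧
    keysOf L' so7 ks7 = true ∧ keysOf L' so8 ks8 = true ∧ keysOf L' so9 ks9 = true := by
  obtain ⟨L', h', hk⟩ := run_sound codes_gens check
  rw [← map_LF] at h'
  obtain ⟨hb, hk⟩ := an_eq hk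
  obtain ⟨h3, hk⟩ := an_eq hk
  obtain ⟨h4, hk⟩ := an_eq hk
  obtain ⟨h5, hk⟩ := an_eq hk
  obtain ⟨h6, hk⟩ := an_eq hk
  obtain ⟨h7, hk⟩ := an_eq hk
  obtain ⟨h8, h9⟩ := an_eq hk
  refine ⟨fun p hp => ?_, L', h', h3, h4, h5, h6, h7, h8, h9⟩
  apply rho_injective
  rw [← evG_map, ← evG_map]
  exact eqs_sound h' hb p hp

/-- growth of the set of good numbers -/
def grow : List ℕ → List (ℕ × ℕ × ℕ × ℕ) → List ℕ
  | R, [] => R
  | R, e :: T => if R.contains e.2.1 then grow (e.1 :: R) T else grow R T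

theorem tree {G : Type*} [Group G] {L : List G} {y v : G} {P : G → Prop} {gn : List (ℕ × ℕ)}
    (hg : ∀ p ∈ gn, getG L p.2 * getG L p.1 = 1 ∧ getG L p.1 * y = y * getG L p.1 ∧
      getG L p.1 * v = v * getG L p.1)
    {T : List (ℕ × ℕ × ℕ × ℕ)} (hT : ∀ e ∈ T, (e.2.2.1, e.2.2.2) ∈ gn ∧
      getG L e.1 = getG L e.2.2.2 * (getG L e.2.1 * getG L e.2.2.1)) {R : List ℕ}
    (hR : ∀ k ∈ R, ∃ c, c * y = y * c ∧ c * v = v * c ∧ P (c * getG L k * c⁻¹)) :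
    ∀ k ∈ grow R T, ∃ c, c * y = y * c ∧ c * v = v * c ∧ P (c * getG L k * c⁻¹) := by
  induction T generalizing R with
  | nil => exact hR
  | cons e T ih =>
    intro k hk
    unfold grow at hk
    split_ifs at hk with h
    · refine ih (fun e he => hT e (List.mem_cons_of_mem _ he)) ?_ k hk
      intro j hj
      rcases List.mem_cons.1 hj with rfl | hj
      · obtain ⟨h1, h2⟩ := hT e List.mem_cons_self
        obtain ⟨h3, h4, h5⟩ := hg _ h1
        obtain ⟨c, hc1, hc2, hc3⟩ := hR _ (List.contains_iff_mem.1 h)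
        simp only at h3 h4 h5
        have h6 : (getG L e.2.2.1)⁻¹ = getG L e.2.2.2 := inv_eq_of_mul_eq_one_left h3
        refine ⟨c * getG L e.2.2.1, ?_, ?_, ?_⟩
        · rw [mul_assoc, h4, ← mul_assoc, hc1, mul_assoc]
        · rw [mul_assoc, h5, ← mul_assoc, hc2, mul_assoc]
        · rw [h2, ← h6]
          have h7 : c * getG L e.2.2.1 * ((getG L e.2.2.1)⁻¹ * (getG L e.2.1 * getG L e.2.2.1)) *
              (c * getG L e.2.2.1)⁻¹ = c * getG L e.2.1 * c⁻¹ := by group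
          rw [h7]
          exact hc3
      · exact hR j hj
    · exact ih (fun e he => hT e (List.mem_cons_of_mem _ he)) hR k hk

end Cfsg.Agent.H878.JM.FiveTree

private theorem dce_f286a77a4ef9 : _root_.True := by
  try have : _root_.True := by simp only [_root_.Cfsg.Agent.H878.JM.FiveTree.grow.eq_def]
  exact _root_.True.intro
end

-- part: H878/JM/FiveTree_mg
section

end

-- part: H878/JM/Five
section
set_option linter.all false
open scoped Cfsg.Agent.FastGrp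

/-!
# The ten classes of triples `(y, v, a)` generating an `A5` in `J4` (Part III of S5580)

`five`: every triple `T5 y v a` is conjugate to one of `(y0, v3, a3)`, `(y0, v4, a4)`, `(y0, v5, a5)`, `(y0, v6, a6)`,
`(y0, v7, a7a)`, `(y0, v7, a7b)`, `(y0, v8, a8)`, `(y0, v9, a9a)`, `(y0, v9, a9b)`, `(y0, v9, a9c)`.
-/

set_option autoImplicit false

open Cfsg

namespace Cfsg.Agent.H878.JM.Five

open Cfsg.Agent.Lib Cfsg.Agent.Lib.F2MatGroup
open Cfsg.Agent.J4.Rep112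
open Cfsg.Agent.H858.VK
open Cfsg.Agent.H878.JM.Base Cfsg.Agent.H878.JM.Elts Cfsg.Agent.H878.JM.FiveTest Cfsg.Agent.H878.JM.FiveTree
open Cfsg.Agent.H111.JM.Eng Cfsg.Agent.H111.JM.Env Cfsg.Agent.H111.JM.TList
open Cfsg.Agent.H856.JM

instance finJ4 : Finite Cfsg.Spor.J4 := Cfsg.Agent.H858.VK.finite_J4

theorem all_tst (hcard : Nat.card {t // TY t} ≤ 10296) {t : Cfsg.Spor.J4} (ht : TY t) :
    ∃ M, Codes 112 (rho t) M ∧ tst M = true := by
  obtain ⟨M, h1, -, -, h2⟩ := VL_AT (mem_VL hcard ht)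
  exact ⟨M, h1, h2⟩

theorem TY_conj {c t : Cfsg.Spor.J4} (hc : c * y0 = y0 * c) (ht : TY (c * t * c⁻¹)) : TY t := by
  obtain ⟨h1, h2⟩ := ht
  have hc' : c⁻¹ * y0 * c = y0 := by rw [mul_assoc, ← hc, inv_mul_cancel_left]
  have hc2 : c * y0 * c⁻¹ = y0 := by rw [hc, mul_inv_cancel_right]
  constructor
  · have : t * t = c⁻¹ * (c * t * c⁻¹ * (c * t * c⁻¹)) * c := by group
    rw [this, h1, mul_one, inv_mul_cancel]
  · have h3 : t * y0 * t⁻¹ = c⁻¹ * (c * t * c⁻¹ * (c * y0 * c⁻¹) * (c * t * c⁻¹)⁻¹) * c := by group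
    rw [h3, hc2, h2]
    have h4 : c⁻¹ * y0⁻¹ * c = (c⁻¹ * y0 * c)⁻¹ := by group
    rw [h4, hc']

theorem TY_of {t : Cfsg.Spor.J4} (h1 : t * t = 1) (h2 : t * (y0 * (t * y0)) = 1) : TY t := by
  refine ⟨h1, ?_⟩
  have h3 : t⁻¹ = t := inv_eq_of_mul_eq_one_left h1
  rw [h3]
  refine eq_inv_of_mul_eq_one_left ?_
  rw [← h2]
  simp only [mul_assoc]

theorem gF {j k : ℕ} (h : 154 + k = j) : getG LF j = getG LE k := by rw [← h]; exact getF_old k

theorem e_a3 : getG LE 235 = a3 := by unfold a3; rfl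
theorem e_a4 : getG LE 228 = a4 := by unfold a4; rfl
theorem e_a5 : getG LE 221 = a5 := by unfold a5; rfl
theorem e_a6 : getG LE 209 = a6 := by unfold a6; rfl
theorem e_a7a : getG LE 206 = a7a := by unfold a7a; rfl
theorem e_a7b : getG LE 204 = a7b := by unfold a7b; rfl
theorem e_a8 : getG LE 193 = a8 := by unfold a8; rfl
theorem e_a9a : getG LE 184 = a9a := by unfold a9a; rfl
theorem e_a9b : getG LE 179 = a9b := by unfold a9b; rfl
theorem e_a9c : getG LE 193 = a9c := by unfold a9c; rfl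

/-- the solutions of `(v t)^3 = 1` -/
theorem sols {I K gn' : List ℕ} {gn : List (ℕ × ℕ)} {tr : List (ℕ × ℕ × ℕ × ℕ)} {v : Cfsg.Spor.J4} {vi : ℕ}
    {L' : List ℕ} (hL' : List.Forall₂ (Codes 112) (LF.map rho) L') (hk : keysOf L' I K = true)
    (hv : getG LF vi = v)
    (hes : ∀ q ∈ esT tr ++ esG vi gn, q ∈ esF)
    (hgn : (tr.all fun e => gn.contains (e.2.2.1, e.2.2.2)) = true)
    (hI : (I.all fun k => (grow gn' tr).contains k) = true)
    {P : Cfsg.Spor.J4 → Prop} (hP : ∀ k ∈ gn', P (getG LF k)) (hPT : ∀ x, P x → TY x)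
    (hcard : Nat.card {t // TY t} ≤ 10296) {t : Cfsg.Spor.J4} (ht : TY t)
    (hkey : ∀ M, Codes 112 (rho t) M → tst M = true → key 12159 24 M ∈ K) :
    ∃ c, c * y0 = y0 * c ∧ c * v = v * c ∧ P (c * t * c⁻¹) := by
  have hy : getG LF 436 = y0 := (gF (j := 436) (k := 282) (by norm_num)).trans e_y0
  have hT : ∀ e ∈ tr, (e.2.2.1, e.2.2.2) ∈ gn ∧
      getG LF e.1 = getG LF e.2.2.2 * (getG LF e.2.1 * getG LF e.2.2.1) := by
    intro e he
    refine ⟨List.contains_iff_mem.1 (List.all_eq_true.1 hgn e he), ?_⟩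
    have h1 := FiveTree.sound.1 _ (hes _ (List.mem_append_left _ (List.mem_map.2 ⟨e, he, rfl⟩)))
    simp only [evG_cons, evG_nil, mul_one] at h1
    exact h1
  have hg : ∀ p ∈ gn, getG LF p.2 * getG LF p.1 = 1 ∧ getG LF p.1 * y0 = y0 * getG LF p.1 ∧
      getG LF p.1 * v = v * getG LF p.1 := by
    intro p hp
    have h0 : ∀ q ∈ [([p.2, p.1], []), ([p.1, 436], [436, p.1]), ([p.1, vi], [vi, p.1])],
        evG LF q.1 = evG LF q.2 := fun q hq =>
      FiveTree.sound.1 q (hes q (List.mem_append_right _ (List.mem_flatMap.2 ⟨p, hp, hq⟩)))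
    refine ⟨?_, ?_, ?_⟩
    · have h1 := h0 ([p.2, p.1], []) (by simp)
      simpa only [evG_cons, evG_nil, mul_one] using h1
    · have h1 := h0 ([p.1, 436], [436, p.1]) (by simp)
      simpa only [evG_cons, evG_nil, mul_one, hy] using h1
    · have h1 := h0 ([p.1, vi], [vi, p.1]) (by simp)
      simpa only [evG_cons, evG_nil, mul_one, hv] using h1
  have key1 : ∀ k ∈ I, ∃ c, c * y0 = y0 * c ∧ c * v = v * c ∧ P (c * getG LF k * c⁻¹) := by
    intro k hk'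
    refine tree (P := P) hg hT (R := gn') ?_ k (List.contains_iff_mem.1 (List.all_eq_true.1 hI k hk'))
    intro k hk
    refine ⟨1, by simp, by simp, ?_⟩
    simpa using hP k hk
  obtain ⟨M, hM, htst⟩ := all_tst hcard ht
  have h1 := hkey M hM htst
  obtain ⟨k, hkI, hkk⟩ : ∃ k ∈ I, key 12159 24 (get (F2Mat.one 112) L' k) = key 12159 24 M := by
    have h2 := keysOf_sound hk
    clear hkey hI key1 hk
    induction h2 with
    | nil => exact absurd h1 List.not_mem_nil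
    | @cons i k I K h3 _ ih =>
      rcases List.mem_cons.1 h1 with h4 | h4
      · exact ⟨i, List.mem_cons_self, by rw [h3, h4]⟩
      · obtain ⟨j, hj, h5⟩ := ih h4
        exact ⟨j, List.mem_cons_of_mem _ hj, h5⟩
  obtain ⟨c, hc1, hc2, hc3⟩ := key1 k hkI
  have hTk : TY (getG LF k) := TY_conj hc1 (hPT _ hc3)
  have hck : Codes 112 (rho (getG LF k)) (get (F2Mat.one 112) L' k) := by
    have := codes_get hL' k
    rwa [getG_map] at this
  have heq : t = getG LF k := key_inj hcard ht hTk (a := key 12159 24 M) ⟨M, hM, rfl⟩ ⟨_, hck, hkk⟩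
  rw [heq]
  exact ⟨c, hc1, hc2, hc3⟩

theorem TY_a3 : TY a3 := by
  refine TY_of ?_ ?_
  · have h := Elts.sound.1 ([235, 235], []) (by decide)
    simp only [evG_cons, evG_nil, mul_one] at h
    exact h
  · have h := Elts.sound.1 ([235, 282, 235, 282], []) (by decide)
    simp only [evG_cons, evG_nil, mul_one, e_y0] at h
    exact h

theorem TY_a4 : TY a4 := by
  refine TY_of ?_ ?_
  · have h := Elts.sound.1 ([228, 228], []) (by decide)
    simp only [evG_cons, evG_nil, mul_one] at h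
    exact h
  · have h := Elts.sound.1 ([228, 282, 228, 282], []) (by decide)
    simp only [evG_cons, evG_nil, mul_one, e_y0] at h
    exact h

theorem TY_a5 : TY a5 := by
  refine TY_of ?_ ?_
  · have h := Elts.sound.1 ([221, 221], []) (by decide)
    simp only [evG_cons, evG_nil, mul_one] at h
    exact h
  · have h := Elts.sound.1 ([221, 282, 221, 282], []) (by decide)
    simp only [evG_cons, evG_nil, mul_one, e_y0] at h
    exact h

theorem TY_a6 : TY a6 := by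
  refine TY_of ?_ ?_
  · have h := Elts.sound.1 ([209, 209], []) (by decide)
    simp only [evG_cons, evG_nil, mul_one] at h
    exact h
  · have h := Elts.sound.1 ([209, 282, 209, 282], []) (by decide)
    simp only [evG_cons, evG_nil, mul_one, e_y0] at h
    exact h

theorem TY_a7a : TY a7a := by
  refine TY_of ?_ ?_
  · have h := Elts.sound.1 ([206, 206], []) (by decide)
    simp only [evG_cons, evG_nil, mul_one] at h
    exact h
  · have h := Elts.sound.1 ([206, 282, 206, 282], []) (by decide)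
    simp only [evG_cons, evG_nil, mul_one, e_y0] at h
    exact h

theorem TY_a7b : TY a7b := by
  refine TY_of ?_ ?_
  · have h := Elts.sound.1 ([204, 204], []) (by decide)
    simp only [evG_cons, evG_nil, mul_one] at h
    exact h
  · have h := Elts.sound.1 ([204, 282, 204, 282], []) (by decide)
    simp only [evG_cons, evG_nil, mul_one, e_y0] at h
    exact h

theorem TY_a8 : TY a8 := by
  refine TY_of ?_ ?_
  · have h := Elts.sound.1 ([193, 193], []) (by decide)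
    simp only [evG_cons, evG_nil, mul_one] at h
    exact h
  · have h := Elts.sound.1 ([193, 282, 193, 282], []) (by decide)
    simp only [evG_cons, evG_nil, mul_one, e_y0] at h
    exact h

theorem TY_a9a : TY a9a := by
  refine TY_of ?_ ?_
  · have h := Elts.sound.1 ([184, 184], []) (by decide)
    simp only [evG_cons, evG_nil, mul_one] at h
    exact h
  · have h := Elts.sound.1 ([184, 282, 184, 282], []) (by decide)
    simp only [evG_cons, evG_nil, mul_one, e_y0] at h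
    exact h

theorem TY_a9b : TY a9b := by
  refine TY_of ?_ ?_
  · have h := Elts.sound.1 ([179, 179], []) (by decide)
    simp only [evG_cons, evG_nil, mul_one] at h
    exact h
  · have h := Elts.sound.1 ([179, 282, 179, 282], []) (by decide)
    simp only [evG_cons, evG_nil, mul_one, e_y0] at h
    exact h

theorem TY_a9c : TY a9c := by
  refine TY_of ?_ ?_
  · have h := Elts.sound.1 ([193, 193], []) (by decide)
    simp only [evG_cons, evG_nil, mul_one] at h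
    exact h
  · have h := Elts.sound.1 ([193, 282, 193, 282], []) (by decide)
    simp only [evG_cons, evG_nil, mul_one, e_y0] at h
    exact h

theorem set3 (hcard : Nat.card {t // TY t} ≤ 10296) {t : Cfsg.Spor.J4} (ht : TY t) (h3 : (v3 * t) ^ 3 = 1) :
    ∃ c, c * y0 = y0 * c ∧ c * v3 = v3 * c ∧ (c * t * c⁻¹ = a3) := by
  obtain ⟨L', hL', k3, k4, k5, k6, k7, k8, k9⟩ := FiveTree.sound.2
  have hv : getG LF 424 = v3 := (gF (j := 424) (k := 270) (by norm_num)).trans e_v3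
  refine sols (P := fun x => x = a3) (gn' := rt3) (gn := gn3) (tr := tr3) hL' k3 hv ?_ (by decide +kernel)
    (by decide +kernel) ?_ ?_ hcard ht fun M hM htst => (tst_sound hM htst ht.1).2.2.1 h3
  · intro q hq
    have h : ((esT tr3 ++ esG 424 gn3).all fun q => esF.contains q) = true := by decide +kernel
    exact List.contains_iff_mem.1 (List.all_eq_true.1 h q hq)
  · simp only [rt3, List.forall_mem_cons, List.not_mem_nil, false_imp_iff, implies_true, and_true]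
    exact ((gF (j := 389) (k := 235) (by norm_num)).trans e_a3)
  · intro x hx; rw [hx]; exact TY_a3

theorem set4 (hcard : Nat.card {t // TY t} ≤ 10296) {t : Cfsg.Spor.J4} (ht : TY t) (h3 : (v4 * t) ^ 3 = 1) :
    ∃ c, c * y0 = y0 * c ∧ c * v4 = v4 * c ∧ (c * t * c⁻¹ = a4) := by
  obtain ⟨L', hL', k3, k4, k5, k6, k7, k8, k9⟩ := FiveTree.sound.2
  have hv : getG LF 423 = v4 := (gF (j := 423) (k := 269) (by norm_num)).trans e_v4
  refine sols (P := fun x => x = a4) (gn' := rt4) (gn := gn4) (tr := tr4) hL' k4 hv ?_ (by decide +kernel)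
    (by decide +kernel) ?_ ?_ hcard ht fun M hM htst => (tst_sound hM htst ht.1).2.2.2.1 h3
  · intro q hq
    have h : ((esT tr4 ++ esG 423 gn4).all fun q => esF.contains q) = true := by decide +kernel
    exact List.contains_iff_mem.1 (List.all_eq_true.1 h q hq)
  · simp only [rt4, List.forall_mem_cons, List.not_mem_nil, false_imp_iff, implies_true, and_true]
    exact ((gF (j := 382) (k := 228) (by norm_num)).trans e_a4)
  · intro x hx; rw [hx]; exact TY_a4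

theorem set5 (hcard : Nat.card {t // TY t} ≤ 10296) {t : Cfsg.Spor.J4} (ht : TY t) (h3 : (v5 * t) ^ 3 = 1) :
    ∃ c, c * y0 = y0 * c ∧ c * v5 = v5 * c ∧ (c * t * c⁻¹ = a5) := by
  obtain ⟨L', hL', k3, k4, k5, k6, k7, k8, k9⟩ := FiveTree.sound.2
  have hv : getG LF 422 = v5 := (gF (j := 422) (k := 268) (by norm_num)).trans e_v5
  refine sols (P := fun x => x = a5) (gn' := rt5) (gn := gn5) (tr := tr5) hL' k5 hv ?_ (by decide +kernel)
    (by decide +kernel) ?_ ?_ hcard ht fun M hM htst => (tst_sound hM htst ht.1).2.2.2.2.1 h3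
  · intro q hq
    have h : ((esT tr5 ++ esG 422 gn5).all fun q => esF.contains q) = true := by decide +kernel
    exact List.contains_iff_mem.1 (List.all_eq_true.1 h q hq)
  · simp only [rt5, List.forall_mem_cons, List.not_mem_nil, false_imp_iff, implies_true, and_true]
    exact ((gF (j := 375) (k := 221) (by norm_num)).trans e_a5)
  · intro x hx; rw [hx]; exact TY_a5

theorem set6 (hcard : Nat.card {t // TY t} ≤ 10296) {t : Cfsg.Spor.J4} (ht : TY t) (h3 : (v6 * t) ^ 3 = 1) :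
    ∃ c, c * y0 = y0 * c ∧ c * v6 = v6 * c ∧ (c * t * c⁻¹ = a6) := by
  obtain ⟨L', hL', k3, k4, k5, k6, k7, k8, k9⟩ := FiveTree.sound.2
  have hv : getG LF 421 = v6 := (gF (j := 421) (k := 267) (by norm_num)).trans e_v6
  refine sols (P := fun x => x = a6) (gn' := rt6) (gn := gn6) (tr := tr6) hL' k6 hv ?_ (by decide +kernel)
    (by decide +kernel) ?_ ?_ hcard ht fun M hM htst => (tst_sound hM htst ht.1).2.2.2.2.2.1 h3
  · intro q hq
    have h : ((esT tr6 ++ esG 421 gn6).all fun q => esF.contains q) = true := by decide +kernel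
    exact List.contains_iff_mem.1 (List.all_eq_true.1 h q hq)
  · simp only [rt6, List.forall_mem_cons, List.not_mem_nil, false_imp_iff, implies_true, and_true]
    exact ((gF (j := 363) (k := 209) (by norm_num)).trans e_a6)
  · intro x hx; rw [hx]; exact TY_a6

theorem set7 (hcard : Nat.card {t // TY t} ≤ 10296) {t : Cfsg.Spor.J4} (ht : TY t) (h3 : (v7 * t) ^ 3 = 1) :
    ∃ c, c * y0 = y0 * c ∧ c * v7 = v7 * c ∧ (c * t * c⁻¹ = a7a ∨ c * t * c⁻¹ = a7b) := by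
  obtain ⟨L', hL', k3, k4, k5, k6, k7, k8, k9⟩ := FiveTree.sound.2
  have hv : getG LF 420 = v7 := (gF (j := 420) (k := 266) (by norm_num)).trans e_v7
  refine sols (P := fun x => x = a7a ∨ x = a7b) (gn' := rt7) (gn := gn7) (tr := tr7) hL' k7 hv ?_ (by decide +kernel)
    (by decide +kernel) ?_ ?_ hcard ht fun M hM htst => (tst_sound hM htst ht.1).2.2.2.2.2.2.1 h3
  · intro q hq
    have h : ((esT tr7 ++ esG 420 gn7).all fun q => esF.contains q) = true := by decide +kernel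
    exact List.contains_iff_mem.1 (List.all_eq_true.1 h q hq)
  · simp only [rt7, List.forall_mem_cons, List.not_mem_nil, false_imp_iff, implies_true, and_true]
    exact ⟨Or.inl ((gF (j := 360) (k := 206) (by norm_num)).trans e_a7a), Or.inr ((gF (j := 358) (k := 204) (by norm_num)).trans e_a7b)⟩
  · rintro x (hx | hx)
    · rw [hx]; exact TY_a7a
    · rw [hx]; exact TY_a7b

theorem set8 (hcard : Nat.card {t // TY t} ≤ 10296) {t : Cfsg.Spor.J4} (ht : TY t) (h3 : (v8 * t) ^ 3 = 1) :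
    ∃ c, c * y0 = y0 * c ∧ c * v8 = v8 * c ∧ (c * t * c⁻¹ = a8) := by
  obtain ⟨L', hL', k3, k4, k5, k6, k7, k8, k9⟩ := FiveTree.sound.2
  have hv : getG LF 419 = v8 := (gF (j := 419) (k := 265) (by norm_num)).trans e_v8
  refine sols (P := fun x => x = a8) (gn' := rt8) (gn := gn8) (tr := tr8) hL' k8 hv ?_ (by decide +kernel)
    (by decide +kernel) ?_ ?_ hcard ht fun M hM htst => (tst_sound hM htst ht.1).2.2.2.2.2.2.2.1 h3
  · intro q hq
    have h : ((esT tr8 ++ esG 419 gn8).all fun q => esF.contains q) = true := by decide +kernel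
    exact List.contains_iff_mem.1 (List.all_eq_true.1 h q hq)
  · simp only [rt8, List.forall_mem_cons, List.not_mem_nil, false_imp_iff, implies_true, and_true]
    exact ((gF (j := 347) (k := 193) (by norm_num)).trans e_a8)
  · intro x hx; rw [hx]; exact TY_a8

theorem set9 (hcard : Nat.card {t // TY t} ≤ 10296) {t : Cfsg.Spor.J4} (ht : TY t) (h3 : (v9 * t) ^ 3 = 1) :
    ∃ c, c * y0 = y0 * c ∧ c * v9 = v9 * c ∧ (c * t * c⁻¹ = a9a ∨ c * t * c⁻¹ = a9b ∨ c * t * c⁻¹ = a9c) := by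
  obtain ⟨L', hL', k3, k4, k5, k6, k7, k8, k9⟩ := FiveTree.sound.2
  have hv : getG LF 418 = v9 := (gF (j := 418) (k := 264) (by norm_num)).trans e_v9
  refine sols (P := fun x => x = a9a ∨ x = a9b ∨ x = a9c) (gn' := rt9) (gn := gn9) (tr := tr9) hL' k9 hv ?_ (by decide +kernel)
    (by decide +kernel) ?_ ?_ hcard ht fun M hM htst => (tst_sound hM htst ht.1).2.2.2.2.2.2.2.2 h3
  · intro q hq
    have h : ((esT tr9 ++ esG 418 gn9).all fun q => esF.contains q) = true := by decide +kernel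
    exact List.contains_iff_mem.1 (List.all_eq_true.1 h q hq)
  · simp only [rt9, List.forall_mem_cons, List.not_mem_nil, false_imp_iff, implies_true, and_true]
    exact ⟨Or.inl ((gF (j := 338) (k := 184) (by norm_num)).trans e_a9a), Or.inr (Or.inl ((gF (j := 333) (k := 179) (by norm_num)).trans e_a9b)), Or.inr (Or.inr ((gF (j := 347) (k := 193) (by norm_num)).trans e_a9c))⟩
  · rintro x (hx | hx | hx)
    · rw [hx]; exact TY_a9a
    · rw [hx]; exact TY_a9b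
    · rw [hx]; exact TY_a9c

theorem set1 (hcard : Nat.card {t // TY t} ≤ 10296) {t : Cfsg.Spor.J4} (ht : TY t) (h3 : (v1 * t) ^ 3 = 1) :
    False := by
  obtain ⟨M, hM, htst⟩ := all_tst hcard ht
  exact absurd ((tst_sound hM htst ht.1).1 h3) List.not_mem_nil

theorem set2 (hcard : Nat.card {t // TY t} ≤ 10296) {t : Cfsg.Spor.J4} (ht : TY t) (h3 : (v2 * t) ^ 3 = 1) :
    False := by
  obtain ⟨M, hM, htst⟩ := all_tst hcard ht
  exact absurd ((tst_sound hM htst ht.1).2.1 h3) List.not_mem_nil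

/-- the classification of the pairs `(y, v)` generating an `A4` -/
def E2 : Prop := ∀ y v : Cfsg.Spor.J4, T4 y v → ∃ g, g * y * g⁻¹ = y0 ∧
  (g * v * g⁻¹ = v1 ∨ g * v * g⁻¹ = v2 ∨ g * v * g⁻¹ = v3 ∨ g * v * g⁻¹ = v4 ∨ g * v * g⁻¹ = v5 ∨
    g * v * g⁻¹ = v6 ∨ g * v * g⁻¹ = v7 ∨ g * v * g⁻¹ = v8 ∨ g * v * g⁻¹ = v9)

theorem TY_cj {g y a : Cfsg.Spor.J4} (hg : g * y * g⁻¹ = y0) (h1 : a * a = 1) (h2 : a * y * a⁻¹ = y⁻¹) :
    TY (g * a * g⁻¹) := by
  constructor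
  · have : g * a * g⁻¹ * (g * a * g⁻¹) = g * (a * a) * g⁻¹ := by group
    rw [this, h1, mul_one, mul_inv_cancel]
  · rw [← hg]
    have : g * a * g⁻¹ * (g * y * g⁻¹) * (g * a * g⁻¹)⁻¹ = g * (a * y * a⁻¹) * g⁻¹ := by group
    rw [this, h2]
    group

theorem cube_cj {g v a w : Cfsg.Spor.J4} (hg : g * v * g⁻¹ = w) (h : (v * a) ^ 3 = 1) :
    (w * (g * a * g⁻¹)) ^ 3 = 1 := by
  have : w * (g * a * g⁻¹) = g * (v * a) * g⁻¹ := by rw [← hg]; group
  rw [this, conj_pow, h, mul_one, mul_inv_cancel]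

theorem fin_cj {c g y v a w x : Cfsg.Spor.J4} (hg : g * y * g⁻¹ = y0) (hgv : g * v * g⁻¹ = w) (hc : c * y0 = y0 * c)
    (hcw : c * w = w * c) (hx : c * (g * a * g⁻¹) * c⁻¹ = x) :
    c * g * y * (c * g)⁻¹ = y0 ∧ c * g * v * (c * g)⁻¹ = w ∧ c * g * a * (c * g)⁻¹ = x := by
  refine ⟨?_, ?_, ?_⟩
  · have : c * g * y * (c * g)⁻¹ = c * (g * y * g⁻¹) * c⁻¹ := by group
    rw [this, hg, hc, mul_inv_cancel_right]
  · have : c * g * v * (c * g)⁻¹ = c * (g * v * g⁻¹) * c⁻¹ := by group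
    rw [this, hgv, hcw, mul_inv_cancel_right]
  · rw [← hx]; group

/-- **The ten classes.** -/
theorem five (hcard : Nat.card {t // TY t} ≤ 10296) (hE : E2) {y v a : Cfsg.Spor.J4} (h : T5 y v a) :
    ∃ g, g * y * g⁻¹ = y0 ∧ (
      (g * v * g⁻¹ = v3 ∧ g * a * g⁻¹ = a3) ∨
      (g * v * g⁻¹ = v4 ∧ g * a * g⁻¹ = a4) ∨
      (g * v * g⁻¹ = v5 ∧ g * a * g⁻¹ = a5) ∨
      (g * v * g⁻¹ = v6 ∧ g * a * g⁻¹ = a6) ∨
      (g * v * g⁻¹ = v7 ∧ g * a * g⁻¹ = a7a) ∨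
      (g * v * g⁻¹ = v7 ∧ g * a * g⁻¹ = a7b) ∨
      (g * v * g⁻¹ = v8 ∧ g * a * g⁻¹ = a8) ∨
      (g * v * g⁻¹ = v9 ∧ g * a * g⁻¹ = a9a) ∨
      (g * v * g⁻¹ = v9 ∧ g * a * g⁻¹ = a9b) ∨
      (g * v * g⁻¹ = v9 ∧ g * a * g⁻¹ = a9c)) := by
  obtain ⟨g, hg, hv⟩ := hE y v h.toT4
  have hT := TY_cj hg h.asq h.ainv
  rcases hv with hv | hv | hv | hv | hv | hv | hv | hv | hv
  · exact (set1 hcard hT (cube_cj hv h.abr)).elim
  · exact (set2 hcard hT (cube_cj hv h.abr)).elim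
  · obtain ⟨c, h1, h2, hc⟩ := set3 hcard hT (cube_cj hv h.abr)
    obtain ⟨h3, h4, h5⟩ := fin_cj hg hv h1 h2 hc
    exact ⟨c * g, h3, Or.inl ⟨h4, h5⟩⟩
  · obtain ⟨c, h1, h2, hc⟩ := set4 hcard hT (cube_cj hv h.abr)
    obtain ⟨h3, h4, h5⟩ := fin_cj hg hv h1 h2 hc
    exact ⟨c * g, h3, Or.inr (Or.inl ⟨h4, h5⟩)⟩
  · obtain ⟨c, h1, h2, hc⟩ := set5 hcard hT (cube_cj hv h.abr)
    obtain ⟨h3, h4, h5⟩ := fin_cj hg hv h1 h2 hc
    exact ⟨c * g, h3, Or.inr (Or.inr (Or.inl ⟨h4, h5⟩))⟩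
  · obtain ⟨c, h1, h2, hc⟩ := set6 hcard hT (cube_cj hv h.abr)
    obtain ⟨h3, h4, h5⟩ := fin_cj hg hv h1 h2 hc
    exact ⟨c * g, h3, Or.inr (Or.inr (Or.inr (Or.inl ⟨h4, h5⟩)))⟩
  · obtain ⟨c, h1, h2, (hc | hc)⟩ := set7 hcard hT (cube_cj hv h.abr)
    · obtain ⟨h3, h4, h5⟩ := fin_cj hg hv h1 h2 hc
      exact ⟨c * g, h3, Or.inr (Or.inr (Or.inr (Or.inr (Or.inl ⟨h4, h5⟩))))⟩
    · obtain ⟨h3, h4, h5⟩ := fin_cj hg hv h1 h2 hc
      exact ⟨c * g, h3, Or.inr (Or.inr (Or.inr (Or.inr (Or.inr (Or.inl ⟨h4, h5⟩)))))⟩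
  · obtain ⟨c, h1, h2, hc⟩ := set8 hcard hT (cube_cj hv h.abr)
    obtain ⟨h3, h4, h5⟩ := fin_cj hg hv h1 h2 hc
    exact ⟨c * g, h3, Or.inr (Or.inr (Or.inr (Or.inr (Or.inr (Or.inr (Or.inl ⟨h4, h5⟩))))))⟩
  · obtain ⟨c, h1, h2, (hc | hc | hc)⟩ := set9 hcard hT (cube_cj hv h.abr)
    · obtain ⟨h3, h4, h5⟩ := fin_cj hg hv h1 h2 hc
      exact ⟨c * g, h3, Or.inr (Or.inr (Or.inr (Or.inr (Or.inr (Or.inr (Or.inr (Or.inl ⟨h4, h5⟩)))))))⟩
    · obtain ⟨h3, h4, h5⟩ := fin_cj hg hv h1 h2 hc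
      exact ⟨c * g, h3, Or.inr (Or.inr (Or.inr (Or.inr (Or.inr (Or.inr (Or.inr (Or.inr (Or.inl ⟨h4, h5⟩))))))))⟩
    · obtain ⟨h3, h4, h5⟩ := fin_cj hg hv h1 h2 hc
      exact ⟨c * g, h3, Or.inr (Or.inr (Or.inr (Or.inr (Or.inr (Or.inr (Or.inr (Or.inr (Or.inr (⟨h4, h5⟩)))))))))⟩

end Cfsg.Agent.H878.JM.Five

private theorem dce_2d62d58db479 : _root_.True := by
  try have : _root_.True := by simp only [_root_.Cfsg.Agent.H878.JM.FiveTree.rt6.eq_1]
  try have : _root_.True := by simp only [_root_.Cfsg.Agent.H878.JM.FiveTree.rt4.eq_1]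
  try have : _root_.True := by simp only [_root_.Cfsg.Agent.H111.JM.TList.PL.eq_1]
  try have : _root_.True := by simp only [_root_.Cfsg.Agent.H878.JM.FiveTree.rt9.eq_1]
  try have : _root_.True := by simp only [_root_.Cfsg.Agent.H878.JM.FiveTree.rt7.eq_1]
  try have : _root_.True := by simp only [_root_.Cfsg.Agent.H878.JM.FiveTree.rt3.eq_1]
  try have : _root_.True := by simp only [_root_.Cfsg.Agent.H878.JM.FiveTree.rt5.eq_1]
  try have : _root_.True := by simp only [_root_.Cfsg.Agent.H878.JM.FiveTree.rt8.eq_1]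
  exact _root_.True.intro
end

-- part: H856/JM/An
section
prune_inst 0x7f00000000000000000000000000000000000000000000000000000000000000000000000000000000000000000000000000000000000000000000000000000000000000000000000000000000000000003fffffffffffffffffffffffffffbeffbdffffffff
set_option linter.all false
open scoped Cfsg.Agent.FastGrp

-- part: H856/JM/AutPerm
section
/-!
# Groups normalizing an alternating group, abstract form

`f : A_n →* G` injective with image `S`; `τ` acts on `S` as the transposition `(0 1)`.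
-/

set_option autoImplicit false

namespace Cfsg.Agent.H856.JM

open Equiv

variable {G : Type*} [Group G] {k : ℕ}

/-- `m` acts on the image of `f` as the permutation `σ` -/
def Acts (f : alternatingGroup (Fin (k + 3)) →* G) (m : G) (σ : Perm (Fin (k + 3))) : Prop :=
  ∀ x : alternatingGroup (Fin (k + 3)), m * f x * m⁻¹ = f (MulAut.conjNormal σ x)

variable {f : alternatingGroup (Fin (k + 3)) →* G}

theorem Acts.mul {m m' : G} {σ σ' : Perm (Fin (k + 3))} (h : Acts f m σ) (h' : Acts f m' σ') :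
    Acts f (m * m') (σ * σ') := by
  intro x
  rw [map_mul, MulAut.mul_apply, ← h, ← h']
  group

theorem Acts.inner (a : alternatingGroup (Fin (k + 3))) : Acts f (f a) (a : Perm (Fin (k + 3))) := by
  intro x
  rw [← map_mul, ← map_inv, ← map_mul]
  congr 1

theorem Acts.inv {m : G} {σ : Perm (Fin (k + 3))} (h : Acts f m σ) : Acts f m⁻¹ σ⁻¹ := by
  intro x
  have h1 := h (MulAut.conjNormal σ⁻¹ x)
  rw [← MulAut.mul_apply, ← map_mul, mul_inv_cancel, map_one, MulAut.one_apply] at h1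
  rw [← h1]
  group

theorem Acts.eq_one {m : G} (h : Acts f m 1) (hC : ∀ c : G, (∀ x, c * f x = f x * c) → c = 1) :
    m = 1 := by
  apply hC
  intro x
  have h1 := h x
  rw [map_one, MulAut.one_apply] at h1
  rwa [mul_inv_eq_iff_eq_mul] at h1

theorem Acts.uniq {m m' : G} {σ : Perm (Fin (k + 3))} (h : Acts f m σ) (h' : Acts f m' σ)
    (hC : ∀ c : G, (∀ x, c * f x = f x * c) → c = 1) : m = m' := by
  have h1 := h.mul h'.inv
  rw [mul_inv_cancel] at h1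
  exact mul_inv_eq_one.1 (h1.eq_one hC)

/-- every element normalizing the image acts as a permutation (`n ≠ 6`) -/
theorem exists_acts (hk : 1 ≤ k) (h3 : k ≠ 3) (hf : Function.Injective f) {m : G}
    (hm : ∀ x, ∃ z, m * f x * m⁻¹ = f z) (hm' : ∀ x, ∃ z, m⁻¹ * f x * m = f z) :
    ∃ σ, Acts f m σ := by
  choose φ hφ using hm
  choose ψ hψ using hm'
  have e1 : ∀ x, ψ (φ x) = x := by
    intro x
    apply hf
    rw [← hψ, ← hφ]
    group
  have e2 : ∀ x, φ (ψ x) = x := by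
    intro x
    apply hf
    rw [← hφ, ← hψ]
    group
  let α : MulAut (alternatingGroup (Fin (k + 3))) :=
    { toFun := φ
      invFun := ψ
      left_inv := e1
      right_inv := e2
      map_mul' := by
        intro x z
        apply hf
        rw [map_mul, ← hφ, ← hφ, ← hφ, map_mul]
        group }
  obtain ⟨σ, hσ⟩ := (S2119.result (k + 3) (by omega) (by omega)).2 α
  refine ⟨σ, fun x => ?_⟩
  rw [hφ, hσ]
  rfl

/-- an element acting as an even permutation is in the image -/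
theorem Acts.mem {m : G} {σ : Perm (Fin (k + 3))} (h : Acts f m σ)
    (hC : ∀ c : G, (∀ x, c * f x = f x * c) → c = 1) (hσ : Perm.sign σ = 1) :
    ∃ x, m = f x := by
  refine ⟨⟨σ, Perm.mem_alternatingGroup.2 hσ⟩, h.uniq ?_ hC⟩
  exact Acts.inner (⟨σ, Perm.mem_alternatingGroup.2 hσ⟩ : alternatingGroup (Fin (k + 3)))

/-- an element acting as an odd permutation gives an element `τ` acting as `(0 1)` -/
theorem Acts.odd {m : G} {σ : Perm (Fin (k + 3))} (h : Acts f m σ) (hσ : Perm.sign σ = -1) :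
    ∃ x, Acts f (f x * m) (swap 0 1) := by
  have h1 : Perm.sign (swap 0 1 * σ⁻¹ : Perm (Fin (k + 3))) = 1 := by
    rw [Perm.sign_mul, Perm.sign_inv, hσ, Perm.sign_swap (by simp)]
    decide
  refine ⟨⟨_, Perm.mem_alternatingGroup.2 h1⟩, ?_⟩
  have h2 := (Acts.inner (f := f) ⟨_, Perm.mem_alternatingGroup.2 h1⟩).mul h
  rwa [inv_mul_cancel_right] at h2

/-- the element `τ` acting as the transposition `(0 1)` -/
theorem Acts.sq {m : G} (h : Acts f m (swap 0 1))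
    (hC : ∀ c : G, (∀ x, c * f x = f x * c) → c = 1) : m * m = 1 := by
  have h1 := h.mul h
  rw [swap_mul_self] at h1
  exact h1.eq_one hC

theorem conj_mo_zero (k : ℕ) : MulAut.conjNormal (swap 0 1) (mg k 0) = (mg k 0)⁻¹ := by
  apply Subtype.ext
  rw [MulAut.conjNormal_apply]
  have h1 : (swap 0 1 : Perm (Fin (k + 3))) = S3335.tr k 0 := rfl
  have h2 : ((mg k 0 : alternatingGroup (Fin (k + 3))) : Perm (Fin (k + 3))) =
    S3335.tr k 0 * S3335.tr k 1 := rfl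
  have h3 : ∀ i, (S3335.tr k i)⁻¹ = S3335.tr k i := fun i =>
    inv_eq_of_mul_eq_one_left (S3335.tr_mul k i)
  rw [InvMemClass.coe_inv, h2, mul_inv_rev, h1, h3, h3, ← mul_assoc, S3335.tr_mul, one_mul]

theorem conj_mo_pos {k : ℕ} {i : Fin (k + 1)} (hi : 1 ≤ i.val) :
    MulAut.conjNormal (swap 0 1) (mg k i) = mg k i := by
  apply Subtype.ext
  rw [MulAut.conjNormal_apply]
  have h1 : (swap 0 1 : Perm (Fin (k + 3))) = S3335.tr k 0 := rfl
  have h2 : ((mg k i : alternatingGroup (Fin (k + 3))) : Perm (Fin (k + 3))) =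
    S3335.tr k 0 * S3335.tr k i.succ := rfl
  have h3 : (S3335.tr k 0)⁻¹ = S3335.tr k 0 := inv_eq_of_mul_eq_one_left (S3335.tr_mul k 0)
  have h4 : S3335.tr k 0 * S3335.tr k i.succ = S3335.tr k i.succ * S3335.tr k 0 :=
    S3335.comm_of_ne (by rw [Fin.val_succ, Fin.val_zero]; omega)
  rw [h2, h1, h3, mul_assoc, mul_assoc, ← h4, ← mul_assoc, ← mul_assoc, S3335.tr_mul, one_mul]

theorem Acts.inv_y {m : G} (h : Acts f m (swap 0 1)) : m * f (mg k 0) * m⁻¹ = (f (mg k 0))⁻¹ := by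
  rw [h, conj_mo_zero, map_inv]

theorem Acts.comm {m : G} (h : Acts f m (swap 0 1)) (i : Fin (k + 1)) (hi : 1 ≤ i.val) :
    m * f (mg k i) = f (mg k i) * m := by
  have h1 := h (mg k i)
  rwa [conj_mo_pos hi, mul_inv_eq_iff_eq_mul] at h1

theorem Acts.ne_one {m : G} (h : Acts f m (swap 0 1)) (hf : Function.Injective f) : m ≠ 1 := by
  intro h1
  subst h1
  have h2 := h.inv_y
  rw [one_mul, inv_one, mul_one] at h2
  have h3 : f (mg k 0) * f (mg k 0) = 1 := by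
    nth_rewrite 1 [h2]
    rw [inv_mul_cancel]
  have h4 := tr_cube f
  rw [h3, one_mul] at h4
  exact tr_ne f hf 0 h4

/-- a group `M` between the image and its normalizer (`n ≠ 6`) -/
theorem dichotomy (hk : 1 ≤ k) (h3 : k ≠ 3) (hf : Function.Injective f)
    (hC : ∀ c : G, (∀ x, c * f x = f x * c) → c = 1) {M : Subgroup G} (hle : f.range ≤ M)
    (hM : M ≤ Subgroup.normalizer (f.range : Set G)) :
    M = f.range ∨ ∃ τ ∈ M, Acts f τ (swap 0 1) ∧ ∀ m ∈ M, m ∈ f.range ∨ ∃ s ∈ f.range, m = s * τ := by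
  have hact : ∀ m ∈ M, ∃ σ, Acts f m σ := by
    intro m hm
    refine exists_acts hk h3 hf (fun x => ?_) (fun x => ?_)
    · have h1 := (Subgroup.mem_normalizer_iff.1 (hM hm) (f x)).1 ⟨x, rfl⟩
      obtain ⟨z, hz⟩ := h1
      exact ⟨z, hz.symm⟩
    · have h1 := (Subgroup.mem_normalizer_iff.1 (hM (M.inv_mem hm)) (f x)).1 ⟨x, rfl⟩
      rw [inv_inv] at h1
      obtain ⟨z, hz⟩ := h1
      exact ⟨z, hz.symm⟩
  by_cases h : ∃ m ∈ M, ∃ σ, Acts f m σ ∧ Perm.sign σ = -1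
  · right
    obtain ⟨m, hm, σ, hσ, hs⟩ := h
    obtain ⟨x, hx⟩ := hσ.odd hs
    refine ⟨f x * m, M.mul_mem (hle ⟨x, rfl⟩) hm, hx, fun m' hm' => ?_⟩
    obtain ⟨σ', hσ'⟩ := hact m' hm'
    rcases Int.units_eq_one_or (Perm.sign σ') with h1 | h1
    · left
      obtain ⟨z, hz⟩ := hσ'.mem hC h1
      exact ⟨z, hz.symm⟩
    · right
      have h2 := hσ'.mul hx.inv
      have h4 : Perm.sign (σ' * (swap 0 1)⁻¹ : Perm (Fin (k + 3))) = 1 := by
        rw [Perm.sign_mul, Perm.sign_inv, h1, Perm.sign_swap (by simp)]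
        decide
      obtain ⟨z, hz⟩ := h2.mem hC h4
      exact ⟨f z, ⟨z, rfl⟩, by rw [← hz, inv_mul_cancel_right]⟩
  · left
    apply le_antisymm _ hle
    intro m hm
    obtain ⟨σ, hσ⟩ := hact m hm
    rcases Int.units_eq_one_or (Perm.sign σ) with h1 | h1
    · obtain ⟨z, hz⟩ := hσ.mem hC h1
      exact ⟨z, hz.symm⟩
    · exact absurd ⟨m, hm, σ, hσ, h1⟩ h

/-- degree 6: the elements acting as permutations form a subgroup `N` of index at most 2 in `M` -/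
theorem dichotomy_six {f : alternatingGroup (Fin (3 + 3)) →* G} (hf : Function.Injective f)
    (hC : ∀ c : G, (∀ x, c * f x = f x * c) → c = 1) {M : Subgroup G} (hle : f.range ≤ M)
    (hM : M ≤ Subgroup.normalizer (f.range : Set G)) :
    ∃ N : Subgroup G, f.range ≤ N ∧ N ≤ M ∧ (∀ m ∈ M, ∀ m' ∈ M, m ∉ N → m' ∉ N → m * m' ∈ N) ∧
      (N = f.range ∨ ∃ τ ∈ N, Acts f τ (swap 0 1) ∧
        ∀ m ∈ N, m ∈ f.range ∨ ∃ s ∈ f.range, m = s * τ) := by
  let N : Subgroup G :=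
    { carrier := {m | m ∈ M ∧ ∃ σ, Acts f m σ}
      one_mem' := ⟨M.one_mem, 1, fun x => by
        rw [map_one, MulAut.one_apply, one_mul, inv_one, mul_one]⟩
      mul_mem' := by
        rintro a b ⟨ha, σ, hσ⟩ ⟨hb, σ', hσ'⟩
        exact ⟨M.mul_mem ha hb, _, hσ.mul hσ'⟩
      inv_mem' := by
        rintro a ⟨ha, σ, hσ⟩
        exact ⟨M.inv_mem ha, _, hσ.inv⟩ }
  have hN : ∀ m, m ∈ N ↔ m ∈ M ∧ ∃ σ, Acts f m σ := fun m => Iff.rfl
  have hSN : f.range ≤ N := by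
    rintro _ ⟨x, rfl⟩
    exact ⟨hle ⟨x, rfl⟩, _, Acts.inner x⟩
  refine ⟨N, hSN, fun m hm => hm.1, ?_, ?_⟩
  · -- products of two elements outside `N`
    have haut : ∀ m ∈ M, ∃ α : MulAut (alternatingGroup (Fin 6)), ∀ x, m * f x * m⁻¹ = f (α x) := by
      intro m hm
      have h1 : ∀ x, ∃ z, m * f x * m⁻¹ = f z := by
        intro x
        obtain ⟨z, hz⟩ := (Subgroup.mem_normalizer_iff.1 (hM hm) (f x)).1 ⟨x, rfl⟩
        exact ⟨z, hz.symm⟩
      have h2 : ∀ x, ∃ z, m⁻¹ * f x * m = f z := by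
        intro x
        have h1 := (Subgroup.mem_normalizer_iff.1 (hM (M.inv_mem hm)) (f x)).1 ⟨x, rfl⟩
        rw [inv_inv] at h1
        obtain ⟨z, hz⟩ := h1
        exact ⟨z, hz.symm⟩
      choose φ hφ using h1
      choose ψ hψ using h2
      have e1 : ∀ x, ψ (φ x) = x := by
        intro x
        apply hf
        rw [← hψ, ← hφ]
        group
      have e2 : ∀ x, φ (ψ x) = x := by
        intro x
        apply hf
        rw [← hφ, ← hψ]
        group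
      exact ⟨{ toFun := φ
               invFun := ψ
               left_inv := e1
               right_inv := e2
               map_mul' := by
                intro x z
                apply hf
                rw [map_mul, ← hφ, ← hφ, ← hφ, map_mul]
                group }, hφ⟩
    have key : ∀ m ∈ M, ∀ α : MulAut (alternatingGroup (Fin 6)), (∀ x, m * f x * m⁻¹ = f (α x)) →
        (m ∈ N ↔ StdAlt.Six.NS α) := by
      intro m hm α hα
      rw [hN, StdAlt.Six.ns_iff]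
      constructor
      · rintro ⟨-, σ, hσ⟩
        refine ⟨σ, MulEquiv.ext fun x => hf ?_⟩
        rw [← hα, hσ]
        rfl
      · rintro ⟨σ, rfl⟩
        exact ⟨hm, σ, fun x => hα x⟩
    intro m hm m' hm' h1 h2
    obtain ⟨α, hα⟩ := haut m hm
    obtain ⟨β, hβ⟩ := haut m' hm'
    rw [key m hm α hα] at h1
    rw [key m' hm' β hβ] at h2
    rw [key (m * m') (M.mul_mem hm hm') (α * β) ?_]
    · exact StdAlt.Six.NS.mul_of_not h1 h2
    · intro x
      rw [MulAut.mul_apply, ← hα, ← hβ]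
      group
  · by_cases h : ∃ m ∈ N, ∃ σ, Acts f m σ ∧ Perm.sign σ = -1
    · right
      obtain ⟨m, hm, σ, hσ, hs⟩ := h
      obtain ⟨x, hx⟩ := hσ.odd hs
      refine ⟨f x * m, N.mul_mem (hSN ⟨x, rfl⟩) hm, hx, fun m' hm' => ?_⟩
      obtain ⟨-, σ', hσ'⟩ := (hN _).1 hm'
      rcases Int.units_eq_one_or (Perm.sign σ') with h1 | h1
      · left
        obtain ⟨z, hz⟩ := hσ'.mem hC h1
        exact ⟨z, hz.symm⟩
      · right
        have h2 := hσ'.mul hx.inv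
        have h4 : Perm.sign (σ' * (swap 0 1)⁻¹ : Perm (Fin (3 + 3))) = 1 := by
          rw [Perm.sign_mul, Perm.sign_inv, h1, Perm.sign_swap (by simp)]
          decide
        obtain ⟨z, hz⟩ := h2.mem hC h4
        exact ⟨f z, ⟨z, rfl⟩, by rw [← hz, inv_mul_cancel_right]⟩
    · left
      apply le_antisymm _ hSN
      intro m hm
      obtain ⟨-, σ, hσ⟩ := (hN _).1 hm
      rcases Int.units_eq_one_or (Perm.sign σ) with h1 | h1
      · obtain ⟨z, hz⟩ := hσ.mem hC h1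
        exact ⟨z, hz.symm⟩
      · exact absurd ⟨m, hm, σ, hσ, h1⟩ h

end Cfsg.Agent.H856.JM
end

-- part: H856/JM/Stab
section
/-!
# Stabilizers of row vectors in `J4`; no nonzero vector is fixed
-/

set_option autoImplicit false

open Cfsg

namespace Cfsg.Agent.H856.JM

open Cfsg.Agent.Lib Cfsg.Agent.Lib.F2MatGroup Cfsg.Agent.J4.Rep112 Cfsg.Agent.J4.Lower

/-- the group `Spor.J4` -/
local notation "𝒢" => Cfsg.Spor.J4

/-- the row vectors -/
abbrev Row : Type := Fin 112 → ZMod 2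

/-- the action from the right on the row vectors -/
noncomputable def ra (u : Row) (g : 𝒢) : Row :=
  Matrix.vecMul u ((rho g : GL (Fin 112) (ZMod 2)) : Matrix (Fin 112) (Fin 112) (ZMod 2))

theorem ra_one (u : Row) : ra u 1 = u := by
  unfold ra
  rw [map_one, Units.val_one, Matrix.vecMul_one]

theorem ra_mul (u : Row) (g h : 𝒢) : ra u (g * h) = ra (ra u g) h := by
  unfold ra
  rw [map_mul, Units.val_mul, ← Matrix.vecMul_vecMul]

theorem ra_add (u v : Row) (g : 𝒢) : ra (u + v) g = ra u g + ra v g := by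
  unfold ra
  rw [Matrix.add_vecMul]

theorem ra_zero (g : 𝒢) : ra 0 g = 0 := by
  unfold ra
  rw [Matrix.zero_vecMul]

theorem ra_inv {u v : Row} {g : 𝒢} (h : ra u g = v) : ra v g⁻¹ = u := by
  rw [← h, ← ra_mul, mul_inv_cancel, ra_one]

theorem ra_inj {u v : Row} {g : 𝒢} (h : ra u g = ra v g) : u = v := by
  rw [← ra_inv (rfl : ra u g = ra u g), h, ra_inv rfl]

/-- the stabilizer of a row vector -/
noncomputable def St (u : Row) : Subgroup 𝒢 where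
  carrier := {g | ra u g = u}
  one_mem' := ra_one u
  mul_mem' := by
    intro a b ha hb
    have ha' : ra u a = u := ha
    have hb' : ra u b = u := hb
    change ra u (a * b) = u
    rw [ra_mul, ha', hb']
  inv_mem' := by
    intro a ha
    exact ra_inv ha

theorem mem_St {u : Row} {g : 𝒢} : g ∈ St u ↔ ra u g = u := Iff.rfl

/-- the inverse of `x y t y - 1` -/
def invCode : ℕ := 87169451879055068373814622006147023511709022941817220615239257229493771764097972293540411191146802559492584079385887984846661453748746877678693752305710483851708561208267939396898938382442659709827827511857420398234965883809940618384791387452142447635538455018305808454131996471046053377400711624727008538522246376210219293739180169380984425213645913762868313309068177916616887159160972115404925566890648583071878071629302310356048369979123383856625047566471589690549125567623128639979951876428775455372651011152278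5420386676268870585967866409611228301583362988859471186921945545640344124879248854092038424510463076975669970483720386009725806970593105199609878245754312814567481849844570955282832225241107416756484062907366643540190796783213258910835277566519441013471995084633684371183710379228274060944691324007866889827023936941528566269332562983054321679820939995884606449524344172494539859545464815088073314898722246989516131658242103749714501533740792305730223557106458894492463328659809173620282131516559816259333174131268820964226898813797326276346178780280009396683516585211956503486085976802862922107021825064488108974885770407702393390177577593744243044447584759322900101035077553003051943954540105259896272783021105662690144363344929931482244534829423174392389349483338385918411055070915803313082361350787226382740347819996987865947844099337777986005966443307237463695683264996535072545317158470038382888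8310764243843056605079677609992711807676250432386383362219439187006390241478937471022113867998205748688200466838031708299559148253334687813972723502795653775231565283798780154637469518611996671078805305751914669163951848642439422234283663588114736419633822101096510627312307493631704641099328757170678238387797190937304538771094763848316998066963914693986975117280985654990135228965711524204440267336466070496446300572739368696362245903073859878958037331599563469647631384509590066943120348327507852513713017819032476699410226348652132044093405725912205842583049723257820144215569442139388153040533986105545443824298414542151713923092191330029919930056174924134757657998298197513630033525980212372622588849352712045002485335140707715935176222743039136460117270454750297759369595691961923259606008479893354140893463591664890534725164537527418642215543229974182073122444442836075872942297309908052033331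2880964644853602952535318896161415982180135222019454542786136403199054015781835571787904050852601631943934130722546255227321310857361854360379702476381924216334390744619972032106166592091568136285859629075382586948425919995903010767139294011703849103687694061078660772948848446249631105809380997020813195308117914821549379552002525522949163192904226884327176717734558424187520438500731301575594505409821156099577084815352869776474592856075928193429046591809051270240984307683132840339425618201807132041010415254310766998829949629280574017134201196879790419740931787001435764311077689884377619523165910140539629835639072138304985033661678753875796847313581269856998455248748790935492895515836375633857381056121830661540822951674593498280631824141315953505644553768280560110492503863945176010446681175052836481096227754377649296377279774224286995703651868489927440750607355907491964756405331804949998229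298711434048430336986601472012227338369512862224363233990304827504505721923857981803117251182400880779115116240468345169353067091641851273058852050140811751822110286525400947219085487534256178658132162313179567761120056642733154885279436977789642000559217364563849646353472375980375983856889400001767485488709945680024007297011404777705413849420921095978663107284909786203151592728145790913052869014642371352794441050762505398453887932375676913445486971097777018292608545749180276048943949683438110604556863299094241792489352395999171642467435194528840616496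

theorem check_inv : run 112 [[0, 1, 3, 1]] codes (fun L =>
    Nat.beq (F2Mat.mul 112 (Nat.xor (get (F2Mat.one 112) L 0) (F2Mat.one 112)) invCode)
      (F2Mat.one 112)) = true := by decide +kernel

theorem exists_inv : ∃ (g : 𝒢) (C : Matrix (Fin 112) (Fin 112) (ZMod 2)),
    ((rho g : GL (Fin 112) (ZMod 2)) - 1 : Matrix (Fin 112) (Fin 112) (ZMod 2)) * C = 1 := by
  obtain ⟨L', h', hk⟩ := run_sound codes_gens check_inv
  have h3 := codes_get h' 0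
  rw [runG_map, getG_map] at h3
  refine ⟨getG (runG [[0, 1, 3, 1]] gens) 0, F2Mat.toMat 112 invCode, ?_⟩
  unfold Codes at h3
  have h4 : ((rho (getG (runG [[0, 1, 3, 1]] gens) 0) : GL (Fin 112) (ZMod 2)) - 1 :
      Matrix (Fin 112) (Fin 112) (ZMod 2)) =
      F2Mat.toMat 112 (Nat.xor (get (F2Mat.one 112) L' 0) (F2Mat.one 112)) := by
    have h5 : F2Mat.toMat 112 (Nat.xor (get (F2Mat.one 112) L' 0) (F2Mat.one 112)) =
      F2Mat.toMat 112 (get (F2Mat.one 112) L' 0) + F2Mat.toMat 112 (F2Mat.one 112) :=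
      F2Rank.toMat_xor _ _ _
    rw [h5, ← h3, F2Mat.toMat_one]
    ext i j
    rw [Matrix.add_apply, Matrix.sub_apply]
    exact CharTwo.sub_eq_add _ _
  rw [h4, ← F2Mat.toMat_mul, Nat.eq_of_beq_eq_true hk, F2Mat.toMat_one]

theorem St_ne_top {u : Row} (hu : u ≠ 0) : St u ≠ ⊤ := by
  intro h
  obtain ⟨g, C, hg⟩ := exists_inv
  have h1 : ra u g = u := mem_St.1 (h ▸ Subgroup.mem_top g)
  apply hu
  have h2 : Matrix.vecMul u (((rho g : GL (Fin 112) (ZMod 2)) :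
      Matrix (Fin 112) (Fin 112) (ZMod 2)) - 1) = 0 := by
    rw [Matrix.vecMul_sub, Matrix.vecMul_one]
    exact sub_eq_zero.2 h1
  calc u = Matrix.vecMul u ((((rho g : GL (Fin 112) (ZMod 2)) :
      Matrix (Fin 112) (Fin 112) (ZMod 2)) - 1) * C) := by rw [hg, Matrix.vecMul_one]
    _ = 0 := by rw [← Matrix.vecMul_vecMul, h2, Matrix.zero_vecMul]

end Cfsg.Agent.H856.JM
end

-- part: H856/JM/An
section
/-!
# S5580, Part III: subgroups isomorphic to alternating groups, abstract facts (helper856)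

* `Moore`-generators of the socle and of the maximal subgroup (`alt5`, `alt6`, `alt7`, `alt8`);
* `card_dvd`, `card_dvd_six` : the order of `M`;
* `false_of_mem`, `false_of_order` : exclusion by a fixed row vector;
* `exists_fixed` : `M` fixes a nonzero row vector if `S` does and `|M : S|` is a power of 2.
-/

set_option autoImplicit false

open Cfsg

namespace Cfsg.Agent.H856.JM

open Cfsg.Agent.H860.JM

/-- the group `Spor.J4` -/
local notation "𝒢" => Cfsg.Spor.J4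

instance : Finite 𝒢 := H858.FixJ4.facts.1

variable {M S : Subgroup 𝒢}

theorem cent_eq_one (h : NL M S) {c : 𝒢} (hc : ∀ x ∈ S, c * x = x * c) : c = 1 := by
  have h1 : c ∈ Subgroup.centralizer (S : Set 𝒢) := by
    rw [Subgroup.mem_centralizer_iff]
    intro x hx
    exact (hc x hx).symm
  rw [h.cent] at h1
  exact Subgroup.mem_bot.1 h1

/-! ### Orders -/

/-- `M` acts faithfully on `S` -/
theorem exists_aut_hom (h : NL M S) : ∃ φ : M →* MulAut S, Function.Injective φ := by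
  refine ⟨(S.normalizerMonoidHom).comp (Subgroup.inclusion h.norm), ?_⟩
  rw [injective_iff_map_eq_one]
  intro m hm
  have h1 : Subgroup.inclusion h.norm m ∈ (S.normalizerMonoidHom).ker := hm
  rw [Subgroup.normalizerMonoidHom_ker, Subgroup.mem_subgroupOf, h.cent] at h1
  exact Subtype.ext (Subgroup.mem_bot.1 h1)

theorem card_dvd_aut (h : NL M S) {T : Type*} [Group T] (e : Nonempty (S ≃* T)) :
    Nat.card M ∣ Nat.card (MulAut T) := by
  obtain ⟨φ, hφ⟩ := exists_aut_hom h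
  obtain ⟨e⟩ := e
  have h1 := Subgroup.card_dvd_of_injective φ hφ
  rwa [Nat.card_congr (MulAut.congr e).toEquiv] at h1

theorem card_dvd (h : NL M S) {n : ℕ} (hn : 4 ≤ n) (h6 : n ≠ 6)
    (e : Nonempty (S ≃* alternatingGroup (Fin n))) : Nat.card M ∣ n.factorial := by
  rw [← card_aut hn h6]
  exact card_dvd_aut h e

theorem card_dvd_six (h : NL M S) (e : Nonempty (S ≃* alternatingGroup (Fin 6))) :
    Nat.card M ∣ 1440 := by
  rw [← card_aut_six]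
  exact card_dvd_aut h e

theorem relIndex_dvd_six (h : NL M S) (e : Nonempty (S ≃* alternatingGroup (Fin 6))) :
    S.relIndex M ∣ 4 := by
  have h1 := card_dvd_six h e
  have h2 := card_alt (n := 6) (by omega)
  have h3 : Nat.card (S.subgroupOf M) * S.relIndex M = Nat.card M := Subgroup.card_mul_index _
  rw [Nat.card_congr (Subgroup.subgroupOfEquivOfLe h.le).toEquiv] at h3
  obtain ⟨e⟩ := e
  rw [Nat.card_congr e.toEquiv] at h3
  have h4 : Nat.card (alternatingGroup (Fin 6)) = 360 := by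
    have : (6 : ℕ).factorial = 720 := rfl
    omega
  rw [← h3, h4] at h1
  exact Nat.dvd_of_mul_dvd_mul_left (by norm_num : 0 < 360) h1

/-! ### Exclusion by fixed vectors -/

/-- a maximal subgroup fixing a nonzero vector is the stabilizer -/
theorem eq_St (hc : IsCoatom M) {u : Row} (hu : u ≠ 0) (hM : M ≤ St u) : M = St u := by
  by_contra hne
  exact St_ne_top hu (hc.2 _ (lt_of_le_of_ne hM hne))

theorem false_of_mem (hc : IsCoatom M) {u : Row} (hu : u ≠ 0) (hM : M ≤ St u) {g : 𝒢}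
    (hg : ra u g = u) (hgM : g ∉ M) : False := by
  rw [eq_St hc hu hM] at hgM
  exact hgM hg

theorem false_of_order (hc : IsCoatom M) {u : Row} (hu : u ≠ 0) (hM : M ≤ St u) {g : 𝒢}
    (hg : ra u g = u) (hd : ¬ orderOf g ∣ Nat.card M) : False := by
  apply false_of_mem hc hu hM hg
  intro h1
  apply hd
  have := orderOf_dvd_natCard (⟨g, h1⟩ : M)
  rwa [Subgroup.orderOf_mk] at this

/-- an element moving an `S`-fixed vector to a vector not fixed by `S` does not normalize `S` -/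
theorem not_mem_of_move (h : NL M S) {w : Row} (hw : ∀ s ∈ S, ra w s = w) {g s : 𝒢} (hs : s ∈ S)
    (hne : ra (ra w g) s ≠ ra w g) : g ∉ M := by
  intro hg
  apply hne
  have h1 : g * s * g⁻¹ ∈ S := (Subgroup.mem_normalizer_iff.1 (h.norm hg) s).1 hs
  have h2 := hw _ h1
  rw [ra_mul, ra_mul] at h2
  have h3 := ra_inv (g := g⁻¹) (u := ra (ra w g) s) (v := w) h2
  rw [inv_inv] at h3
  exact h3.symm

/-! ### `M` fixes a vector -/

/-! ### Generators -/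

theorem range_eq {k : ℕ} (f : alternatingGroup (Fin (k + 3)) →* 𝒢)
    (hS : S = Subgroup.closure (Set.range fun i => f (mg k i))) : f.range = S := by
  rw [hS]
  have h1 : (Set.range fun i => f (mg k i)) = f '' Set.range (mg k) := by
    rw [← Set.range_comp]; rfl
  rw [h1, ← MonoidHom.map_closure, closure_mg, ← MonoidHom.range_eq_map]

/-- `τ` acts as `(0 1)` on the subgroup generated by `y` (a 3-cycle `(0 1 2)`) and `l` -/
structure Tau (τ y : 𝒢) (l : List 𝒢) : Prop where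
  ne : τ ≠ 1
  sq : τ * τ = 1
  inv : τ * y * τ⁻¹ = y⁻¹
  comm : ∀ x ∈ l, τ * x = x * τ

theorem dich (h : NL M S) {k : ℕ} (hk : 1 ≤ k) (h3 : k ≠ 3)
    {f : alternatingGroup (Fin (k + 3)) →* 𝒢} (hf : Function.Injective f) (hS : f.range = S) :
    M = S ∨ ∃ τ ∈ M, Acts f τ (Equiv.swap 0 1) ∧ M = S ⊔ Subgroup.closure {τ} := by
  have hC : ∀ c : 𝒢, (∀ x, c * f x = f x * c) → c = 1 := by
    intro c hc
    apply cent_eq_one h
    intro x hx
    rw [← hS] at hx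
    obtain ⟨z, rfl⟩ := hx
    exact hc z
  rcases dichotomy hk h3 hf hC (M := M) (by rw [hS]; exact h.le) (by rw [hS]; exact h.norm) with h1 | h1
  · left
    rw [h1, hS]
  · right
    obtain ⟨τ, hτ, hact, hall⟩ := h1
    refine ⟨τ, hτ, hact, le_antisymm ?_ (sup_le h.le ?_)⟩
    · intro m hm
      have hτ' : τ ∈ S ⊔ Subgroup.closure {τ} :=
        (le_sup_right : Subgroup.closure {τ} ≤ _) (Subgroup.subset_closure rfl)
      rcases hall m hm with h2 | ⟨s, hs, rfl⟩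
      · rw [hS] at h2
        exact (le_sup_left : S ≤ _) h2
      · rw [hS] at hs
        exact Subgroup.mul_mem _ ((le_sup_left : S ≤ _) hs) hτ'
    · rw [Subgroup.closure_le, Set.singleton_subset_iff]
      exact hτ

theorem tau_of {k : ℕ} {f : alternatingGroup (Fin (k + 3)) →* 𝒢} (hf : Function.Injective f)
    (hC : ∀ c : 𝒢, (∀ x, c * f x = f x * c) → c = 1) {τ : 𝒢} (h : Acts f τ (Equiv.swap 0 1))
    {l : List 𝒢} (hl : ∀ x ∈ l, ∃ i : Fin (k + 1), 1 ≤ i.val ∧ x = f (mg k i)) :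
    Tau τ (f (mg k 0)) l := by
  refine ⟨h.ne_one hf, h.sq hC, h.inv_y, fun x hx => ?_⟩
  obtain ⟨i, hi, rfl⟩ := hl x hx
  exact h.comm i hi

theorem alt5 (h : NL M S) (e : Nonempty (S ≃* alternatingGroup (Fin 5))) :
    ∃ y v a, T5 y v a ∧ S = Subgroup.closure {y, v, a} ∧
      (M = S ∨ ∃ τ, Tau τ y [v, a] ∧ M = S ⊔ Subgroup.closure {τ}) := by
  obtain ⟨f, hf, hS⟩ := exists_hom (k := 2) e
  have hS' := range_eq f hS
  have hC : ∀ c : 𝒢, (∀ x, c * f x = f x * c) → c = 1 := by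
    intro c hc
    apply cent_eq_one h
    intro x hx
    rw [← hS'] at hx
    obtain ⟨z, rfl⟩ := hx
    exact hc z
  have hset : (Set.range fun i => f (mg 2 i)) = {f (mg 2 0), f (mg 2 1), f (mg 2 2)} := by
    ext x
    simp only [Set.mem_range, Set.mem_insert_iff, Set.mem_singleton_iff]
    constructor
    · rintro ⟨i, rfl⟩
      fin_cases i <;> simp
    · rintro (rfl | rfl | rfl)
      exacts [⟨0, rfl⟩, ⟨1, rfl⟩, ⟨2, rfl⟩]
  refine ⟨f (mg 2 0), f (mg 2 1), f (mg 2 2), ⟨⟨tr_ne f hf _, tr_cube f, tr_ne f hf _,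
    tr_sq f 1 (by decide), tr_br' f 0 1 (by decide)⟩, tr_ne f hf _, tr_sq f 2 (by decide),
    tr_inv f 2 (by decide), tr_br f 1 2 (by decide)⟩, by rw [hS, hset], ?_⟩
  rcases dich h (by norm_num) (by norm_num) hf hS' with h1 | ⟨τ, -, h1, h2⟩
  · exact Or.inl h1
  · refine Or.inr ⟨τ, tau_of hf hC h1 ?_, h2⟩
    intro x hx
    simp only [List.mem_cons, List.not_mem_nil, or_false] at hx
    rcases hx with rfl | rfl
    exacts [⟨1, by decide, rfl⟩, ⟨2, by decide, rfl⟩]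

theorem alt6 (h : NL M S) (e : Nonempty (S ≃* alternatingGroup (Fin 6))) :
    ∃ y v a b, T6 y v a b ∧ S = Subgroup.closure {y, v, a, b} ∧
      ∃ N : Subgroup 𝒢, S ≤ N ∧ N ≤ M ∧ (∀ m ∈ M, ∀ m' ∈ M, m ∉ N → m' ∉ N → m * m' ∈ N) ∧
      (N = S ∨ ∃ τ, Tau τ y [v, a, b] ∧ N = S ⊔ Subgroup.closure {τ}) := by
  obtain ⟨f, hf, hS⟩ := exists_hom (k := 3) e
  have hS' := range_eq f hS
  have hC : ∀ c : 𝒢, (∀ x, c * f x = f x * c) → c = 1 := by
    intro c hc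
    apply cent_eq_one h
    intro x hx
    rw [← hS'] at hx
    obtain ⟨z, rfl⟩ := hx
    exact hc z
  have hset : (Set.range fun i => f (mg 3 i)) =
      {f (mg 3 0), f (mg 3 1), f (mg 3 2), f (mg 3 3)} := by
    ext x
    simp only [Set.mem_range, Set.mem_insert_iff, Set.mem_singleton_iff]
    constructor
    · rintro ⟨i, rfl⟩
      fin_cases i <;> simp
    · rintro (rfl | rfl | rfl | rfl)
      exacts [⟨0, rfl⟩, ⟨1, rfl⟩, ⟨2, rfl⟩, ⟨3, rfl⟩]
  refine ⟨f (mg 3 0), f (mg 3 1), f (mg 3 2), f (mg 3 3), ⟨⟨⟨tr_ne f hf _, tr_cube f, tr_ne f hf _,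
    tr_sq f 1 (by decide), tr_br' f 0 1 (by decide)⟩, tr_ne f hf _, tr_sq f 2 (by decide),
    tr_inv f 2 (by decide), tr_br f 1 2 (by decide)⟩, tr_ne f hf _, tr_sq f 3 (by decide),
    tr_inv f 3 (by decide), tr_comm f 1 3 (by decide) (by decide), tr_br f 2 3 (by decide)⟩,
    by rw [hS, hset], ?_⟩
  obtain ⟨N, h1, h2, h3, h4⟩ := dichotomy_six hf hC (M := M) (by rw [hS']; exact h.le)
    (by rw [hS']; exact h.norm)
  rw [hS'] at h1 h4
  refine ⟨N, h1, h2, h3, h4.imp id ?_⟩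
  rintro ⟨τ, hτ, hact, hall⟩
  refine ⟨τ, tau_of hf hC hact ?_, le_antisymm ?_ (sup_le h1 ?_)⟩
  · intro x hx
    simp only [List.mem_cons, List.not_mem_nil, or_false] at hx
    rcases hx with rfl | rfl | rfl
    exacts [⟨1, by decide, rfl⟩, ⟨2, by decide, rfl⟩, ⟨3, by decide, rfl⟩]
  · intro m hm
    have hτ' : τ ∈ S ⊔ Subgroup.closure {τ} :=
      (le_sup_right : Subgroup.closure {τ} ≤ _) (Subgroup.subset_closure rfl)
    rcases hall m hm with h2 | ⟨s, hs, rfl⟩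
    · exact (le_sup_left : S ≤ _) h2
    · exact Subgroup.mul_mem _ ((le_sup_left : S ≤ _) hs) hτ'
  · rw [Subgroup.closure_le, Set.singleton_subset_iff]
    exact hτ

theorem alt7 (h : NL M S) (e : Nonempty (S ≃* alternatingGroup (Fin 7))) :
    ∃ y v a b c, T7 y v a b c ∧ S = Subgroup.closure {y, v, a, b, c} ∧
      (M = S ∨ ∃ τ, Tau τ y [v, a, b, c] ∧ M = S ⊔ Subgroup.closure {τ}) := by
  obtain ⟨f, hf, hS⟩ := exists_hom (k := 4) e
  have hS' := range_eq f hS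
  have hC : ∀ c : 𝒢, (∀ x, c * f x = f x * c) → c = 1 := by
    intro c hc
    apply cent_eq_one h
    intro x hx
    rw [← hS'] at hx
    obtain ⟨z, rfl⟩ := hx
    exact hc z
  have hset : (Set.range fun i => f (mg 4 i)) =
      {f (mg 4 0), f (mg 4 1), f (mg 4 2), f (mg 4 3), f (mg 4 4)} := by
    ext x
    simp only [Set.mem_range, Set.mem_insert_iff, Set.mem_singleton_iff]
    constructor
    · rintro ⟨i, rfl⟩
      fin_cases i <;> simp
    · rintro (rfl | rfl | rfl | rfl | rfl)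
      exacts [⟨0, rfl⟩, ⟨1, rfl⟩, ⟨2, rfl⟩, ⟨3, rfl⟩, ⟨4, rfl⟩]
  refine ⟨f (mg 4 0), f (mg 4 1), f (mg 4 2), f (mg 4 3), f (mg 4 4), ⟨⟨⟨⟨tr_ne f hf _, tr_cube f,
    tr_ne f hf _, tr_sq f 1 (by decide), tr_br' f 0 1 (by decide)⟩, tr_ne f hf _,
    tr_sq f 2 (by decide), tr_inv f 2 (by decide), tr_br f 1 2 (by decide)⟩, tr_ne f hf _,
    tr_sq f 3 (by decide), tr_inv f 3 (by decide), tr_comm f 1 3 (by decide) (by decide),
    tr_br f 2 3 (by decide)⟩, tr_ne f hf _, tr_sq f 4 (by decide), tr_inv f 4 (by decide),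
    tr_comm f 1 4 (by decide) (by decide), tr_comm f 2 4 (by decide) (by decide),
    tr_br f 3 4 (by decide)⟩, by rw [hS, hset], ?_⟩
  rcases dich h (by norm_num) (by norm_num) hf hS' with h1 | ⟨τ, -, h1, h2⟩
  · exact Or.inl h1
  · refine Or.inr ⟨τ, tau_of hf hC h1 ?_, h2⟩
    intro x hx
    simp only [List.mem_cons, List.not_mem_nil, or_false] at hx
    rcases hx with rfl | rfl | rfl | rfl
    exacts [⟨1, by decide, rfl⟩, ⟨2, by decide, rfl⟩, ⟨3, by decide, rfl⟩, ⟨4, by decide, rfl⟩]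

theorem alt8 (h : NL M S) (e : Nonempty (S ≃* alternatingGroup (Fin 8))) :
    ∃ y v a b c d, T8 y v a b c d ∧ S = Subgroup.closure {y, v, a, b, c, d} ∧
      (M = S ∨ ∃ τ, Tau τ y [v, a, b, c, d] ∧ M = S ⊔ Subgroup.closure {τ}) := by
  obtain ⟨f, hf, hS⟩ := exists_hom (k := 5) e
  have hS' := range_eq f hS
  have hC : ∀ c : 𝒢, (∀ x, c * f x = f x * c) → c = 1 := by
    intro c hc
    apply cent_eq_one h
    intro x hx
    rw [← hS'] at hx
    obtain ⟨z, rfl⟩ := hx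
    exact hc z
  have hset : (Set.range fun i => f (mg 5 i)) =
      {f (mg 5 0), f (mg 5 1), f (mg 5 2), f (mg 5 3), f (mg 5 4), f (mg 5 5)} := by
    ext x
    simp only [Set.mem_range, Set.mem_insert_iff, Set.mem_singleton_iff]
    constructor
    · rintro ⟨i, rfl⟩
      fin_cases i <;> simp
    · rintro (rfl | rfl | rfl | rfl | rfl | rfl)
      exacts [⟨0, rfl⟩, ⟨1, rfl⟩, ⟨2, rfl⟩, ⟨3, rfl⟩, ⟨4, rfl⟩, ⟨5, rfl⟩]
  refine ⟨f (mg 5 0), f (mg 5 1), f (mg 5 2), f (mg 5 3), f (mg 5 4), f (mg 5 5),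
    ⟨⟨⟨⟨⟨tr_ne f hf _, tr_cube f,
    tr_ne f hf _, tr_sq f 1 (by decide), tr_br' f 0 1 (by decide)⟩, tr_ne f hf _,
    tr_sq f 2 (by decide), tr_inv f 2 (by decide), tr_br f 1 2 (by decide)⟩, tr_ne f hf _,
    tr_sq f 3 (by decide), tr_inv f 3 (by decide), tr_comm f 1 3 (by decide) (by decide),
    tr_br f 2 3 (by decide)⟩, tr_ne f hf _, tr_sq f 4 (by decide), tr_inv f 4 (by decide),
    tr_comm f 1 4 (by decide) (by decide), tr_comm f 2 4 (by decide) (by decide),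
    tr_br f 3 4 (by decide)⟩, tr_ne f hf _, tr_sq f 5 (by decide), tr_inv f 5 (by decide),
    tr_comm f 1 5 (by decide) (by decide), tr_comm f 2 5 (by decide) (by decide),
    tr_comm f 3 5 (by decide) (by decide), tr_br f 4 5 (by decide)⟩, by rw [hS, hset], ?_⟩
  rcases dich h (by norm_num) (by norm_num) hf hS' with h1 | ⟨τ, -, h1, h2⟩
  · exact Or.inl h1
  · refine Or.inr ⟨τ, tau_of hf hC h1 ?_, h2⟩
    intro x hx
    simp only [List.mem_cons, List.not_mem_nil, or_false] at hx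
    rcases hx with rfl | rfl | rfl | rfl | rfl
    exacts [⟨1, by decide, rfl⟩, ⟨2, by decide, rfl⟩, ⟨3, by decide, rfl⟩, ⟨4, by decide, rfl⟩,
      ⟨5, by decide, rfl⟩]

/-! ### Conjugation -/

theorem nl_cj (h : NL M S) (g : 𝒢) : NL (cj g M) (cj g S) := by
  have hinj : Function.Injective (MulAut.conj g : MulAut 𝒢) := (MulAut.conj g).injective
  have e : S ≃* cj g S := Subgroup.equivMapOfInjective S _ hinj
  refine ⟨?_, Subgroup.map_mono h.le, ?_, ?_, ?_, ?_⟩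
  · -- maximality
    refine ⟨fun h1 => h.coatom.1 ?_, fun K hK => ?_⟩
    · have h2 := congrArg (Subgroup.comap (MulAut.conj g).toMonoidHom) h1
      rwa [Subgroup.comap_map_eq_self_of_injective hinj, Subgroup.comap_top] at h2
    · have h1 : M < Subgroup.comap (MulAut.conj g).toMonoidHom K := by
        refine lt_of_le_of_ne (Subgroup.map_le_iff_le_comap.1 hK.le) fun h2 => hK.ne ?_
        rw [h2]
        exact Subgroup.map_comap_eq_self_of_surjective (MulAut.conj g).surjective K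
      have h2 := h.coatom.2 _ h1
      have h3 := congrArg (Subgroup.map (MulAut.conj g).toMonoidHom) h2
      rw [Subgroup.map_comap_eq_self_of_surjective (MulAut.conj g).surjective] at h3
      rw [h3, ← MonoidHom.range_eq_map]
      exact MonoidHom.range_eq_top.2 (MulAut.conj g).surjective
  · -- the normalizer
    rintro _ ⟨m, hm, rfl⟩
    have h1 := Subgroup.mem_normalizer_iff.1 (h.norm hm)
    rw [Subgroup.mem_normalizer_iff]
    intro x
    constructor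
    · rintro ⟨s, hs, rfl⟩
      exact ⟨m * s * m⁻¹, (h1 s).1 hs, by rw [map_mul, map_mul, map_inv]⟩
    · rintro ⟨s, hs, h2⟩
      refine ⟨m⁻¹ * s * m, ?_, ?_⟩
      · apply (h1 (m⁻¹ * s * m)).2
        have h3 : m * (m⁻¹ * s * m) * m⁻¹ = s := by group
        rw [h3]
        exact hs
      · have h4 : (MulAut.conj g).toMonoidHom s = (MulAut.conj g).toMonoidHom m * x *
          ((MulAut.conj g).toMonoidHom m)⁻¹ := h2
        rw [map_mul, map_mul, h4, map_inv]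
        group
  · have := h.simple
    exact e.symm.isSimpleGroup
  · intro h1
    apply h.nab
    refine ⟨⟨fun a b => ?_⟩⟩
    apply e.injective
    rw [map_mul, map_mul]
    exact h1.is_comm.comm _ _
  · rw [eq_bot_iff]
    intro c hc
    rw [Subgroup.mem_bot]
    have h1 : g⁻¹ * c * g = 1 := by
      apply cent_eq_one h
      intro x hx
      have h2 := Subgroup.mem_centralizer_iff.1 hc (g * x * g⁻¹) ⟨x, hx, rfl⟩
      calc g⁻¹ * c * g * x = g⁻¹ * (c * (g * x * g⁻¹)) * g := by group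
        _ = x * (g⁻¹ * c * g) := by rw [← h2]; group
    calc c = g * (g⁻¹ * c * g) * g⁻¹ := by group
      _ = 1 := by rw [h1]; group

end Cfsg.Agent.H856.JM
end
end

-- part: H111/JM/SolD
section
set_option linter.all false
open scoped Cfsg.Agent.FastGrp

/-!
# The solutions `t` of `(f t) ^ 3 = 1` (helper111, S5580)

`rm m` (`m < 8`) : representatives under `C(⟨f_i, y0⟩)` (`i = 1` for `m < 4`, `i = 2` for `4 ≤ m`),
`rm m = (cw m)⁻¹ * t_k * cw m`.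
-/

set_option autoImplicit false
set_option maxRecDepth 100000

open Cfsg

namespace Cfsg.Agent.H111.JM.Sol

open Cfsg.Agent.Lib Cfsg.Agent.Lib.F2Mat Cfsg.Agent.Lib.F2MatGroup
open Cfsg.Agent.J4.Rep112
open Cfsg.Agent.H858.VK
open Cfsg.Agent.H868.JM (f1 f2 q1 c6)
open Cfsg.Agent.H878.JM.Base
open Cfsg.Agent.H111.JM.Eng Cfsg.Agent.H111.JM.Env Cfsg.Agent.H111.JM.EnvF Cfsg.Agent.H111.JM.G0
open Cfsg.Agent.H111.JM.TList Cfsg.Agent.H111.JM.Pc

/-- path -/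
def pw0 : List ℕ := [11, 13, 11, 12, 13, 11]
/-- word of the representative -/
def rw0 : List ℕ := [11, 13, 12, 11, 13, 11, 14, 11, 13, 11, 12, 13, 11]
/-- packed matrix of the representative -/
def mr0 : ℕ := 0x67fcd467bd5d3c863495745e2549808c5a88dbe766d87791f3b5cbe41e1127b48c0c96a91981149d436359714ef89abf5aa372cc6cabaca48d2d39125759446e75240d203a0f045aa2c064048d783534385e502aaf835611dd5a906394c7ad7153ee864d0dd3d7d62507a3520a54edd4b00476741b41b834e57a88ca334222ce528f26dce7ac58fe0809f0966c876d47aceba276469ff125c3b13b52c37d5484fe7004cf1dc239eb9358e97c1ed1cc44e032b3ee526766d7b64969560b7e711fdd1e36908d2d09c24923fbfa4cb8751f1960785867cafd8432096c89fd015416813daf515ae33f73fd8469414a7d799d0d805dc4fee922648fe5d85b400a34f258a036c3cc34ceb837e59d33bec3af37e96e975bbde84e0114572edfb59aaadcd4f4b6d791e1150b325f8597b1c676dcb73f04f9581d944a88be14e61984ad9f58b7892eee91fd6a857b31d5079b5f858e28b9c86c545bdb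b0672ddd3e7815c09f4cf9c8044805ad43d325427c71019834142f8fbcc401821a2124368a3808b5704901a4b01ce0bc919f36515402734b3a4149fc6beb228a2eb5eb2b69befd56820da6fc9989e949201132d8ee7017bffcdac6c08f4082fd769f01603b5fc9dd9a007e692a4142dd4f557632456ec5022f29c8a6d5dbea2e239604bd401596321aaf099a2a311ae3413cfe4da5c85b2f573ec4fc07df98193ede8c05344fbf3c39a38588e962f276cf3dc4a60172b814a0d78eb07d6f3e82c912497a8024cca4ba39f2ab0fcfca48fbd6aee5a0022d9ebacf4b3fa053d6d8841ed46a5161391e273d16193459583e4dc044fec7709c3cb599d7b54590060809339e9382807484d89e96f264346dcaa80b0ff5561985d3a6551841084d6ef234c241fdd8952f695dc7fe910f0fd42c5c0572c2191e78d1fbe5efe82fba690918468a8849fd92b9e1092ee9ea3079f72d69d62ec364d556057adb5f8fe805de467228643034be7b3d3d7911de567c04515d08bfffdfcae46766d1411ce5fa79f7bffed23988e9cea239dfb4c07fd0f7652f5f1abb12a86c8b42b84242b638a996a2284f0dc73059d21a4ddb655fe94c96cbf617ced6d6e47f13e0f85a3ca2139c4e7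ce1ec1924fe14e47a78e1a93898e8d1048259448af8023d6ccad3b5145dc8a92c7624a316edf6b29dac085bc2472d16ddc68928c5fa722b37b71f319e7b6d83ccff61acb2eb71a99b676719aa229bb64e5128f784c0f1c78a18065724617983ebc0346b7f2fe83d2eea46f3c73281863ac751bacdda911f73c5245b7f96018f4f57aa13d57440ef66db6b4d96c5e26315b71129143aee7a4fae2d31a77f2b7b774a13c521c6008327d1ee7afdbeae068fd19add4e81b32bd2c8d75ce8f9faea4063aa0ce3c42b57b11522c494e1d5c153f203af27303da21bc2dff2dac20f82a7642932696a2f3d001ad5779feb2c51b77e622648fbd7922abadd383f2f6f8f0c2f3af707134172c59b81a625e43357cc261adcc98a6ed2c56a2b82067539edecf7441b9c599cec2a70bb50e168c018e8c71fdccbefac304a7b37d48f2f5163edca6eaad110535c7b34aac726a3d8cda472279025809b5f9f2aefa2ccf8c3a84d468d680d959611dcca4b393c2f49ca9e054dab79e619fa39500eb68edaf85836057272f25fac224fa165b8d9cf69bb67bb3aeaa0d5577bdfc36975b363745acab08f77b87a6bc32dbacdecedf7051ac8d5994b710af4d654512c2172484d58c4a3d3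699e135c3d594472d739d25ec2f3a2d679d0d6ec1329eab34b3c9a144c0b3ee9f64e59939702edff9db9b26ac8bec43cfe4966efd1e8c8fc9356d23c082597c90aa14dac42c7f7e34a623dcf3bf9e851e2d7ce9cafbdee8d66c1eb12caa02223b6d4844de68b05c5b86fdcfa11539fd89dc75be9c2165a4454449c9d4c67ec4388d66df1b06a6c4a87eb44663867f5e3e5ba936685191656a311ed8d5227c59230c3811ac10abc2e4c70dc372a5b48ede90a8e6dc61ebd1e4487d1b45ec46bd737c7615353ae23a84743dfeb794758395b7f7fd363c25ea32203c3ac7eb98d37b0efa08fa071dacbea49c2e9d068213abb4bea428ea01473509264d07970c60406479beb47c032595eabe12df21b0229367986ca8550bde07c193c0bffe818e8a209c786a211717d326c0f5e7f82bbcbd24ecfcac8315e766d68f6f2c009d605dfe93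

/-- path -/
def pw1 : List ℕ := [13, 11, 12, 11, 13, 12, 13, 12, 11, 13]
/-- word of the representative -/
def rw1 : List ℕ := [13, 11, 12, 13, 12, 13, 11, 12, 11, 13, 14, 13, 11, 12, 11, 13, 12, 13, 12, 11, 13]
/-- packed matrix of the representative -/
def mr1 : ℕ := 0x74ae94fe8f747eebb1a799e2ed6bbe3648d09f7cdd7539302bcda560e1fd3d2a730a0e64b99664f2eaa4e3e532c5b0c0ca8d3dc1e3a7bcd6de2a8f13a00a9eb6aff04d8711f54a3d196ab786896c2a3e09f9d9a4ec429f48159d80e2560b42bdba43190d89eeb43339419e936c92543cffd2e005c2531553d77c374b359a2dc9682ed3df5264aca317131b5f00598cc0fec26545ae7e34e92df799ded9775b8bcc698ed0ef6c07c172aaf42d7987bd92edc57711aaf7af392971547ce5b9b002f28aa27e826afe061a61db1de922446b89d96c5fbff9046f20b186872dfed3885f3332332352438a724c1d797e95c2229ee95ed293d776e9ac343055a78542ece8ab56006f20ef97466e583af4bac1759c45e97bac0766ffb54c88a226fd22944973a7d505dcd542c8e0c6f1b481f68df5bb7b53b9b0d1ea2f7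f8b220b76eaf9f2bc03b09c17dc7fec1757962e0dfcf09697d5dc10d793cf1333e2cddb8cd40498251531285aed23ba06af49717ac7703ed0e17ec645b574d354dd9e91a11ce38ba5d02696155213be7357cd1cf44b04937f4d854d05352c7c6bbc7bb3a27dacad09c5a91d515b3740545742ead15f1153fd99e9b32c266faabce3a0f4693b74602920f3ab25f070742779fa4c18cca3e4bd8252cd2b87d6ba2f117dc6c8cd56fd5324578ea633991968f5127d9078850e5769528ee0d7a521d6012ea1fa63f5223ccfad7ea5828b4d651b3f7fa1fb4d35d98875de89f447c257c34c4584b611dbf41d7baae22bcdae2c7196edb66d734122e4771ba781bb8173f96627e541d7d211ac4731b11b9f05461d4f8d69d7558d835d65dc4a3745d06a112278776f81545058226b510066d750e1ffc5e3ed60b6589ea3c43514d872273f39515842725e7f6de5ed49fbd84079a43e18a70028635aee7817554d5fc79d1e520de9b845e2f737ff730261c3b04d902f9572f0337ec371c90cc0ad2b08e7935d872fb514400e48354e0c210f166882f2621467f18265fc12e8f2801f5fb8652efeb983a328c9977e205d5d0492c24419c8b20ff5cfae5dce62b05d2396295da1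ed894510d3be73e58089a6314af4cbbce28f74d1b03ee0cb921a56a65e3999ba5232b3ec134c4c17a619b929af8dca192f524c573b2296d412447e22000c6305ccaa639a650abb2fbffc1c67d784d27ed216245391f69931581d4e77b1dd1477bea845277b1c993b9b52929e9f926cb3faead035fb0651ce9ba8b8109c3cdba43d045946087a5ee9537c3a98dd7c9529a31218e88771451dcb345cc4d5342ebf97ea374aef3affe56d72a3f0f203966a693f3990d9dda79cb8ce6312a3e43ae403db3da7ab05225ed91d7b22b888f3027fc1a9b60c45b2f0f6f5cafaf9fe7d5f9afe9ddb01c60641601b1d977e6ddba6ee714b2b365f390a63ae5394c8b49757e8729c5033a5630263632dd51f86299b6ca0050a0aad99c82fbd621eb76bff0566f50af0e51e6a5860fd40c58b93de39d199fecd0a6672569bf18d6cdd66143bbdce2fdc0e84e84f1d9c8e96b794b853991b4d6d755bebf52705e45ca1f614cc802c0472aaf599a05afe5fa27510924c97ba939699933369932e6285fdec41a5ff05cc0af0ace51cd1b091f4a6edd7c3119c87c47d7b86bd469088885f936c9c93668f58ec234ba0cc26f03c3cc3c3383f1b034a77078ff81bc3883944c5d4137f748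49d34e7555a335acca2baa8cd1ff8d2bbe4116c789c1e98a1f0aaaf25cc1ba4776c7863e19ac78f4abffd63e464840f84557e0e3b22f03a64b072306c969ccc3394d330cdffb62d3edbe7c3173c423ad705f3a39dc00cc9fa0a50a0f5028f428f515d29031dcc5acca533a0dcd7226810e243a4a55aa5a55aa175b56afe01fc03550a0aa0a0fa02bfa2a15f5c93ee6036af9cfa395da389b2c6b3f7fd2666a5995a995d9989963de64eb5d2c9af9cfac65da38a5238b2348098af5005055fa03a17c45f415161aa50f5fa5fa0ffc5fc3bfaab87bb95cc003300cc00d32322cc05c8403aff00ff00000000000ffe1c004020f0ff0ffff0fc30ffd10ffe7fffe369ff69ff69fda69db769eedfbfd155005500aa02baa2a4aa1490001700005aa500028002805b41280001ffffffffa55d7a497ffffed7fe94a50000a55a0005a00a015405002105500aa0500280b40a5014280102faf5f5faf5fffae975aeaafffedd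

/-- path -/
def pw2 : List ℕ := [13, 11, 12, 11, 13, 12, 13, 12, 11, 13]
/-- word of the representative -/
def rw2 : List ℕ := [13, 11, 12, 13, 12, 13, 11, 12, 11, 13, 15, 13, 11, 12, 11, 13, 12, 13, 12, 11, 13]
/-- packed matrix of the representative -/
def mr2 : ℕ := 0x68ad3046250c66feb4d8f7771ec41e730a84916d5fcf0b1b73694fdbbab6e81c1c877571a2c27fe88a2db50315aea35e33139118df88ffc7460182a10ce887cf52645ac5cea4e3448f2f3d132be97ed77365eb59789a57305151a840f0a5e2d22a28f733a219923684fcef9d1c852ec49b21c0bed58343855d60bdd421539df39656853dc8549cf9614d463064cccf8e580028d38f32332ade4808603f420b08e675476cd666c84fb309e7a0f23d67c85d27ef43d83026cfd209fd93dc5b24063528caa52aafd44d75f376d00cc423a120b631ebf350fb7a6ae27dadb5f5568db94d227b765e2038a33b3251e44d925daec999390d78719a3936e24f813bcd34558b51c2cd5f2383914437eccd0a448973dd82003692adcfc66213977ca50e563bcdb3be299c45921a7ef1e2855546381ce951ca718038f8b38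6de7d2ce0e8cac06a871d6c324e9fc28b08a5059b04bcb320177057055e96edb22e3c4c0b9e7359d5f2895a40f55fed6f1a4aa29e068a58b82173a3937a4343bb5be600cde04757a22e3768cfcbba3b349ff78f088c1b11376d8d0d23d538183b7a8774b0b712031aab7702b00351f8855dba34ac6ee46f7089f22d76388e8f72b2be25fdf2791c95ac40d4af1bf4e6e80ac941c9e18d5a0012a20deec3339c8ced78315a35cb909261fb7b4798472a70a087b4995c033ac31430c557ba1acd7b6cced439a703897b9fea5954a0b2ebebb42c3a31877397ecec58b60ab8d3a52ed0fdaf75d879c0482e9fb71ba9c0ff13942ee8cea41266de991d8eb797086299ed80a8e422dd7debd7035d3603589980cda54e171418c0d2a9bc3e22190e3c77784b2d1edd99d2cdf688072562345ffca590bdb74e348f487a1cc7051b03e495c0195cee841b9e3c49617f812158b41f44bd683e99cd721c3febe2ed784216baf5a995f7926e8059e219ee66de5307d4f549f7b5697e99006a6eeaa409cda7c9ec7ce659b70e3a3bb4b54fe9136b68946700bed066470a8d99d66b54734fe84e2b2ed5774e4ddd9ea34361210ed5fb26ed69fead18b69efd79349dc298640a66516b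b8c3e9459372a4e5517f485484b13847bef7a0c097d551b679c3b71f82bb2491e7183ead523e0d627de860a4db1ea22e34dfa8dadfaaee0a34f428d161791ed2e4d7b41f84bc6152247e2756aaa35f56503000b284851461c1ba995f660aaa36baa2a967f093bc7731d0fd29fc8299fc22fa69fcec37fbd50b792464697cfcef101d3d83cbf76492566db31cd99d2b0a9a21e73f7eafeac6fb31c680fd2c201d4fc2b5c76241a4111df0664f12d94e42144ddd8227834a2218132b4ae23321692b651fd25e8905e01c9c882122e2555540001245e1404d88b4b7bb74d22e1fe7fedadef75a00ca14acb1846ae2b9023f1e5012f2cca53300cc00d962574f7607c3ce7ee87bb781bb4bc44b6d3cc8cb52d74ed78dbeb108c23e604a4284f3b842b82b24de3dae2487d604e303a6b16a8256ed83140c1eb20d317b0f1163d869bd451f19aedbd80bf9de0a8ec3b73ba48048bf7dfc666e664b6677f07bc36991b037a3b6b0be22bebbd7b0a4ac695e5c32c22ad227728841ed028cb161f647408e63cc36a5fa0d43db0145dd75df0c14c3783688f10bf36c241de050079669556969ad43c7ec4fe4b888d482142782eb4ec820805ec402b4fbc6b46682c310e36983cf6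ae205338d8d7214eb74472dd036535cbbac9c1e6c886c10e6c0e378b047b14e2dc62236bbc84225c04fe31ec684c3489948c9b99c8d86b0bd9a9565288772774bbc779354d3442258b07d0c7d03ebc04d9b6a637bb9647b639336c69364e92cf6378e4dc290aac3aa3caac6baa6bb0f3fbeee1796966996696a568e48cdb9f5601039c6936cc9ca63658c93055d5ec450c90563a0c43a1834a06094c4b4cc0fcc0fcc0f233cd269711c833bc9af6305c65e5c765dc753f353799c6336366c94e6ccf96d056796ce500a055fa0003a1c24fb57b82fb4003300cc003400180000420128800000000000fc001c100000001800fff0ff0ffff3ffe3fffe3fff53bfff69ff69ff6bffefeffefdfbc1ff0055005500ac0014100162021d005aa50000a55c0a4805000a02da94ffffffff5aa285b68fffff2fe56b00a5a500005d700960a402d066940aa00550a00d404834a02850d680f5fafaf5faf3c5f6ab5f757f717f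

/-- path -/
def pw3 : List ℕ := [11, 12, 13]
/-- word of the representative -/
def rw3 : List ℕ := [13, 12, 11, 16, 11, 12, 13]
/-- packed matrix of the representative -/
def mr3 : ℕ := 0xea13ad63c779e2e8e171cf5f153b6f4ff8777f57ed79acbea491945fe691fa0ae1ad26c7a92dd67a5ef1d7eab943a5d28c492035e6d7baf529e1812d9ce09281b4acdd5d583d50f11d2408c7d930a2b6b10d8df55a5b3d066ee072f9fa2f25e08b41f564506c6dc7812ff84deb72fc507679e70cf5308c8a07e0f0d37d396364d39b17b5aa8220676e72d0b584f4af6d0f7e6ec9d923926f994538eccbfed9b700a8023562b1d2e3842bf3527385fb5c25e18217db7f02e9ad5099b5b9ef7c93c5731f1a932f355a99460e3543a3e17180fd678ecdf7a3df8615e3cd2d6bd0bd3b602274493e5b55f2116effab3ad81bd6ede1515f23d1346f63e8d80b828ef87783e07cbd51ba2f58a6b1add04377f0a6e00d6f8fae739a1b3bd28e54d0b44c83e76021a4297e07b69e60bfbb2623fa7e144f2cb4731add5c6ca3476df8be0946550c2e9dab844fb4f53e9fe0a88a081cfff4b8b79400e055d3baf161ebcab20c33e77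9bec37ec98301c626bc130fb561902dd4d87457ff9c4037d42c97f38dc9dc42e86a3b28f6c20c927c42752ed2fd014b07b72e309e8a7bc8b8ebe7d94757d421a31557b74d43dd98582e0d5d6eb00ca34fc7fadfd3794f9f6ade72b793df3798ed0ea669ecc7fd37d6feead4f7afdc76ed415545d12d6cd67144a36aa525c44861bb3350348c27ad66590e8cb905c851e009a27307dd27cf25d393194fa164dd71d1eaee1140e459b3f22444b5a52d2889b4505632689c583e17c4b9be3ba14a209e8a31e9e2d6063fdda56b867fee5a72294e730bdb9478c1439f46e04e3a8be8c360d99a160a0ba9132ed3d0b78eca61aa0aa1307d9b880ad493b4d2cacb512bc5801d49d136ffba12148c3150f5eccd9fd2f5535f6b3015262873457a47afea825b287fe413bb8104ffd3bb64b4dcc3d40519239852467e47be8baa0e93c5330246a7918afe83b9429f8a42bc7a479980c497e3e2fa0718394d38d780490cf9ebefb49c2f49263676449073c3a302c12576a336caca10ab732d4abe5d15f367ea3f4b542bdce447ee63a4d5d7db5ac16fbab7e35d4c4e448c87cb0d9f744b2af672c820c8f103fe83c16428c6cd0cdecadedba616242d437058da69f3182fb48e1e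b853b833e6bb6d83e17ae6a6a0486125b38a037c83b245cf838e2b951aef3c09879cca1f056ac34e7ca71fde57a024d417ad51ea80cf345ca37f80767c76fe06b646c7205a6614f524106b1ecac192df198ffbad9662c9ec33e0ac8674ad1381bda34641e3e68f32a4ff8734307d314eee808d5404c184e0137d4b13918e218095af276fc6a909f59a2c55c3b47619764b2d0718da2a14f5980273d40d3a0feb81fd343227fd1a3303115c17d447fa020c53a26c8cb49ec155b342e98a701c7b0346eba60954e9c1f0ea22acd766ddee687411ff74107a5cfb2c1df42b079311b20e69403b1275e2302be3f29c8105c56e63f15bd2590a4f8665be4a8b6f98e67d810e0226710340e590280abde09e960440aeff0cc3f5e66fb09045a22fbd6bac04b2aaaae3faf6b2df42e77a7e70e2989a066a3451c6ef070dc2572e8c4a8238fae5f5b8a21fe476aee28a4609085e165b1ea759bc35cfce59894d95ec1945aa034fdcf4eebe993aa2bc619a2f8d7c6ad505bd28fddceb5b77bc12f896a9b0f513b3d9953e16236a5fcbc0acbe82b889ff12b1d475601407073e82255eaf3ebc0276caa8cfdcd7690bbd0dd048a49befd28f89811e9b1970949940d3ea55cd6724d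e59a685ba156dc6f10878a4139beb758986a9c9babe39b3955216a787dee804509629d09aca52558e47229297e7a85b0bc429446393d3cdb20ae3e40551af075efc7f2df33d265d643579dac9666b0400b598dff492a3074eda1ed640537fc91401dfa19431df08667e7aa06e190eb83a2db2bf078486f67e9ec3baa2f50e5c748fdd64839a8abcfcd54d64fc3ccb6817aaeeac486788c23177469e68ecc49733505bfdd728183dbe07f4f5d47fd571fb569c1ff22557766876b4fab95b69981aab48f5c47f7f7d55ee62495550380c3bdbbbfb9a21ba450999a44c5db36b350856051285878c11391d4362f86a39ce91e00380c48b253b5e9b8ad8f0f54c71ffeb7b5c05d5200d2e01c5fea424920c9c52d8cebd3e38bf5ba42ef812a0af4d1e135d8cdab49fc6f75c3f121efffad929a63e11f022e130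

/-- path -/
def pw4 : List ℕ := [11, 13, 11, 13, 12]
/-- word of the representative -/
def rw4 : List ℕ := [12, 13, 11, 13, 11, 14, 11, 13, 11, 13, 12]
/-- packed matrix of the representative -/
def mr4 : ℕ := 0x80efc26ea7d9e316923c5a003ead80ba104f61874264c2ab25414e9165c67a0ebfc6962aacb657c55d3dd02a8f035d8b8729222021b86b666ff4e8930e54a233694923329e96e5a109cfe51fc65577a8bd1d406d70b94c094a6bf4959d0e6a3e5a2cc6d599df6284876c0d003916aae4ce9037286c4ec2101722f442703c12b42abea38bf2f4b760aee994a231b98e33ae4d900ddc52337cfab1eb07ea82d396a9008adaba2a4ba017071911dc1675888ec0bdabad427189f943c2852a79ccf480d1aa018f1a4a7d51007163963f489cc992588aeb3841fe22dc86eb4e698fc4b60cec6a8102df8bd780d5bb4bbea6d771dcc4bea974f8cb7a5679eeb74ab85c3076b00d70fdcce9dc9985b53fa68a5797d19b71801482ca1212372698f78bed82054b27a38ac71ea2f290dbb32f1979cfb099f9c1a805fc003f4c41bb8d372a5b37b73dd5bb4202f37d9f56c801e5d2fad72da3849ec29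77c99c5a53423150f73d9ecec8d4eacb515dbcb7c1225c44e8f1ba3d9318aa054a47cf69b032e2a4d31d3390fc2bcf0661eabdbfe449e0938d3bc071b3a8946c69f7ab41f11664ee0712ce9e4ab656a105ebaaa61350acc4c2658fb7814e1035ff6ba31f7fdf4c825ebcda65a24c6eadba50b4ba3bcb83049d266aa3ad413c09c08ced1176351d7107d6931e16bb8248dc45e13af2f1f0904c48d91f20323428fa7e30fbe27395ec5b5dc80229253ac3170a6b43fa3bafdc9f4d781aeb92b58d3aebb96f6991f55e4299a9def6f882b904cba99fe70f9b51e691c946f628a9ec2f97b421c0743eece628172d958f8f9f862b36972f9672490ad5e8c36c7d1f255bff2442e6fe3bbced994924c5105b43f6ee848be2709acfce9a96da1f50d11879e872238ddb6d7b762ed6bd0e867b10cf0bee38621f85f2fe2d8875a2938543b945fd3ee509a28afdec05ed82af3cc31a98a5ecc2430c6809b4f16f8dab29fe9aa03a3736b77783c027c4a23478312b977d730653be317c5db056a26cba74d0c48a3739dbf071d28e965496593150c2d02d49dd28cfa2e1d7fd783ca478b8ee703caf01bc0205e1d4f83354505af128483fd468f0e46f973b956558b658e462fe166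994f07d3a7f8d628bcd45fe135fba1f54d6099ce34d15b85d9ef46cc7272e970e2d24ebfd573c393f0c23fcf9c0d0c2f3ee1d8d422bf6620b98109926d21da3ddd024acf44abc7a77c6aa19ae8800c63980bb52b6f38c4f88f037388a413c300c45256404d41320ccad7f309086f406f0432ff2ec7cb314c6f7f3977ce5e3e1375e98c5f5f8445d6df9335b2b5506f9b5aa11000399ffe2b69c4cbcc7424ec35ab8a2fa9f0f6da4c60c42d728f5a076bc3eea86fec6bb871681b9d144b148a7e5b049416b1ed9fc3a22efe136bd80e604b31482f61c19a8e4d283a53499c540953cddfc288e197f5642de3b651e43f7b274fc6a563488e1340f27b7580e77ac9e60b2d2bc33b27ba7d6661264370c43b7e8de247ca316f824becb3bac9b4a70ee39245de628a0caa2ed340908ecb0a98e743ed0d5b6b0a29526639ab39d998781c093a5589276cae2dfe070882c56694d9d5e63b54d1c7bddf4927bf95245d0f6a1f9608de9f87e699291dbe218abe3e3c7c3d94dca6afb96067a2d32bed42c19ca7112d0e74a6faba52a348db380b2bf4e6744db70ccbafa1de8f2e09aa50533e9d9ec76faa33dd12a24d647c4c1f6537370b5804c6b3e7e0858dc0a057d79ce05e5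28f6cd2ad7e298c05b3f83d7e5a81b96ba4cc531b4dba66aa4a7d3055c75b053d6c89cefd1759f93463e3880b6e57b31f98b04992302c2530aa56f438f9b70d679856be437f4f11176bd62ec773a83fa6c313c3dd9e9d41fbd453477575f4c4d14f2ddb3b994a14deb09f1db1f1bbc55434226dcc703bb706fd478518eb16bd40814a60a8d090dc4285762e2859b26deecdcb7b810ababe310f680f51c07e6b393674231174748451567b35083e9078660aa8d5f176968eae837d7d5e7efd15d3da11ca32738d838c8747cce9a18943b64d9c4b37e6c5361affa99fb72d4d8592b2030172ce5649634beae652e47832e7cac85eca7b5d722c490b47744888b11cefbfa220512e984eed07833b04d51513741fb3a009f1f1176316c16d916aa0b70ccf3bfabd2b5372ca2c2faa4033175c39f16f17258a23e626a8030dc76db320449c17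

/-- path -/
def pw5 : List ℕ := [11, 13, 11, 13, 12, 11, 12, 13, 11, 13, 12, 11]
/-- word of the representative -/
def rw5 : List ℕ := [11, 12, 13, 11, 13, 12, 11, 12, 13, 11, 13, 11, 14, 11, 13, 11, 13, 12, 11, 12, 13, 11, 13, 12, 11]
/-- packed matrix of the representative -/
def mr5 : ℕ := 0x4ee03dc2e0aa5d962582eb35eaba6a8eb73e7bf64549ee1b5cb778b7e5a5a93bf0ab221bd74648644fef4d17be3b9ecadad6452fd9e4c4cd626f2b3a7b42532e25c2208af1044d3177937860957a5e7503f943881adfefb5a5aa2de2c5533bdcd9eb43ed7bca7504ebd0ef01215fb0e60986d357e8f5940ac7451c6442feb13f89be0b6166f3bf1c535151ee72507f17fc77f2d476e11592d8e4080baf02fb16fc34e5c7c5ae8ff64c11577347fec6a0bb32e36c1292afbfd7d26a00d56dbe34129456cf43ba7f9082674346f4d0109af5a7b0da291165821f6bc402505790f6ab27b507e3f00885854335d9e5a2529a6d029d17150f35e989a8750f13575ee90202fba900d24f7379220ff68a67884f47c3c134228db4c4265021ec437bfa594f06bc4895acea55034b5a7ff18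3a3ddf31f48a7b730b5aa510da36cefeef5fd5cc473a7b73f9353a71d6a2180d60b304d925a4493cac890242d6b645f5c5b41e3543b0a4dcd3876acdb9a293ddc55598b5b89f9c716fabba59f25c702c3273c5ac00b53841c278bcef936006b0156195078263451de10549f8ab62d547729061b86fbc4b9a1e8a50dcf38277d94666dd06f0a3f7955c13e9743935282138cfce2e1fd49d6bbbbae422e2e9fed720d9de81b7c3d0bde3c817f0d51aa8718e7448cf145335b4a988df2c04e8d63981acdabe1ffdea5298130519a9e19cceaa0203bddf447f83e93bb5ae2d8699d00d89c24a93c1ba9555a61ab69152ba6b65423a6866fd32828fac3f95fd062d88bfe53e45b3e6612384423cd73f4e7c9416826baabd7c1938683195f9a33fe9bc3a7ab9aeb016032fb2c289921ed74670e940e7e14894e2228a04e6fbf24702ce269e8cef42813560b661ff3594f8b8d261fd0c2b020ba994dcc642bb16d1bf1be2f4be09024eec9d812a440942be8218e2689f22e65edf864f7f5609db4c61e32761064ce0495c5f44c50e62020d86444dc976469b66f31e654c6f53ae6746a5f633a0482c8ecdecd8489b3329f661ea3d6b48c5b0ee116328eb33567833b87ee95dd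dc0091f741b299a2402fcad1a24ec85541deb50d05b1dba217267cdda78f6ac09cc53acfcdf26388abefef6237c6d501be4da6f921797fdc7cef5ddc617a84f4b025caad0ca6fb076294da21abb786414c18a39d6e636678464bf79913709080a19b59b5fd4918151167123642ef3a124d8857c38dbe01cd5e4917716ee1c0bab6c450963ecba517e03cd3b562f962d46b5b673f715c7ad8cac38ec933afbda832a0c4cec65f3288d2df3bcafade757de512a918b20010f5424b4b3b3df5f510f455dfec4b68865dc56d8b7b58275f59503fd98f069dfa5c15944caaf0cbe554c977f7e6187a233daf2cd3027c483f4cc77853ccc5edad6101cf93671967d69e025247d7535cc2acdd1becb3b420e376b4c3f124eb252ecf236fa4261b6c3c0622e4d15855cb88a854d8a172bc65e5a2348e9cd7517a8e8046a89d9bc23f4944d105d1aa4a6f136cd0f08c30e4488b408d894ebdd6af2ab747261e844ba84011df58df46300fc334f555e307bd40932b9ce3260cbe9182a1124bee83a76b9239a3a2d6718893fdff95239e72ef098bc1ff7efe80a6784856094b5e5d4d331ec23b639a1a422baf27106604c3dbea2d9273c7a2de253e56e29892132ffdfc15e94970a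cc04f487d38627965626d431a43bd3c96f8dd1ce7b2e66dfe1a58e68f1ea2b2cc08d32c75fe7feb2089c1dcb83a38316a524dd251155afb200aa3ebff03985082beea93a2a94f0dc1719c107360c4de4d70017b83335f89670546bad375fffa682e0044d33f45d22ceeb4af3e2607339397bcc704b3add6fa97710c437d9619589e7a7f34c088bcf4ce56b7311c3e8120d797626c0d67ed3e5e4df47265c229bfa213db8b09cfeacf1a3a4089749e69ee9bbec01b9e711ad950262bf799fc751f3eae52e6fe0635b575b6bc48f0365bf904758f0da2fa9ad1740954fa040ca149c32bf7e671516bfad38755386dcdeed469e227f89d860572d5cabc8dca6e6d929ed644beda18b8f30e0cf001e88eef184e50acc5a38a650cff2fcd623b7b4994d7deb9ff9291da9a307f26f766a5638327fef5f5899e0bb7d17b1baa84ae780416b86d1515d5d55d594bb63b2ad05734476b4eaccdb22ae81ebe78da8a5d068ad436e01bfe9cacfba26960e2d9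

/-- path -/
def pw6 : List ℕ := [13, 11, 12, 11, 13, 11, 12, 13, 12, 13, 11, 12, 11]
/-- word of the representative -/
def rw6 : List ℕ := [11, 12, 11, 13, 12, 13, 12, 11, 13, 11, 12, 11, 13, 15, 13, 11, 12, 11, 13, 11, 12, 13, 12, 13, 11, 12, 11]
/-- packed matrix of the representative -/
def mr6 : ℕ := 0xe2bb71193a2a7c0073099b163d6c34ebf4cba41ca16e9c77ad83ba71dffc2705fb6f8644ca18a471e67bdea4ca4f3f9e9dfccc85c48287afd60100a4de59eb1febaee1f2d73b848b006168370a549d063df9f9da5803ba26904c8b959d5a778aa3895baf4db84abc3466ac017d16c9bd7ea2878176f65a6249918c9cb708dcaa56aa4c05a27f13051dc0552034a6d034a77e4b4a74ecae4050f0b01e61af7c199ecbee40c0a177be739c554b5def3fcd2959801f6c02817eac0e9046ff341d89429689a3f4f827c3c4a36aad7a299f18bb9f33212b74b02267521dbb7b8a4754e66d01ff6387a2ea57b450f0f26732ff6267d8d8ac47b2bc50366d22e088a49c45b2cda9afd16874c8a79b3a2373cec2af4815b23173d1b2714570c403fd99d193cf5633ac47067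68b9b403e87e67330b88d930afaee0a4e96287a4f40b1590343a648522f3e1c33859f7b6a5b4bc11d1143377d282a78cbe3d1e9dc903fa8d565f83382e9d9c7fd77515121ff05f120bd5c3a23ed12576995f23703080c5ba139686b3745cef42b50cb81b224bec876685b8eb052a1d6a936e3749a834dd5531edd52545ee68febbd247993f2e9362149fe0a8eb3946e8a624e8a9b7ef7d798295d7df284773c08bb18e74f000b99138e05ff122faf3e61da9d1604db602656ccf9e8c6d5379e26356026779388ebb09467040bf226ca6ed77b3c93535f4187bc71c56e7dfee0157e66251adfff3cad7ac249bd5d1c2292236c5d92789e2496acc9d6b0317260d5606fc86bc48523e6606cfdb62c6aead8e75330d38e2bed956c61afc8c7286966e60c672cebc1f63a5579f49320d175ed477a1d993c21aab4cc8881e3ccae9d6f4032c0ada272aa15ac6bac65fc00bcee9867211d01e65994d6396302a0cbb9ffe30dc70784f9fca5b2f2252de294321759f578785fdb020646a95872570e1cf6807821198ed82a6304be3f2b2c4b2ff9548ca17d959fc3766d69991dc448debf8e4c4077463ef1deb0dd0b0e13df1d1d92a40c88e4e465ea93f517aba5499ded86cc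ae7b53deba9dbc4bcbec8bff43df473fcd59ea2da4b893f92997ac76eadf43e1a7b90f62421a3178198acaa216c82f616905c87bff79a59a6eb1f8b5b47cb2edecd2c4e1e35be3017eb362e058bef2ea1ae301b70005442f39150c39c0f08896ab70895290eb78194afae8ba847e75637c8a61fd1e8a57138b7b6d396da9d7451f598e6dea2006fb7c1c11fc7f4ce6f406805cc259b8a708ffa5387cf9763698d2b29c25f79e914c7e660b8f17efbff8b7fc4cf85ec293cb6f9dfa19751ff57b3b055e8205422f64056e362b8d715e0788761fc945c506c53d11a601713fa817b930dacef914ab195eb288ace49ebd60bc3a3ef67e70828cf6bbe695d913af42264b6e077ba3851716a3cf41281bfde9d832faa29f50623b13b25cf28fbac53aa06eadc53d30906e6fdd6225a853b2c9a20be56d9706f7382181ac32e9f9db017303419416161375a485da66ffa6e920d9a470d4b25ac23bf0eed6b98e3e958590ea9d2acf22bb7b4bf125ac34c6d19348a6b55dd6deadd5bd9500a81ab9b922431315f998d52f1e0712aed44556d205c9369a046edb704e5fe6276df3b8c4b6a7ba14b9dcb4f2b73b5e0a3cc69bc2ec2951d69affaf2230ec9dfe6ba440eddeaf352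5e7cd598135b931c725f26a73b42412a931ce3b60c19e5f5cb6972e2ded13c849880d2d25aa268a6f35d5c3516854235fcd4115ba929d21ef4f7f180ec39eb73fc96f1533f744a7dce8b9031b2742d1ffdc5f37fb0b0ffc85326dd0dfebff4ada340b3a907e07d7a7041451daeeca30d2980bd8aa09dc4b11efcf2ccce811131b31ea6b1cf1a0aa8362f1e28eb2a2c1c844007af5e308907db5fc69e25a5a537a14c335a0edba36278284e5c6e9e4f0fc267862fe482124b99e1e05a06c3d08b6d94cda8d641dcb2468bdf26c7ca233d812e51df32fbd818fe37e924df8b6c9b3a7b47d28352e9f3ddd70282a1f6f0cb45a9ef1869581303b7f24adcb9879c9d5aecad998a1c29d4947782a0de6240bc5b97f5a80d1404e67ff6b615e4f3329ba8509668c79f3c251215558fc402326a37187a05f5e236d0b05ecbcf18eaf8c110f5bfe13b483426327a19095adee7a387916a3f6a470fb37b3a8d3dccee5e7041d5ea6089f39c3d09bf249aef3edcd4d6eff0e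

/-- path -/
def pw7 : List ℕ := [11, 13, 11, 13, 11, 12, 13, 11, 12]
/-- word of the representative -/
def rw7 : List ℕ := [12, 11, 13, 12, 11, 13, 11, 13, 11, 16, 11, 13, 11, 13, 11, 12, 13, 11, 12]
/-- packed matrix of the representative -/
def mr7 : ℕ := 0x5a95269f84b0831e16d9462c80fa56f3cf137bdc29dfd2068fddadf234febab4c8085b0cfe422c84b00e604572a6d7db8c37f4079c63a98ae7da586af252eb0ad7d1cc425a6144f52c93ccd91cd274c50b1171fd2c754f33f7f23586c871eeee249b18fedc1f294d614f2198addf88ad2e8ae5380299fb349ae17c25ffb44c34991b6ad4ab8bb480986fcc54ee27d8992a43d73e4ba73da7510afcb691456726f81f959b20f6f233010b0654f1d2c3480dc68035d4f87e2333302bdc01876f67b1d2e4b4d3392de918d4db2d61280fd7493934f77d34940c5efb99191f23df2695fce69a1d0da6c33cca542b35012d802101ca0388ebd502a2eec828f83c6ec4e1a5dc06f45e9e842a658505733060097c470b9aee10e62c7460f7790792b260df7e2d741731e7ed6e0a819edbb23f8d434419b35c21efe2c15f61a294092cf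2e691177df92952235b8204080be6308df475bc3424ba288de836e74241121c9b23b091befe47a591aa403135e4f0226ebb701f5354b5e758a85c046d597c0ed45d3cd7b12241421b03abd7492d36bf9fc5e39d68dbf5dc53b5c8c07d466f1bc1bb3d1ed46fc4e93dc311e0df900110997614e0c60550db638974287ca902cc3815798a78e444cbe86f1d231488b31855035457b0fbc9237f5f8b8b317f5982b51db13b72206383875c4751cd01c994862f91d5c77c0a520959dd42cd3e08b317eda5435c6f9a236904f96455ec7a25b992184492c322072aa88bbcf1e76d1288eaf95229fe370e621b05556629a1ed772ec3e3c0f5d45dc1fc105fc75480aef27cb6906c3bcfdba42a646c47acd82f97dcbbbe1948905f9cbb7357f85c820fcca30413a98ca7ec93c1800a9d8f9d8b40f66ee34f7cd2709fb4510ee7f489e441bbb83c33ef03c344273c415172000a7c17f032a46c3e8ee25e20d4392cf2badf1aeacbbf656646412555414a2609c56e2116a52bf26ea254c402406bc3610d5f1acd2fc8aa963f1c37b6195915d7a2a5a205ce45c41197b2d45aea4f74a6e9aa102c290e1250b48db9e6e17f2f7f5879e7cacb048b3b332fbafc99f75e97660a15a4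aa9ff923d91cbec2c2fe9fd228f64ca4f9ec5f99951ff97adec541f10fcd7a54e29add96fff6df5fc21f6105ffb4e0a282be14028dea2a1165420a8c7766b35edf7ce5d9e56f8a946e108a0e55f314bb491f2518dbbdc39ed508076d8b68589954f5fce861da3fe52f4bede90d52a9a05db7b32806e3453c5710cf697801574c02a83dd9e1629a9bd0f58edea5dab81fad54d0a73e58e92ccac7273908981fc021b65b55d12e672ffedb0aecef5f84d7148881b687afd819a70bf1d91fd194e0c9d8d76a63062572c330a2a802bc80d963b012b8d66501037c6b6340e3042516bdd8a9b3fb686505769ea36ae81d3897b38627c356f74835e09451710bde5d4aa0a1c59e0b84e77e5ce163807fd6d4f7007f83a528bfb961c55fffefb0a0f84a08fdd543c0dfa10350693ea77a6a0d6d13175d8aba58f5a29df9360dc9fa631f02112dc641e8ee314f8ff05be80ae8d277a2099c52459a5ade3c58a06f792b574511f822dbbfc60eb6296569c4edf2f7da03eae6dbd588663bb390fc4457ff1bec468eff41741fbd6097e3ed9e912db65b73b67e59fdf4fdda51f13aa741bcd512eb9f36ccc3327b5202f71e5249eda1c2b1cdeda78a9f0f8b5c7e2428e3527e308c2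28db90cbfa8d5095469b6003de4c6295d35d74e0afe533c30931d80ff814bb48a7df478340703114b57b72b97d51beb5f6214241be87149e089ff71a32f7693e1d698d84f954a4718b4ff99d0f842d6e5d95059aa6338e2e3d0ad3d7a0a8851ea069e7270b42e2aae1a7cc69611e9d3e5e0e437ccee34053b8164673b772ca07451d8ed2efbee4874b992df6d20266130e9549bcba6350b585abab7dc371944a30d0db3b75b3aabd8b972666a436206d6736c9bf226865d86a55af1fa6b1b186b39c050be110822a6ca6b3d4a481232c8113ad9f8756683deeb7ad8c49a99b9e3c6abc3d680d7709ad11c010ff4fec3f44c472309885301f377428cbfb72c5aacb1dddcdb28d222e59ba8e666cbfe93a2cf93347e98c8a505a28a876c91a07c40b4619e8abee3289417fbf9053b54377709428ad2eaa044e18c6f470815d408f9d86fbeb89776fbfa01efdfd2a6790044f801b691e49fd11b9e90f2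

attribute [local irreducible] c1 c2 c3 t1 t2 t3 y0 f1 f2 q1 c6

/-- the words of the representatives -/
def rws : List (List ℕ) := [rw0, rw1, rw2, rw3, rw4, rw5, rw6, rw7]
/-- the paths -/
def pws : List (List ℕ) := [pw0, pw1, pw2, pw3, pw4, pw5, pw6, pw7]
/-- the packed representatives -/
def LR : List ℕ := [mr0, mr1, mr2, mr3, mr4, mr5, mr6, mr7]

/-- the representatives -/
noncomputable def rm (m : ℕ) : Cfsg.Spor.J4 := evG L0 (rws.getD m [])
/-- the representatives -/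
noncomputable def TR : List Cfsg.Spor.J4 := [rm 0, rm 1, rm 2, rm 3, rm 4, rm 5, rm 6, rm 7]

theorem hR : List.Forall₂ (Codes 112) (TR.map rho) LR := by
  have h0 : Codes 112 (rho (rm 0)) mr0 := codes_lit (w := rw0) (by decide +kernel)
  have h1 : Codes 112 (rho (rm 1)) mr1 := codes_lit (w := rw1) (by decide +kernel)
  have h2 : Codes 112 (rho (rm 2)) mr2 := codes_lit (w := rw2) (by decide +kernel)
  have h3 : Codes 112 (rho (rm 3)) mr3 := codes_lit (w := rw3) (by decide +kernel)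
  have h4 : Codes 112 (rho (rm 4)) mr4 := codes_lit (w := rw4) (by decide +kernel)
  have h5 : Codes 112 (rho (rm 5)) mr5 := codes_lit (w := rw5) (by decide +kernel)
  have h6 : Codes 112 (rho (rm 6)) mr6 := codes_lit (w := rw6) (by decide +kernel)
  have h7 : Codes 112 (rho (rm 7)) mr7 := codes_lit (w := rw7) (by decide +kernel)
  exact .cons h0 (.cons h1 (.cons h2 (.cons h3 (.cons h4 (.cons h5 (.cons h6 (.cons h7 .nil)))))))

/-- generators of `C(⟨f1, y0⟩)` -/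
noncomputable def C1 : List Cfsg.Spor.J4 := [q1, tt]
/-- generators of `C(⟨f2, y0⟩)` -/
noncomputable def C2 : List Cfsg.Spor.J4 := [c6]

theorem hC1 : List.Forall₂ (Codes 112) (C1.map rho) [mq1, mtt] := .cons codes_q1 (.cons codes_tt .nil)
theorem hC1i : List.Forall₂ (Codes 112) ((C1.map rho).map fun g => g⁻¹) [mq1i, mtt] :=
  .cons codes_q1i (.cons codes_tti .nil)
theorem hC2 : List.Forall₂ (Codes 112) (C2.map rho) [mc6] := .cons codes_c6 .nil
theorem hC2i : List.Forall₂ (Codes 112) ((C2.map rho).map fun g => g⁻¹) [mc6i] := .cons codes_c6i .nil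

/-- the orbit of the representative 0 -/
def oc0 : Piece := ⟨0, [], [3, 1, 1, 1, 1, 0, 2, 0, 0, 2, 1, 1, 0, 2, 0, 0, 0, 0, 0, 2, 1, 1, 1, 0, 0, 2]⟩
/-- keys of the orbit -/
def ok0 : List ℕ := [14619479, 4051759, 13269295, 1341136, 9290749, 12826857, 15860218, 9804866, 3022049, 11120619, 8972836,
  1047553, 4337820, 5500114, 227569]

theorem o0 : oc0.chkD 112 [mq1, mtt] [mq1i, mtt] LR (fun a M => Nat.beq (key 12159 24 M) a) ok0 = true := chkD_of (by decide +kernel)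

/-- the orbit of the representative 1 -/
def oc1 : Piece := ⟨1, [], [3, 1, 1, 2, 1, 1, 0, 0, 0, 0, 2, 1, 0, 0, 0, 2, 1]⟩
/-- keys of the orbit -/
def ok1 : List ℕ := [9134465, 3985334, 1318770, 8416024, 14372071, 6871160, 14818098, 2135051, 11546554, 9694247]

theorem o1 : oc1.chkD 112 [mq1, mtt] [mq1i, mtt] LR (fun a M => Nat.beq (key 12159 24 M) a) ok1 = true := chkD_of (by decide +kernel)

/-- the orbit of the representative 2 -/
def oc2 : Piece := ⟨2, [], [3, 1, 1, 2, 1, 1, 0, 0, 0, 0, 2, 1, 0, 0, 0, 2, 1]⟩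
/-- keys of the orbit -/
def ok2 : List ℕ := [6112956, 11273557, 2086394, 5694461, 5244452, 6109319, 15278479, 6808033, 4676439, 12846446]

theorem o2 : oc2.chkD 112 [mq1, mtt] [mq1i, mtt] LR (fun a M => Nat.beq (key 12159 24 M) a) ok2 = true := chkD_of (by decide +kernel)

/-- the orbit of the representative 3 -/
def oc3 : Piece := ⟨3, [], [3, 1, 1, 1, 1, 2, 0, 0, 2, 1, 1, 0, 2, 0, 0, 0, 0, 0, 2, 1, 1, 1, 0, 0, 2]⟩
/-- keys of the orbit -/
def ok3 : List ℕ := [8866725, 12753416, 11684579, 15059540, 7333577, 14069168, 2317016, 12433200, 14595950, 12978257, 11391389,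
  16515373, 16607795, 2704820, 2584052]

theorem o3 : oc3.chkD 112 [mq1, mtt] [mq1i, mtt] LR (fun a M => Nat.beq (key 12159 24 M) a) ok3 = true := chkD_of (by decide +kernel)

/-- the orbit of the representative 4 -/
def oc4 : Piece := ⟨4, [], [2, 1, 1, 1, 1, 1]⟩
/-- keys of the orbit -/
def ok4 : List ℕ := [441111, 10270008, 10051431, 893671, 12213886, 14350375]

theorem o4 : oc4.chkD 112 [mc6] [mc6i] LR (fun a M => Nat.beq (key 12159 24 M) a) ok4 = true := chkD_of (by decide +kernel)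

/-- the orbit of the representative 5 -/
def oc5 : Piece := ⟨5, [], [2, 1, 1]⟩
/-- keys of the orbit -/
def ok5 : List ℕ := [7814549, 3605557, 7746560]

theorem o5 : oc5.chkD 112 [mc6] [mc6i] LR (fun a M => Nat.beq (key 12159 24 M) a) ok5 = true := chkD_of (by decide +kernel)

/-- the orbit of the representative 6 -/
def oc6 : Piece := ⟨6, [], [2]⟩
/-- keys of the orbit -/
def ok6 : List ℕ := [10387261]

theorem o6 : oc6.chkD 112 [mc6] [mc6i] LR (fun a M => Nat.beq (key 12159 24 M) a) ok6 = true := chkD_of (by decide +kernel)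

/-- the orbit of the representative 7 -/
def oc7 : Piece := ⟨7, [], [2, 1, 1, 1, 1, 1]⟩
/-- keys of the orbit -/
def ok7 : List ℕ := [5091255, 1111607, 6295587, 5660010, 11231341, 10971629]

theorem o7 : oc7.chkD 112 [mc6] [mc6i] LR (fun a M => Nat.beq (key 12159 24 M) a) ok7 = true := chkD_of (by decide +kernel)

theorem sub1 : ∀ a ∈ S1, a ∈ [ok0, ok1, ok2, ok3].flatten := by decide +kernel
theorem sub2 : ∀ a ∈ S2, a ∈ [ok4, ok5, ok6, ok7].flatten := by decide +kernel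

/-- the elements of an orbit -/
theorem orb {C : List Cfsg.Spor.J4} {LC' LCi' : List ℕ} (hC : List.Forall₂ (Codes 112) (C.map rho) LC')
    (hCi : List.Forall₂ (Codes 112) ((C.map rho).map fun g => g⁻¹) LCi') {f : Cfsg.Spor.J4}
    (hf : ∀ c ∈ C, c * f = f * c ∧ c * y0 = y0 * c) {m : ℕ} {p : Piece} (hp : p.root = m) (hp' : p.path = [])
    (hm : getG TR m = rm m) {K : List ℕ}
    (h : p.chkD 112 LC' LCi' LR (fun a M => Nat.beq (key 12159 24 M) a) K = true) {a : ℕ} (ha : a ∈ K) :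
    ∃ r, (HK r a ∧ r ∈ p.vis C TR) ∧
      (r = 1 ∨ ∃ c, c * f = f * c ∧ c * y0 = y0 * c ∧ r = c⁻¹ * rm m * c) := by
  have h1 := Piece.chkD_sound hC hCi hR h
  rw [Piece.vis_map, List.forall₂_map_left_iff] at h1
  have h2 : ∀ g ∈ p.vis C TR, g = 1 ∨ ∃ c, c * f = f * c ∧ c * y0 = y0 * c ∧ g = c⁻¹ * rm m * c := by
    unfold Piece.vis
    rw [hp', hp, hm]
    refine Eng.vis_mem (P := fun g => g = 1 ∨ ∃ c, c * f = f * c ∧ c * y0 = y0 * c ∧ g = c⁻¹ * rm m * c)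
      (Or.inl rfl) (fun c hc g hg => ?_) (fun g hg => ?_)
    · rcases hg with hg | ⟨d, h3, h4, h5⟩
      · left; rw [hg]; group
      · right
        obtain ⟨h6, h7⟩ := hf c hc
        refine ⟨d * c, ?_, ?_, ?_⟩
        · rw [mul_assoc, h6, ← mul_assoc, h3, mul_assoc]
        · rw [mul_assoc, h7, ← mul_assoc, h4, mul_assoc]
        · rw [h5]; group
    · right
      rw [show pstk C [] [rm m] = [rm m] from rfl, List.mem_singleton] at hg
      exact ⟨1, by rw [one_mul, mul_one], by rw [one_mul, mul_one], by rw [hg]; group⟩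
  clear h
  generalize p.vis C TR = V at h1 h2
  induction h1 with
  | nil => exact absurd ha List.not_mem_nil
  | @cons g b V K h3 _ ih =>
    rcases List.mem_cons.1 ha with h4 | h4
    · obtain ⟨M, h5, h6⟩ := h3
      exact ⟨g, ⟨by rw [h4]; exact HK.of_codes h5 h6, List.mem_cons_self⟩, h2 g List.mem_cons_self⟩
    · obtain ⟨r, ⟨h5, h6⟩, h7⟩ := ih h4 fun g hg => h2 g (List.mem_cons_of_mem _ hg)
      exact ⟨r, ⟨h5, List.mem_cons_of_mem _ h6⟩, h7⟩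

theorem comm1 : ∀ c ∈ C1, c * f1 = f1 * c ∧ c * y0 = y0 * c := by
  have e1 := eq_w (w := [4, 0]) (v := [0, 4]) (by decide +kernel)
  have e2 := eq_w (w := [4, 9]) (v := [9, 4]) (by decide +kernel)
  have e3 := eq_w (w := [6, 0]) (v := [0, 6]) (by decide +kernel)
  have e4 := eq_w (w := [6, 9]) (v := [9, 6]) (by decide +kernel)
  simp only [evG_cons, evG_nil, mul_one] at e1 e2 e3 e4
  intro c hc
  simp only [C1, List.mem_cons, List.not_mem_nil, or_false] at hc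
  rcases hc with hc | hc
  · rw [hc]; exact ⟨e1, e2⟩
  · rw [hc]; exact ⟨e3, e4⟩

theorem comm2 : ∀ c ∈ C2, c * f2 = f2 * c ∧ c * y0 = y0 * c := by
  have e1 := eq_w (w := [7, 2]) (v := [2, 7]) (by decide +kernel)
  have e2 := eq_w (w := [7, 9]) (v := [9, 7]) (by decide +kernel)
  simp only [evG_cons, evG_nil, mul_one] at e1 e2
  intro c hc
  simp only [C2, List.mem_cons, List.not_mem_nil, or_false] at hc
  rw [hc]; exact ⟨e1, e2⟩

theorem TY_conj {c t : Cfsg.Spor.J4} (hc : c * y0 = y0 * c) (ht : TY t) : TY (c⁻¹ * t * c) := by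
  obtain ⟨h1, h2⟩ := ht
  have h3 : c * y0 * c⁻¹ = y0 := by rw [hc, mul_inv_cancel_right]
  have h4 : c⁻¹ * y0⁻¹ * c = y0⁻¹ := by
    have : c⁻¹ * y0 * c = y0 := by
      nth_rw 1 [← h3]
      group
    calc c⁻¹ * y0⁻¹ * c = (c⁻¹ * y0 * c)⁻¹ := by group
      _ = y0⁻¹ := by rw [this]
  constructor
  · calc c⁻¹ * t * c * (c⁻¹ * t * c) = c⁻¹ * (t * t) * c := by group
      _ = 1 := by rw [h1]; group
  · calc c⁻¹ * t * c * y0 * (c⁻¹ * t * c)⁻¹ = c⁻¹ * (t * (c * y0 * c⁻¹) * t⁻¹) * c := by group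
      _ = y0⁻¹ := by rw [h3, h2, h4]

/-- an element of `⟨c1, c2, c3⟩` -/
noncomputable def cw (m : ℕ) : Cfsg.Spor.J4 := evG L0 (pws.getD m [])

theorem cw_comm (m : ℕ) : cw m * y0 = y0 * cw m := by
  have key : ∀ w : List ℕ, (∀ i ∈ w, i = 11 ∨ i = 12 ∨ i = 13) → evG L0 w * y0 = y0 * evG L0 w := by
    intro w
    induction w with
    | nil => intro _; rw [evG_nil, one_mul, mul_one]
    | cons a w ih =>
      intro h
      have h1 : getG L0 a * y0 = y0 * getG L0 a := by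
        rcases h a List.mem_cons_self with rfl | rfl | rfl
        · exact c1_y0
        · exact c2_y0
        · exact c3_y0
      rw [evG_cons, mul_assoc, ih fun i hi => h i (List.mem_cons_of_mem _ hi), ← mul_assoc, h1, mul_assoc]
  refine key _ ?_
  by_cases hm : m < 8
  · interval_cases m <;> decide
  · have : pws.getD m [] = [] := List.getD_eq_default _ _ (by simpa [pws] using hm)
    rw [this]
    intro i hi
    exact absurd hi List.not_mem_nil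

/-- number of the root -/
def kr (m : ℕ) : ℕ := [0, 0, 1, 2, 0, 0, 1, 2].getD m 0

theorem rm_eq {m : ℕ} (hm : m < 8) : rm m = (cw m)⁻¹ * getG TJ (kr m) * cw m := by
  have key : ∀ (w : List ℕ) (k : ℕ), (∀ i ∈ w, i = 6 ∨ 11 ≤ i) →
      evG L0 (w.reverse ++ ([k] ++ w)) = (evG L0 w)⁻¹ * getG L0 k * evG L0 w := by
    intro w k hw
    rw [evG_append', evG_append', evG_reverse hw, evG_cons, evG_nil, mul_one, mul_assoc]
  interval_cases m
  · exact key pw0 14 (by decide)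
  · exact key pw1 14 (by decide)
  · exact key pw2 15 (by decide)
  · exact key pw3 16 (by decide)
  · exact key pw4 14 (by decide)
  · exact key pw5 14 (by decide)
  · exact key pw6 15 (by decide)
  · exact key pw7 16 (by decide)

theorem rm_TY {m : ℕ} (hm : m < 8) : TY (rm m) := by
  rw [rm_eq hm]
  refine TY_conj (cw_comm m) (TJ_TY ?_)
  interval_cases m
  · exact List.mem_cons_self
  · exact List.mem_cons_self
  · exact List.mem_cons_of_mem _ List.mem_cons_self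
  · exact List.mem_cons_of_mem _ (List.mem_cons_of_mem _ List.mem_cons_self)
  · exact List.mem_cons_self
  · exact List.mem_cons_self
  · exact List.mem_cons_of_mem _ List.mem_cons_self
  · exact List.mem_cons_of_mem _ (List.mem_cons_of_mem _ List.mem_cons_self)

/-- two elements with the same key -/
theorem key_inj' [Finite Cfsg.Spor.J4] (hcard : Nat.card {t // TY t} ≤ 10296) {t r : Cfsg.Spor.J4}
    (ht : TY t) (hr : r = 1 ∨ TY r) {a : ℕ} (h : HK t a) (h' : HK r a) : t = r := by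
  rcases hr with hr | hr
  · exfalso
    have h1 : HK 1 (key 12159 24 (F2Mat.one 112)) := ⟨F2Mat.one 112, by rw [map_one]; exact Codes.one 112, rfl⟩
    rw [hr] at h'
    have h2 := h'.unique h1
    have h3 := mem_VL hcard ht
    have h4 : ∃ b ∈ KL.flatten, HK t b := by
      have h := forall_keys
      generalize KL.flatten = K at h
      generalize VL = V at h h3
      induction h with
      | nil => exact absurd h3 List.not_mem_nil
      | @cons g c V K h5 _ ih =>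
        rcases List.mem_cons.1 h3 with h6 | h6
        · rw [← h6] at h5
          exact ⟨c, List.mem_cons_self, h5⟩
        · obtain ⟨b, hb, h7⟩ := ih h6
          exact ⟨b, List.mem_cons_of_mem _ hb, h7⟩
    obtain ⟨b, hb, h5⟩ := h4
    rw [h5.unique h, h2] at hb
    exact (List.nodup_cons.1 nodup_keys).1 hb
  · exact key_inj hcard ht hr h h'

theorem sols [Finite Cfsg.Spor.J4] (hcard : Nat.card {t // TY t} ≤ 10296) {t : Cfsg.Spor.J4} (ht : TY t) :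
    (EnvF.Sol f1 t → ∃ a ∈ S1, HK t a) ∧ (EnvF.Sol f2 t → ∃ a ∈ S2, HK t a) := by
  obtain ⟨M, h1, -, h2, -⟩ := VL_AT (mem_VL hcard ht)
  exact tst_sound h1 h2 ht.1

/-- **the solutions for `f1`** -/
theorem sol1' [Finite Cfsg.Spor.J4] (hcard : Nat.card {t // TY t} ≤ 10296) {t : Cfsg.Spor.J4} (ht : TY t)
    (h : EnvF.Sol f1 t) : t ∈ [oc0, oc1, oc2, oc3].flatMap (Piece.vis C1 TR) ∧
      ∃ m < 4, ∃ c, c * f1 = f1 * c ∧ c * y0 = y0 * c ∧ c * t * c⁻¹ = rm m := by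
  obtain ⟨a, ha, h1⟩ := (sols hcard ht).1 h
  have h2 := sub1 a ha
  have h3 : ∃ m < 4, ∃ p ∈ [oc0, oc1, oc2, oc3], ∃ r, (HK r a ∧ r ∈ p.vis C1 TR) ∧
      (r = 1 ∨ ∃ c, c * f1 = f1 * c ∧ c * y0 = y0 * c ∧ r = c⁻¹ * rm m * c) := by
    simp only [List.flatten_cons, List.flatten_nil, List.append_nil, List.mem_append] at h2
    rcases h2 with h2 | h2 | h2 | h2
    · exact ⟨0, by norm_num, oc0, by simp, orb hC1 hC1i comm1 rfl rfl rfl o0 h2⟩
    · exact ⟨1, by norm_num, oc1, by simp, orb hC1 hC1i comm1 rfl rfl rfl o1 h2⟩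
    · exact ⟨2, by norm_num, oc2, by simp, orb hC1 hC1i comm1 rfl rfl rfl o2 h2⟩
    · exact ⟨3, by norm_num, oc3, by simp, orb hC1 hC1i comm1 rfl rfl rfl o3 h2⟩
  obtain ⟨m, hm, p, hp, r, ⟨h4, hr⟩, h5⟩ := h3
  have h6 : r = 1 ∨ TY r := by
    rcases h5 with h5 | ⟨c, h7, h8, h9⟩
    · exact Or.inl h5
    · right; rw [h9]; exact TY_conj h8 (rm_TY (by omega))
  have h7 := key_inj' hcard ht h6 h1 h4
  rcases h5 with h5 | ⟨c, h8, h9, h10⟩
  · exfalso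
    rw [h7, h5] at ht
    have := ht.2
    rw [inv_one, mul_one, one_mul] at this
    have h11 : y0 * y0 = 1 := by nth_rw 2 [this]; exact mul_inv_cancel _
    have h12 := y0_cube
    rw [h11, mul_one] at h12
    exact y0_ne h12
  · exact ⟨List.mem_flatMap.2 ⟨p, hp, h7 ▸ hr⟩, m, hm, c, h8, h9, by rw [h7, h10]; group⟩

/-- the solutions for `f1`, up to conjugation -/
theorem sol1 [Finite Cfsg.Spor.J4] (hcard : Nat.card {t // TY t} ≤ 10296) {t : Cfsg.Spor.J4} (ht : TY t)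
    (h : EnvF.Sol f1 t) : ∃ m < 4, ∃ c, c * f1 = f1 * c ∧ c * y0 = y0 * c ∧ c * t * c⁻¹ = rm m :=
  (sol1' hcard ht h).2

/-- **the solutions for `f2`** -/
theorem sol2' [Finite Cfsg.Spor.J4] (hcard : Nat.card {t // TY t} ≤ 10296) {t : Cfsg.Spor.J4} (ht : TY t)
    (h : EnvF.Sol f2 t) : t ∈ [oc4, oc5, oc6, oc7].flatMap (Piece.vis C2 TR) ∧
      ∃ m, 4 ≤ m ∧ m < 8 ∧ ∃ c, c * f2 = f2 * c ∧ c * y0 = y0 * c ∧ c * t * c⁻¹ = rm m := by
  obtain ⟨a, ha, h1⟩ := (sols hcard ht).2 h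
  have h2 := sub2 a ha
  have h3 : ∃ m, 4 ≤ m ∧ m < 8 ∧ ∃ p ∈ [oc4, oc5, oc6, oc7], ∃ r, (HK r a ∧ r ∈ p.vis C2 TR) ∧
      (r = 1 ∨ ∃ c, c * f2 = f2 * c ∧ c * y0 = y0 * c ∧ r = c⁻¹ * rm m * c) := by
    simp only [List.flatten_cons, List.flatten_nil, List.append_nil, List.mem_append] at h2
    rcases h2 with h2 | h2 | h2 | h2
    · exact ⟨4, by norm_num, by norm_num, oc4, by simp, orb hC2 hC2i comm2 rfl rfl rfl o4 h2⟩
    · exact ⟨5, by norm_num, by norm_num, oc5, by simp, orb hC2 hC2i comm2 rfl rfl rfl o5 h2⟩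
    · exact ⟨6, by norm_num, by norm_num, oc6, by simp, orb hC2 hC2i comm2 rfl rfl rfl o6 h2⟩
    · exact ⟨7, by norm_num, by norm_num, oc7, by simp, orb hC2 hC2i comm2 rfl rfl rfl o7 h2⟩
  obtain ⟨m, hm, hm', p, hp, r, ⟨h4, hr⟩, h5⟩ := h3
  have h6 : r = 1 ∨ TY r := by
    rcases h5 with h5 | ⟨c, h7, h8, h9⟩
    · exact Or.inl h5
    · right; rw [h9]; exact TY_conj h8 (rm_TY (by omega))
  have h7 := key_inj' hcard ht h6 h1 h4
  rcases h5 with h5 | ⟨c, h8, h9, h10⟩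
  · exfalso
    rw [h7, h5] at ht
    have := ht.2
    rw [inv_one, mul_one, one_mul] at this
    have h11 : y0 * y0 = 1 := by nth_rw 2 [this]; exact mul_inv_cancel _
    have h12 := y0_cube
    rw [h11, mul_one] at h12
    exact y0_ne h12
  · exact ⟨List.mem_flatMap.2 ⟨p, hp, h7 ▸ hr⟩, m, hm, hm', c, h8, h9, by rw [h7, h10]; group⟩

/-- the solutions for `f2`, up to conjugation -/
theorem sol2 [Finite Cfsg.Spor.J4] (hcard : Nat.card {t // TY t} ≤ 10296) {t : Cfsg.Spor.J4} (ht : TY t)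
    (h : EnvF.Sol f2 t) : ∃ m, 4 ≤ m ∧ m < 8 ∧ ∃ c, c * f2 = f2 * c ∧ c * y0 = y0 * c ∧ c * t * c⁻¹ = rm m :=
  (sol2' hcard ht h).2

end Cfsg.Agent.H111.JM.Sol

private theorem dce_fd5cfb16cb28 : _root_.True := by
  try have : _root_.True := by simp only [_root_.Cfsg.Agent.H111.JM.Sol.C2.eq_1]
  try have : _root_.True := by simp only [_root_.Cfsg.Agent.H111.JM.Sol.C1.eq_1]
  try have : _root_.True := by simp only [_root_.Cfsg.Agent.H111.JM.Sol.pws.eq_1]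
  exact _root_.True.intro
end

-- part: H111/JM/L27_mg
section
prune_inst 0x7f00000000000000000000000000000000000000000000000000000000000000000000000000000000000000000000000000000000000000000000000000000000000000000000000000000000000000003fffffffffffffffffffffffffffbeffbdffffffff
set_option linter.all false
open scoped Cfsg.Agent.FastGrp
private noncomputable def lq26f5db1ca5 {T : Sort _} (f :
    type_of% (@_root_.List.cons.{0} (Nat)) →
    type_of% (@_root_.List.cons.{0}) →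
    type_of% (@_root_.List.nil.{0}) → T) : T :=
  f (@_root_.List.cons.{0} (Nat)) (@_root_.List.cons.{0}) (@_root_.List.nil.{0})

-- part: H111/JM/Psl7
section
/-!
# Generators of `PSL₂(7)` (helper111, S5580)

`Tri f y t` : the relations of the triple `(1,1;0,1)`, `diag(4,2)`, `(0,1;-1,0)`.
-/

set_option autoImplicit false

namespace Cfsg.Agent.H111.JM.Psl7

open Matrix Cfsg.Agent.H911.SLTwo
open Cfsg.Agent.H265.JM.PslGens (gen)

/-- relations of the triple of generators -/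
structure Tri {S : Type*} [Group S] (f y t : S) : Prop where
  f1 : f ≠ 1
  f7 : f ^ 7 = 1
  yf : y * f * y⁻¹ = f ^ 2
  y1 : y ≠ 1
  y3 : y ^ 3 = 1
  tt : t * t = 1
  ty : t * y * t⁻¹ = y⁻¹
  ft : f * t * (f * t) * (f * t) = 1

theorem Tri.map {S S' : Type*} [Group S] [Group S'] {f y t : S} (h : Tri f y t) (e : S →* S')
    (he : Function.Injective e) : Tri (e f) (e y) (e t) where
  f1 := by rw [Ne, map_eq_one_iff e he]; exact h.f1
  f7 := by rw [← map_pow, h.f7, map_one]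
  yf := by rw [← map_mul, ← map_inv, ← map_mul, h.yf, map_pow]
  y1 := by rw [Ne, map_eq_one_iff e he]; exact h.y1
  y3 := by rw [← map_pow, h.y3, map_one]
  tt := by rw [← map_mul, h.tt, map_one]
  ty := by rw [← map_mul, ← map_inv, ← map_mul, h.ty, map_inv]
  ft := by rw [← map_mul, ← map_mul, ← map_mul, h.ft, map_one]

instance fact7 : Fact (Nat.Prime 7) := ⟨by norm_num⟩

abbrev SS := _root_.Matrix.SpecialLinearGroup (Fin 2) (ZMod 7)
abbrev TT := ProjectiveSpecialLinearGroup (Fin 2) (ZMod 7)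

/-- the projection -/
def pr : SS →* TT := QuotientGroup.mk' _

theorem pr_surjective : Function.Surjective pr := QuotientGroup.mk'_surjective _

theorem pr_neg_one : pr (-1) = 1 := by
  rw [pr, QuotientGroup.mk'_apply, QuotientGroup.eq_one_iff, Matrix.SpecialLinearGroup.mem_center_iff]
  refine ⟨-1, by decide, ?_⟩
  ext i j
  simp only [Matrix.scalar_apply, Matrix.diagonal_apply, Matrix.one_apply, _root_.Matrix.SpecialLinearGroup.coe_neg, _root_.Matrix.SpecialLinearGroup.coe_one, _root_.Matrix.neg_apply]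
  split <;> simp

theorem pr_eq_one {g : SS} (h : pr g = 1) : g = 1 ∨ g = -1 := by
  rw [pr, QuotientGroup.mk'_apply, QuotientGroup.eq_one_iff, Matrix.SpecialLinearGroup.mem_center_iff] at h
  obtain ⟨r, hr1, hr⟩ := h
  have h1 : ∀ r : ZMod 7, r ^ Fintype.card (Fin 2) = 1 → r = 1 ∨ r = -1 := by decide
  have e00 : g.1 0 0 = r := by rw [← hr]; simp
  have e01 : g.1 0 1 = 0 := by rw [← hr]; simp
  have e10 : g.1 1 0 = 0 := by rw [← hr]; simp
  have e11 : g.1 1 1 = r := by rw [← hr]; simp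
  rcases h1 r hr1 with rfl | rfl
  · left; apply ext' <;> simp only [e00, e01, e10, e11, o00, o01, o10, o11]
  · right; apply ext' <;> simp only [e00, e01, e10, e11, n00, n01, n10, n11, o00, o01, o10, o11, neg_zero]

theorem pr_eq {g h : SS} (hh : pr g = pr h) : g = h ∨ g = -h := by
  have h1 : pr (g * h⁻¹) = 1 := by rw [map_mul, map_inv, hh, mul_inv_cancel]
  rcases pr_eq_one h1 with h2 | h2
  · left; exact mul_inv_eq_one.1 h2
  · right
    rw [mul_inv_eq_iff_eq_mul] at h2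
    rw [h2, neg_one_mul]

/-- the unit 4 -/
def four : (ZMod 7)ˣ := ⟨4, 2, by decide, by decide⟩

theorem tri : Tri (pr (U 1)) (pr (hh four)) (pr ww) where
  f1 := by
    intro h
    rcases pr_eq_one h with h | h
    · have := congrArg (fun g : SS => g.1 0 1) h
      exact absurd this (by decide)
    · have := congrArg (fun g : SS => g.1 0 1) h
      exact absurd this (by decide)
  f7 := by
    rw [← map_pow, U_pow]
    have : ((7 : ℕ) : ZMod 7) * 1 = 0 := by decide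
    rw [this, U_zero, map_one]
  yf := by
    rw [← map_mul, ← map_inv, ← map_mul, ← map_pow, hU, U_pow]
    congr 1
  y1 := by
    intro h
    rcases pr_eq_one h with h | h
    · have := congrArg (fun g : SS => g.1 0 0) h
      exact absurd this (by decide)
    · have := congrArg (fun g : SS => g.1 0 0) h
      exact absurd this (by decide)
  y3 := by
    rw [← map_pow]
    have h1 : (hh four : SS) ^ 3 = 1 := by
      rw [pow_succ, pow_two]
      apply ext' <;> decide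
    rw [h1, map_one]
  tt := by
    rw [← map_mul]
    have h1 : (ww : SS) * ww = -1 := by
      apply ext' <;> decide
    rw [h1, pr_neg_one]
  ty := by
    rw [← map_mul, ← map_inv, ← map_inv, ← map_mul]
    congr 1
    apply ext' <;> decide
  ft := by
    rw [← map_mul, ← map_mul, ← map_mul]
    have h1 : (U 1 : SS) * ww * (U 1 * ww) * (U 1 * ww) = 1 := by
      apply ext' <;> decide
    rw [h1, map_one]

theorem gens : Subgroup.closure {pr (U 1), pr (hh four), pr ww} = ⊤ := by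
  have h1 : Subgroup.comap pr (Subgroup.closure {pr (U 1), pr (hh four), pr ww}) = ⊤ := by
    apply gen
    · exact Subgroup.subset_closure (by simp)
    · exact Subgroup.subset_closure (by simp)
  rw [eq_top_iff]
  rintro x -
  obtain ⟨g, rfl⟩ := pr_surjective x
  have : g ∈ Subgroup.comap pr (Subgroup.closure {pr (U 1), pr (hh four), pr ww}) := by
    rw [h1]; exact Subgroup.mem_top _
  exact this

/-- the centralizer of `f` -/
theorem cent_f (w : TT) (hw : w * pr (U 1) * w⁻¹ = pr (U 1)) : ∃ j : ℕ, w = pr (U 1) ^ j := by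
  obtain ⟨g, rfl⟩ := pr_surjective w
  rw [mul_inv_eq_iff_eq_mul, ← map_mul, ← map_mul] at hw
  have hdet := det_eq g
  have key : g.1 1 0 = 0 ∧ g.1 0 0 = g.1 1 1 := by
    rcases pr_eq hw with h | h
    · have e00 := congrArg (fun g : SS => g.1 0 0) h
      have e01 := congrArg (fun g : SS => g.1 0 1) h
      simp only [m00, m01, U00, U01, U10, U11] at e00 e01
      constructor
      · linear_combination -e00
      · linear_combination e01
    · exfalso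
      have e00 := congrArg (fun g : SS => g.1 0 0) h
      have e10 := congrArg (fun g : SS => g.1 1 0) h
      have e11 := congrArg (fun g : SS => g.1 1 1) h
      simp only [m00, m10, m11, n00, n10, n11, U00, U01, U10, U11] at e00 e10 e11
      have aux : ∀ c : ZMod 7, c * 1 + (0 : ZMod 7) = - (0 * (0 : ZMod 7) + 1 * c) → c = 0 := by decide
      have h10 : g.1 1 0 = 0 := by
        apply aux
        linear_combination e10
      have aux2 : ∀ a b c : ZMod 7, c = 0 → a * 1 + b * 0 = -(1 * a + 1 * c) → a = 0 := by decide +kernel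
      have h00 : g.1 0 0 = 0 := aux2 _ _ _ h10 e00
      rw [h10, h00, zero_mul, mul_zero, sub_zero] at hdet
      exact zero_ne_one hdet
  obtain ⟨h10, h2⟩ := key
  have h3 : ∀ a : ZMod 7, a * a = 1 → a = 1 ∨ a = -1 := by decide
  have h4 : g.1 1 1 = 1 ∨ g.1 1 1 = -1 := by
    apply h3
    rw [h10, h2] at hdet
    linear_combination hdet
  rcases h4 with h4 | h4
  · refine ⟨(g.1 0 1).val, ?_⟩
    rw [← map_pow, U_pow, mul_one, ZMod.natCast_val, ZMod.cast_id]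
    congr 1
    apply ext' <;> simp only [h2, h4, h10, U00, U01, U10, U11]
  · refine ⟨(-(g.1 0 1)).val, ?_⟩
    rw [← map_pow, U_pow, mul_one, ZMod.natCast_val, ZMod.cast_id]
    have h5 : g = -U (-(g.1 0 1)) := by
      apply ext' <;> simp only [h2, h4, h10, n00, n01, n10, n11, U00, U01, U10, U11, neg_neg, neg_zero]
    rw [← neg_one_mul] at h5
    have h6 := congrArg pr h5
    rw [map_mul, pr_neg_one, one_mul] at h6
    exact h6

/-- `t` is unique -/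
theorem uniq_t (w : TT) (h2 : w * pr (hh four) * w⁻¹ = (pr (hh four))⁻¹)
    (h3 : pr (U 1) * w * (pr (U 1) * w) * (pr (U 1) * w) = 1) : w = pr ww := by
  obtain ⟨g, rfl⟩ := pr_surjective w
  rw [mul_inv_eq_iff_eq_mul, ← map_mul, ← map_inv, ← map_mul] at h2
  rw [← map_mul, ← map_mul, ← map_mul] at h3
  have hdet := det_eq g
  have key : g.1 0 0 = 0 ∧ g.1 1 1 = 0 := by
    rcases pr_eq h2 with h | h
    · have e00 := congrArg (fun g : SS => g.1 0 0) h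
      have e11 := congrArg (fun g : SS => g.1 1 1) h
      simp only [m00, m11, i00, i01, i10, i11, hh00, hh01, hh10, hh11] at e00 e11
      have a1 : ∀ a b c : ZMod 7, a * (four : (ZMod 7)ˣ) + b * 0 =
        ((four⁻¹ : (ZMod 7)ˣ) : ZMod 7) * a + -0 * c → a = 0 := by decide +kernel
      have a2 : ∀ a b c : ZMod 7, b * 0 + a * ((four⁻¹ : (ZMod 7)ˣ) : ZMod 7) =
        -0 * c + ((four : (ZMod 7)ˣ) : ZMod 7) * a → a = 0 := by decide +kernel
      exact ⟨a1 _ _ _ e00, a2 _ _ _ e11⟩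
    · exfalso
      have e00 := congrArg (fun g : SS => g.1 0 0) h
      have e01 := congrArg (fun g : SS => g.1 0 1) h
      simp only [m00, m01, n00, n01, i00, i01, hh00, hh01, hh10, hh11] at e00 e01
      have a1 : ∀ a b c : ZMod 7, a * (four : (ZMod 7)ˣ) + b * 0 =
        -(((four⁻¹ : (ZMod 7)ˣ) : ZMod 7) * a + -0 * c) → a = 0 := by decide +kernel
      have a2 : ∀ a b c : ZMod 7, a * 0 + b * ((four⁻¹ : (ZMod 7)ˣ) : ZMod 7) =
        -(((four⁻¹ : (ZMod 7)ˣ) : ZMod 7) * b + -0 * c) → b = 0 := by decide +kernel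
      rw [a1 _ _ _ e00, a2 _ _ _ e01, zero_mul, zero_mul, sub_zero] at hdet
      exact zero_ne_one hdet
  obtain ⟨k0, k1⟩ := key
  rw [k0, k1, zero_mul, zero_sub] at hdet
  have e : (U 1 : SS) * g * (U 1 * g) * (U 1 * g) = 1 ∨ (U 1 : SS) * g * (U 1 * g) * (U 1 * g) = -1 := pr_eq_one h3
  have h5 : g.1 0 1 = 1 ∧ g.1 1 0 = -1 ∨ g.1 0 1 = -1 ∧ g.1 1 0 = 1 := by
    rcases e with e | e
    · have e01 := congrArg (fun g : SS => g.1 0 1) e
      simp only [m00, m01, m10, m11, U00, U01, U10, U11, o01, k0, k1] at e01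
      revert hdet e01
      generalize g.1 0 1 = b
      generalize g.1 1 0 = c
      revert b c
      decide +kernel
    · have e01 := congrArg (fun g : SS => g.1 0 1) e
      simp only [m00, m01, m10, m11, U00, U01, U10, U11, n01, o01, k0, k1] at e01
      revert hdet e01
      generalize g.1 0 1 = b
      generalize g.1 1 0 = c
      revert b c
      decide +kernel
  rcases h5 with ⟨h5, h6⟩ | ⟨h5, h6⟩
  · congr 1
    apply ext' <;> simp only [k0, k1, h5, h6, ww00, ww01, ww10, ww11]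
  · have h7 : g = -ww := by
      apply ext' <;> simp only [k0, k1, h5, h6, n00, n01, n10, n11, ww00, ww01, ww10, ww11, neg_neg, neg_zero]
    rw [← neg_one_mul] at h7
    rw [h7, map_mul, pr_neg_one, one_mul]

theorem card_TT : Nat.card TT = 168 := by
  have h := Cfsg.Agent.ClassicalGeometry.PSL2Basic.card_PSL2_odd (F := ZMod 7) (by rw [ZMod.card]; decide)
  rw [ZMod.card] at h
  have h2 : Nat.card TT * 2 = 168 * 2 := h.trans (by norm_num)
  exact Nat.eq_of_mul_eq_mul_right two_pos h2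

/-- transport from a field with 7 elements -/
theorem exists_equiv {F : Type*} [Field F] [Fintype F] (h : Fintype.card F = 7) :
    Nonempty (TT ≃* ProjectiveSpecialLinearGroup (Fin 2) F) :=
  ⟨LieClassical.FieldTransfer.pslCongr (ZMod.ringEquivOfPrime F (by norm_num) h)⟩

/-- **generators of a group isomorphic to `PSL₂(7)`** -/
theorem exists_gens {S : Type*} [Group S] {F : Type*} [Field F] [Fintype F] (h : Fintype.card F = 7)
    (e : S ≃* ProjectiveSpecialLinearGroup (Fin 2) F) : Nat.card S = 168 ∧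
    ∃ f y t : S, Tri f y t ∧ Subgroup.closure {f, y, t} = ⊤ ∧
      (∀ w : S, w * f * w⁻¹ = f → ∃ j : ℕ, w = f ^ j) ∧
      (∀ w : S, w * y * w⁻¹ = y⁻¹ → f * w * (f * w) * (f * w) = 1 → w = t) := by
  obtain ⟨e1⟩ := exists_equiv h
  let E : TT ≃* S := e1.trans e.symm
  refine ⟨(Nat.card_congr E.toEquiv).symm.trans card_TT, ?_⟩
  refine ⟨E (pr (U 1)), E (pr (hh four)), E (pr ww), tri.map E.toMonoidHom E.injective, ?_, ?_, ?_⟩
  · have h8 : Subgroup.closure {E (pr (U 1)), E (pr (hh four)), E (pr ww)} =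
        (Subgroup.closure {pr (U 1), pr (hh four), pr ww}).map E.toMonoidHom := by
      rw [MonoidHom.map_closure]
      congr 1
      ext x
      simp only [eq_comm, _root_.Set.mem_insert_iff, _root_.Set.mem_singleton_iff, _root_.MulEquiv.toMonoidHom_eq_coe, _root_.MonoidHom.coe_coe, _root_.Set.mem_image, _root_.exists_eq_or_imp, ↓ _root_.ExistsAndEq.existsAndEq, _root_.true_and]
    rw [h8, gens, Subgroup.map_top_of_surjective _ E.surjective]
  · intro w hw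
    obtain ⟨v, rfl⟩ := E.surjective w
    rw [← map_mul, ← map_inv, ← map_mul] at hw
    obtain ⟨j, hj⟩ := cent_f v (E.injective hw)
    exact ⟨j, by rw [hj, map_pow]⟩
  · intro w h2 h3
    obtain ⟨v, rfl⟩ := E.surjective w
    rw [← map_mul, ← map_inv, ← map_mul, ← map_inv] at h2
    rw [← map_mul, ← map_mul, ← map_mul] at h3
    have h4 : E (pr (U 1) * v * (pr (U 1) * v) * (pr (U 1) * v)) = E 1 := by rw [map_one]; exact h3
    rw [uniq_t v (E.injective h2) (E.injective h4)]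

end Cfsg.Agent.H111.JM.Psl7
end

-- part: H111/JM/NormS
section
/-!
# A subgroup `PSL₂(7)` without centralizer, whose elements of order 7 are not real in the group, is
self-normalizing (helper111, S5580)
-/

set_option autoImplicit false

namespace Cfsg.Agent.H111.JM.NormS

open Cfsg.Agent.H111.JM.Psl7

variable {G : Type*} [Group G]

theorem conj_pow' (g f : G) (n : ℕ) : g * f ^ n * g⁻¹ = (g * f * g⁻¹) ^ n := (conj_pow).symm

/-- two elements of order 7 of a group of order 168 generate conjugate subgroups -/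
theorem sylow7 {S : Subgroup G} [Finite S] (hc : Nat.card S = 168) {f f' : G} (hf : f ∈ S) (hf' : f' ∈ S)
    (h1 : f ≠ 1) (h7 : f ^ 7 = 1) (h1' : f' ≠ 1) (h7' : f' ^ 7 = 1) :
    ∃ s ∈ S, s * f' * s⁻¹ ∈ Subgroup.zpowers f := by
  have hp : Fact (Nat.Prime 7) := ⟨by norm_num⟩
  have ho : orderOf (⟨f, hf⟩ : S) = 7 := orderOf_eq_prime (Subtype.ext h7) (fun h => h1 (congrArg Subtype.val h))
  have ho' : orderOf (⟨f', hf'⟩ : S) = 7 :=
    orderOf_eq_prime (Subtype.ext h7') (fun h => h1' (congrArg Subtype.val h))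
  have hm : Nat.card (S : Type _) = 7 ^ 1 * 24 := by rw [hc]; norm_num
  have hcard : ∀ x : S, orderOf x = 7 → Nat.card (Subgroup.zpowers x) = 7 ^ (Nat.card S).factorization 7 := by
    intro x hx
    rw [Nat.card_zpowers, hx, hc]
    have : (168 : ℕ).factorization 7 = 1 := by
      rw [show (168 : ℕ) = 7 ^ 1 * 24 from by norm_num, Nat.factorization_mul (by norm_num) (by norm_num),
        Nat.Prime.factorization_pow (by norm_num)]
      simp [Nat.factorization_eq_zero_of_not_dvd]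
    rw [this, pow_one]
  let P : Sylow 7 S := Sylow.ofCard (Subgroup.zpowers ⟨f, hf⟩) (hcard _ ho)
  let P' : Sylow 7 S := Sylow.ofCard (Subgroup.zpowers ⟨f', hf'⟩) (hcard _ ho')
  obtain ⟨s, hs⟩ := MulAction.exists_smul_eq S P' P
  refine ⟨s, s.2, ?_⟩
  have h3 : (s : S) * ⟨f', hf'⟩ * s⁻¹ ∈ (P : Subgroup S) := by
    rw [← hs]
    exact Subgroup.mem_map.2 ⟨⟨f', hf'⟩, Subgroup.mem_zpowers _, rfl⟩
  obtain ⟨k, hk⟩ := Subgroup.mem_zpowers_iff.1 (show (s : S) * ⟨f', hf'⟩ * s⁻¹ ∈ Subgroup.zpowers ⟨f, hf⟩ from h3)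
  exact Subgroup.mem_zpowers_iff.2 ⟨k, by have := congrArg Subtype.val hk; simpa only [_root_.SubgroupClass.coe_zpow, _root_.Subgroup.coe_mul, _root_.InvMemClass.coe_inv] using this⟩

/-- **The normalizer.** -/
theorem norm_le [Finite G] {S : Subgroup G} {f y t : G} (hf : f ∈ S) (hy : y ∈ S) (ht : t ∈ S)
    (h : Tri f y t) (hc : Nat.card S = 168) (hcl : S = Subgroup.closure {f, y, t})
    (h1 : ∀ w ∈ S, w * f * w⁻¹ = f → ∃ j : ℕ, w = f ^ j)
    (h2 : ∀ w ∈ S, w * y * w⁻¹ = y⁻¹ → f * w * (f * w) * (f * w) = 1 → w = t)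
    (hN : ∀ g : G, g * f * g⁻¹ ∈ Subgroup.zpowers f → g ^ 3 * f * (g ^ 3)⁻¹ = f)
    (hC : Subgroup.centralizer (S : Set G) = ⊥) : Subgroup.normalizer (S : Set G) ≤ S := by
  classical
  have hfo : orderOf f = 7 := orderOf_eq_prime h.f7 h.f1
  -- an element of the normalizer which commutes with `f` and `y` is trivial
  have s3 : ∀ g ∈ Subgroup.normalizer (S : Set G), g * f * g⁻¹ = f → g * y * g⁻¹ = y → g = 1 := by
    intro g hg gf gy
    have e1 : g * t * g⁻¹ = t := by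
      refine h2 _ ((Subgroup.mem_normalizer_iff.1 hg t).1 ht) ?_ ?_
      · calc g * t * g⁻¹ * y * (g * t * g⁻¹)⁻¹ = g * t * (g⁻¹ * y * g) * t⁻¹ * g⁻¹ := by group
          _ = g * (t * y * t⁻¹) * g⁻¹ := by
            have : g⁻¹ * y * g = y := by nth_rw 1 [← gy]; group
            rw [this]; group
          _ = (g * y * g⁻¹)⁻¹ := by rw [h.ty]; group
          _ = y⁻¹ := by rw [gy]
      · nth_rw 1 [← gf]
        nth_rw 2 [← gf]
        nth_rw 3 [← gf]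
        calc _ = g * (f * t * (f * t) * (f * t)) * g⁻¹ := by group
          _ = 1 := by rw [h.ft]; group
    have e2 : g ∈ Subgroup.centralizer (S : Set G) := by
      rw [hcl, Subgroup.centralizer_closure, Subgroup.mem_centralizer_iff]
      intro x hx
      simp only [Set.mem_insert_iff, Set.mem_singleton_iff] at hx
      rcases hx with rfl | rfl | rfl
      · exact (mul_inv_eq_iff_eq_mul.1 gf).symm
      · exact (mul_inv_eq_iff_eq_mul.1 gy).symm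
      · exact (mul_inv_eq_iff_eq_mul.1 e1).symm
    rw [hC] at e2
    exact Subgroup.mem_bot.1 e2
  have f4 : y⁻¹ * f * y = f ^ 4 := by
    have e : y * f ^ 4 * y⁻¹ = f := by
      rw [conj_pow', h.yf, ← pow_mul, show 2 * 4 = 7 + 1 from rfl, pow_succ, h.f7, one_mul]
    nth_rw 1 [← e]
    group
  -- an element of the normalizer which commutes with `f`
  have s2 : ∀ g ∈ Subgroup.normalizer (S : Set G), g * f * g⁻¹ = f → g ∈ S := by
    intro g hg gf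
    have gf' : g⁻¹ * f * g = f := by nth_rw 1 [← gf]; group
    obtain ⟨m, hm⟩ := h1 (g * y * g⁻¹ * y⁻¹)
      (S.mul_mem ((Subgroup.mem_normalizer_iff.1 hg y).1 hy) (S.inv_mem hy)) (by
        calc g * y * g⁻¹ * y⁻¹ * f * (g * y * g⁻¹ * y⁻¹)⁻¹
            = g * y * (g⁻¹ * (y⁻¹ * f * y) * g) * y⁻¹ * g⁻¹ := by group
          _ = g * y * (g⁻¹ * f * g) ^ 4 * y⁻¹ * g⁻¹ := by
            rw [f4]
            have : g⁻¹ * f ^ 4 * g = (g⁻¹ * f * g) ^ 4 := by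
              have := conj_pow' g⁻¹ f 4
              rw [inv_inv] at this
              exact this
            rw [this]
          _ = g * (y * f ^ 4 * y⁻¹) * g⁻¹ := by rw [gf']; group
          _ = f := by rw [← f4]; rw [show g * (y * (y⁻¹ * f * y) * y⁻¹) * g⁻¹ = g * f * g⁻¹ from by group]; exact gf)
    have hm' : g * y * g⁻¹ = f ^ m * y := by rw [← hm]; group
    have e1 : f ^ m * g = 1 := by
      refine s3 _ (Subgroup.mul_mem _ (Subgroup.le_normalizer (S.pow_mem hf m)) hg) ?_ ?_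
      · calc f ^ m * g * f * (f ^ m * g)⁻¹ = f ^ m * (g * f * g⁻¹) * (f ^ m)⁻¹ := by group
          _ = f := by rw [gf, ← pow_succ, pow_succ']; group
      · calc f ^ m * g * y * (f ^ m * g)⁻¹ = f ^ m * (g * y * g⁻¹) * (f ^ m)⁻¹ := by group
          _ = f ^ m * f ^ m * (y * f ^ m * y⁻¹)⁻¹ * y := by rw [hm']; group
          _ = y := by rw [conj_pow', h.yf, ← pow_mul, two_mul, pow_add]; group
    have e2 : g = (f ^ m)⁻¹ := (inv_eq_of_mul_eq_one_right e1).symm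
    rw [e2]
    exact S.inv_mem (S.pow_mem hf m)
  intro g hg
  have h7' : (g * f * g⁻¹) ^ 7 = 1 := by rw [← conj_pow', h.f7]; group
  have h1' : g * f * g⁻¹ ≠ 1 := by
    intro e
    apply h.f1
    have : f = g⁻¹ * (g * f * g⁻¹) * g := by group
    rw [this, e]; group
  obtain ⟨s, hs, e1⟩ := sylow7 hc hf ((Subgroup.mem_normalizer_iff.1 hg f).1 hf) h.f1 h.f7 h1' h7'
  have e2 : s * g * f * (s * g)⁻¹ ∈ Subgroup.zpowers f := by
    have : s * g * f * (s * g)⁻¹ = s * (g * f * g⁻¹) * s⁻¹ := by group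
    rw [this]; exact e1
  have hsg : s * g ∈ Subgroup.normalizer (S : Set G) := Subgroup.mul_mem _ (Subgroup.le_normalizer hs) hg
  have e3 := hN _ e2
  obtain ⟨k, hk7, hk⟩ : ∃ k : ℕ, k < 7 ∧ f ^ k = s * g * f * (s * g)⁻¹ := by
    rw [mem_zpowers_iff_mem_range_orderOf, hfo] at e2
    obtain ⟨k, hk, e4⟩ := Finset.mem_image.1 e2
    exact ⟨k, Finset.mem_range.1 hk, e4⟩
  obtain ⟨u, hug⟩ : ∃ u, u = s * g := ⟨_, rfl⟩
  rw [← hug] at e2 hsg e3 hk
  have u1 : u * f * u⁻¹ = f ^ k := hk.symm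
  have u3 : f ^ (k * k * k) = f := by
    calc f ^ (k * k * k) = u * (u * (u * f * u⁻¹) * u⁻¹) * u⁻¹ := by
          rw [u1, conj_pow', u1, ← pow_mul, conj_pow', u1, ← pow_mul]
          rw [mul_assoc]
      _ = u ^ 3 * f * (u ^ 3)⁻¹ := by
          simp only [pow_succ, pow_zero, one_mul, mul_inv_rev, mul_assoc]
      _ = f := e3
  have u4 : k * k * k ≡ 1 [MOD 7] := by
    rw [← hfo]
    exact (pow_inj_mod.1 (u3.trans (pow_one f).symm))
  have hu : u ∈ S := by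
    have hyN : y ∈ Subgroup.normalizer (S : Set G) := Subgroup.le_normalizer hy
    have k3 : k = 1 ∨ k = 2 ∨ k = 4 := by
      unfold Nat.ModEq at u4
      interval_cases k <;> omega
    rcases k3 with rfl | rfl | rfl
    · exact s2 _ hsg (by rw [u1, pow_one])
    · have := s2 (y⁻¹ * u) (Subgroup.mul_mem _ (Subgroup.inv_mem _ hyN) hsg) (by
        calc y⁻¹ * u * f * (y⁻¹ * u)⁻¹ = y⁻¹ * (u * f * u⁻¹) * y := by group
          _ = f := by rw [u1, ← h.yf]; group)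
      have h5 : u = y * (y⁻¹ * u) := by group
      rw [h5]
      exact S.mul_mem hy this
    · have := s2 (y⁻¹ * (y⁻¹ * u)) (Subgroup.mul_mem _ (Subgroup.inv_mem _ hyN)
          (Subgroup.mul_mem _ (Subgroup.inv_mem _ hyN) hsg)) (by
        calc y⁻¹ * (y⁻¹ * u) * f * (y⁻¹ * (y⁻¹ * u))⁻¹ = y⁻¹ * (y⁻¹ * (u * f * u⁻¹) * y) * y := by
              simp only [mul_inv_rev, inv_inv, mul_assoc]
          _ = f := by
            have h6 : f ^ 4 = y * (y * f * y⁻¹) * y⁻¹ := by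
              rw [h.yf, conj_pow', h.yf, ← pow_mul]
            rw [u1, h6]
            simp only [mul_assoc, inv_mul_cancel_left, inv_mul_cancel, mul_one])
      have h5 : u = y * (y * (y⁻¹ * (y⁻¹ * u))) := by group
      rw [h5]
      exact S.mul_mem hy (S.mul_mem hy this)
  have h8 : g = s⁻¹ * u := by rw [hug]; group
  rw [h8]
  exact S.mul_mem (S.inv_mem hs) hu

end Cfsg.Agent.H111.JM.NormS
end

-- part: H111/JM/Trip
section
/-!
# Generating triples of `PSL₂(7)` in `J4` (helper111, S5580)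
-/

set_option autoImplicit false
set_option maxRecDepth 100000

open Cfsg

namespace Cfsg.Agent.H111.JM.Trip

open Cfsg.Agent.Lib Cfsg.Agent.Lib.F2Mat Cfsg.Agent.Lib.F2MatGroup
open Cfsg.Agent.J4.Rep112
open Cfsg.Agent.H858.VK
open Cfsg.Agent.H868.JM (f1 f2 q1 c6)
open Cfsg.Agent.H878.JM.Base
open Cfsg.Agent.H111.JM.Eng Cfsg.Agent.H111.JM.Env Cfsg.Agent.H111.JM.EnvF Cfsg.Agent.H111.JM.G0
open Cfsg.Agent.H111.JM.Sol Cfsg.Agent.H111.JM.Psl7

/-- the facts proved elsewhere: the number of involutions inverting `y0`, the classes of Frobenius groups of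
order 21, the normalizer of an element of order 7 -/
structure Hyp : Prop where
  card : Nat.card {t // TY t} ≤ 10296
  base : ∀ f y : Cfsg.Spor.J4, f ≠ 1 → f ^ 7 = 1 → y ≠ 1 → y ^ 3 = 1 → y * f * y⁻¹ = f ^ 2 →
    ∃ g, g * y * g⁻¹ = y0 ∧ (g * f * g⁻¹ = f1 ∨ g * f * g⁻¹ = f1⁻¹ ∨ g * f * g⁻¹ = f2 ∨ g * f * g⁻¹ = f2⁻¹)
  nor : ∀ f g : Cfsg.Spor.J4, f ≠ 1 → f ^ 7 = 1 → g * f * g⁻¹ ∈ Subgroup.zpowers f → g ^ 3 * f * (g ^ 3)⁻¹ = f

/-- the word of `cw m * f_i * (cw m)⁻¹` -/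
def fws : List (List ℕ) := (beta% delta% lq26f5db1ca5 fun _ c d =>
 (c (c 11<|c 13<|c 11<|c 12<|c 13<|c 11<|c 0<|c 11<|c 13<|c 12<|c 11<|c 13<|c 11<|d)<|
 c (c 13<|c 11<|c 12<|c 11<|c 13<|c 12<|c 13<|c 12<|c 11<|c 13<|c 0<|c 13<|c 11<|c 12<|c 13<|c 12<|c 13<|c 11<|c 12<|c 11<|c 13<|d)<|
 c (c 13<|c 11<|c 12<|c 11<|c 13<|c 12<|c 13<|c 12<|c 11<|c 13<|c 0<|c 13<|c 11<|c 12<|c 13<|c 12<|c 13<|c 11<|c 12<|c 11<|c 13<|d)<|
 c (c 11<|c 12<|c 13<|c 0<|c 13<|c 12<|c 11<|d)<|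
 c (c 11<|c 13<|c 11<|c 13<|c 12<|c 2<|c 12<|c 13<|c 11<|c 13<|c 11<|d)<|
 c (c 11<|c 13<|c 11<|c 13<|c 12<|c 11<|c 12<|c 13<|c 11<|c 13<|c 12<|c 11<|c 2<|c 11<|c 12<|c 13<|c 11<|c 13<|c 12<|c 11<|c 12<|c 13<|c 11<|c 13<|c 11<|d)<|
 c (c 13<|c 11<|c 12<|c 11<|c 13<|c 11<|c 12<|c 13<|c 12<|c 13<|c 11<|c 12<|c 11<|c 2<|c 11<|c 12<|c 11<|c 13<|c 12<|c 13<|c 12<|c 11<|c 13<|c 11<|c 12<|c 11<|c 13<|d)<|
 c (c 11<|c 13<|c 11<|c 13<|c 11<|c 12<|c 13<|c 11<|c 12<|c 2<|c 12<|c 11<|c 13<|c 12<|c 11<|c 13<|c 11<|c 13<|c 11<|d)<|d))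

/-- the element `cw m * f_i * (cw m)⁻¹` -/
noncomputable def Fm (m : ℕ) : Cfsg.Spor.J4 := evG L0 (fws.getD m [])

theorem fw_eq (w : List ℕ) (k : ℕ) (hw : ∀ i ∈ w, i = 6 ∨ 11 ≤ i) :
    evG L0 (w ++ ([k] ++ w.reverse)) = evG L0 w * getG L0 k * (evG L0 w)⁻¹ := by
  rw [evG_append', evG_append', evG_reverse hw, evG_cons, evG_nil, mul_one, mul_assoc]

attribute [local irreducible] c1 c2 c3 t1 t2 t3 y0 f1 f2 q1 c6

theorem Fm1 {m : ℕ} (hm : m < 4) : Fm m = cw m * f1 * (cw m)⁻¹ := by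
  interval_cases m
  · exact fw_eq pw0 0 (by decide)
  · exact fw_eq pw1 0 (by decide)
  · exact fw_eq pw2 0 (by decide)
  · exact fw_eq pw3 0 (by decide)

theorem Fm2 {m : ℕ} (hm : 4 ≤ m) (hm' : m < 8) : Fm m = cw m * f2 * (cw m)⁻¹ := by
  interval_cases m
  · exact fw_eq pw4 2 (by decide)
  · exact fw_eq pw5 2 (by decide)
  · exact fw_eq pw6 2 (by decide)
  · exact fw_eq pw7 2 (by decide)

theorem sol_inv {G : Type*} [Group G] {f t : G} (ht : t * t = 1) (h : f⁻¹ * t * (f⁻¹ * t) * (f⁻¹ * t) = 1) :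
    f * t * (f * t) * (f * t) = 1 := by
  have h1 : t⁻¹ = t := inv_eq_of_mul_eq_one_left ht
  calc f * t * (f * t) * (f * t) = t⁻¹ * (t * f * (t * f) * (t * f)) * t := by group
    _ = t⁻¹ * (t⁻¹ * f * (t⁻¹ * f) * (t⁻¹ * f)) * t := by rw [h1]
    _ = t⁻¹ * (f⁻¹ * t * (f⁻¹ * t) * (f⁻¹ * t))⁻¹ * t := by simp only [mul_inv_rev, inv_inv, mul_assoc]
    _ = 1 := by rw [h, inv_one, mul_one, inv_mul_cancel]

theorem conj_mul3 {G : Type*} [Group G] (g a b : G) (h : a * b * (a * b) * (a * b) = 1) :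
    g * a * g⁻¹ * (g * b * g⁻¹) * (g * a * g⁻¹ * (g * b * g⁻¹)) * (g * a * g⁻¹ * (g * b * g⁻¹)) = 1 := by
  calc _ = g * (a * b * (a * b) * (a * b)) * g⁻¹ := by group
    _ = 1 := by rw [h]; group

/-- **the triples** -/
theorem trip [Finite Cfsg.Spor.J4] (H : Hyp) {f y t : Cfsg.Spor.J4} (h : Tri f y t) :
    ∃ g, ∃ m < 8, g * y * g⁻¹ = y0 ∧ g * t * g⁻¹ = getG TJ (kr m) ∧
      (g * f * g⁻¹ = Fm m ∨ g * f * g⁻¹ = (Fm m)⁻¹) := by
  obtain ⟨g, hy, hf⟩ := H.base f y h.f1 h.f7 h.y1 h.y3 h.yf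
  have hT : TY (g * t * g⁻¹) := by
    constructor
    · calc g * t * g⁻¹ * (g * t * g⁻¹) = g * (t * t) * g⁻¹ := by group
        _ = 1 := by rw [h.tt]; group
    · calc g * t * g⁻¹ * y0 * (g * t * g⁻¹)⁻¹ = g * (t * (g⁻¹ * y0 * g) * t⁻¹) * g⁻¹ := by group
        _ = g * (t * y * t⁻¹) * g⁻¹ := by rw [← hy]; group
        _ = y0⁻¹ := by rw [h.ty, ← hy]; group
  have hS := conj_mul3 g f t h.ft
  have key : ∀ (m : ℕ) (c f' : Cfsg.Spor.J4), m < 8 → c * f' = f' * c → c * y0 = y0 * c →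
      c * (g * t * g⁻¹) * c⁻¹ = rm m → Fm m = cw m * f' * (cw m)⁻¹ → (g * f * g⁻¹ = f' ∨ g * f * g⁻¹ = f'⁻¹) →
      ∃ g, ∃ m < 8, g * y * g⁻¹ = y0 ∧ g * t * g⁻¹ = getG TJ (kr m) ∧
        (g * f * g⁻¹ = Fm m ∨ g * f * g⁻¹ = (Fm m)⁻¹) := by
    intro m c f' hm h1 h2 h3 h4 h5
    have h1' : c * f' * c⁻¹ = f' := by rw [h1, mul_inv_cancel_right]
    refine ⟨cw m * c * g, m, hm, ?_, ?_, ?_⟩
    · calc cw m * c * g * y * (cw m * c * g)⁻¹ = cw m * (c * (g * y * g⁻¹)) * c⁻¹ * (cw m)⁻¹ := by group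
        _ = y0 := by rw [hy, h2, ← mul_assoc, mul_inv_cancel_right, cw_comm, mul_inv_cancel_right]
    · calc cw m * c * g * t * (cw m * c * g)⁻¹ = cw m * (c * (g * t * g⁻¹) * c⁻¹) * (cw m)⁻¹ := by group
        _ = getG TJ (kr m) := by rw [h3, rm_eq hm]; group
    · rcases h5 with h5 | h5
      · left
        calc cw m * c * g * f * (cw m * c * g)⁻¹ = cw m * (c * (g * f * g⁻¹) * c⁻¹) * (cw m)⁻¹ := by group
          _ = Fm m := by rw [h5, h1', h4]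
      · right
        calc cw m * c * g * f * (cw m * c * g)⁻¹ = cw m * (c * (g * f * g⁻¹) * c⁻¹) * (cw m)⁻¹ := by group
          _ = cw m * (c * f' * c⁻¹)⁻¹ * (cw m)⁻¹ := by rw [h5]; group
          _ = (Fm m)⁻¹ := by rw [h1', h4]; group
  rcases hf with hf | hf | hf | hf
  · obtain ⟨m, hm, c, h1, h2, h3⟩ := sol1 H.card hT (by unfold EnvF.Sol; rw [← hf]; exact hS)
    exact key m c f1 (by omega) h1 h2 h3 (Fm1 hm) (Or.inl hf)
  · obtain ⟨m, hm, c, h1, h2, h3⟩ := sol1 H.card hT (by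
      unfold EnvF.Sol
      rw [hf] at hS
      exact sol_inv hT.1 hS)
    exact key m c f1 (by omega) h1 h2 h3 (Fm1 hm) (Or.inr hf)
  · obtain ⟨m, hm, hm', c, h1, h2, h3⟩ := sol2 H.card hT (by unfold EnvF.Sol; rw [← hf]; exact hS)
    exact key m c f2 hm' h1 h2 h3 (Fm2 hm hm') (Or.inl hf)
  · obtain ⟨m, hm, hm', c, h1, h2, h3⟩ := sol2 H.card hT (by
      unfold EnvF.Sol
      rw [hf] at hS
      exact sol_inv hT.1 hS)
    exact key m c f2 hm' h1 h2 h3 (Fm2 hm hm') (Or.inr hf)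

end Cfsg.Agent.H111.JM.Trip
end

-- part: H111/JM/L27
section
/-!
# No maximal subgroup of `J4` has socle `PSL₂(7)` (helper111, S5580)
-/

set_option autoImplicit false
set_option maxRecDepth 100000

open Cfsg

namespace Cfsg.Agent.H111.JM.L27

open Cfsg.Agent.Lib Cfsg.Agent.Lib.F2Mat Cfsg.Agent.Lib.F2MatGroup
open Cfsg.Agent.J4.Rep112
open Cfsg.Agent.H858.VK
open Cfsg.Agent.H878.JM.Base (c1 c2 c3 t1 t2 t3 y0)
open Cfsg.Agent.H860.JM Cfsg.Agent.H856.JM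
open Cfsg.Agent.H111.JM.Eng Cfsg.Agent.H111.JM.Env Cfsg.Agent.H111.JM.EnvF Cfsg.Agent.H111.JM.G0
open Cfsg.Agent.H111.JM.Sol Cfsg.Agent.H111.JM.Psl7 Cfsg.Agent.H111.JM.Trip

/-- the group `Spor.J4` -/
local notation "𝒢" => Cfsg.Spor.J4

attribute [local irreducible] c1 c2 c3 t1 t2 t3 y0

/-- row vector times word, packed -/
def vw (w : List ℕ) : ℕ → ℕ :=
  List.rec (motive := fun _ => ℕ → ℕ) (fun v => v)
    (fun i _ ih v => force (vmul 112 v (get (F2Mat.one 112) LM i)) ih) w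

theorem vw_nil (v : ℕ) : vw [] v = v := rfl
theorem vw_cons (i : ℕ) (w : List ℕ) (v : ℕ) :
    vw (i :: w) v = vw w (vmul 112 v (get (F2Mat.one 112) LM i)) :=
  force_eq (vmul 112 v (get (F2Mat.one 112) LM i)) (vw w)

theorem ra_vw (w : List ℕ) (v : ℕ) : ra (toVec 112 v) (evG L0 w) = toVec 112 (vw w v) := by
  induction w generalizing v with
  | nil => rw [evG_nil, ra_one, vw_nil]
  | cons i w ih =>
    have h := codes_get hL i
    rw [getG_map] at h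
    have e : ra (toVec 112 v) (getG L0 i) = toVec 112 (vmul 112 v (get (F2Mat.one 112) LM i)) := by
      unfold ra
      rw [codes_vmul h]
    rw [evG_cons, ra_mul, e, ih, vw_cons]

theorem fix_w {w : List ℕ} {v : ℕ} (h : Nat.beq (vw w v) v = true) :
    ra (toVec 112 v) (evG L0 w) = toVec 112 v := by
  rw [ra_vw, Nat.eq_of_beq_eq_true h]

theorem move_w {w : List ℕ} {v : ℕ} (hv : v < 2 ^ 112) (hw : vw w v < 2 ^ 112) (h : Nat.beq (vw w v) v = false) :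
    ra (toVec 112 v) (evG L0 w) ≠ toVec 112 v := by
  rw [ra_vw]
  intro h0
  have h1 := toVec_inj hw hv h0
  rw [h1, Nat.beq_refl] at h
  exact absurd h (by decide)

theorem vec_ne {v : ℕ} (hv : v < 2 ^ 112) (h : v ≠ 0) : toVec 112 v ≠ 0 := by
  intro h0
  apply h
  refine toVec_inj hv (by norm_num) (h0.trans ?_)
  funext j
  simp [toVec_apply, bz]

/-- the words of the elements of the centralizers -/
def ews : List (List ℕ) := (beta% delta% lq26f5db1ca5 fun _ c d =>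
 (c (c 11<|c 13<|c 11<|c 12<|c 13<|c 11<|c 4<|c 4<|c 4<|c 4<|c 6<|c 4<|c 11<|c 13<|c 12<|c 11<|c 13<|c 11<|d)<|
 c (c 13<|c 11<|c 12<|c 11<|c 13<|c 12<|c 13<|c 12<|c 11<|c 13<|c 6<|c 4<|c 4<|c 13<|c 11<|c 12<|c 13<|c 12<|c 13<|c 11<|c 12<|c 11<|c 13<|d)<|
 c (c 13<|c 11<|c 12<|c 11<|c 13<|c 12<|c 13<|c 12<|c 11<|c 13<|c 6<|c 4<|c 4<|c 13<|c 11<|c 12<|c 13<|c 12<|c 13<|c 11<|c 12<|c 11<|c 13<|d)<|
 c (c 11<|c 12<|c 13<|c 6<|c 13<|c 12<|c 11<|d)<|
 c d<|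
 c (c 11<|c 13<|c 11<|c 13<|c 12<|c 11<|c 12<|c 13<|c 11<|c 13<|c 12<|c 11<|c 7<|c 7<|c 7<|c 11<|c 12<|c 13<|c 11<|c 13<|c 12<|c 11<|c 12<|c 13<|c 11<|c 13<|c 11<|d)<|
 c (c 13<|c 11<|c 12<|c 11<|c 13<|c 11<|c 12<|c 13<|c 12<|c 13<|c 11<|c 12<|c 11<|c 7<|c 11<|c 12<|c 11<|c 13<|c 12<|c 13<|c 12<|c 11<|c 13<|c 11<|c 12<|c 11<|c 13<|d)<|
 c d<|d))

/-- six of the triples have a nontrivial centralizer -/
theorem cent_ne {m : ℕ} (hm : m < 8) (h4 : m ≠ 4) (h7 : m ≠ 7) : evG L0 (ews.getD m []) ≠ 1 ∧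
    evG L0 (ews.getD m []) * Fm m = Fm m * evG L0 (ews.getD m []) ∧
    evG L0 (ews.getD m []) * y0 = y0 * evG L0 (ews.getD m []) ∧
    evG L0 (ews.getD m []) * getG TJ (kr m) = getG TJ (kr m) * evG L0 (ews.getD m []) := by
  have key : ∀ (w f : List ℕ) (k : ℕ), Nat.beq (evW 112 LM w) (evW 112 LM []) = false →
      Nat.beq (evW 112 LM (w ++ f)) (evW 112 LM (f ++ w)) = true →
      Nat.beq (evW 112 LM (w ++ [9])) (evW 112 LM ([9] ++ w)) = true →
      Nat.beq (evW 112 LM (w ++ [k])) (evW 112 LM ([k] ++ w)) = true →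
      evG L0 w ≠ 1 ∧ evG L0 w * evG L0 f = evG L0 f * evG L0 w ∧ evG L0 w * getG L0 9 = getG L0 9 * evG L0 w ∧
        evG L0 w * getG L0 k = getG L0 k * evG L0 w := by
    intro w f k h1 h2 h3 h4
    have e1 : evG L0 w ≠ evG L0 [] := ne_w h1
    have e2 := eq_w h2
    have e3 := eq_w h3
    have e4 := eq_w h4
    rw [evG_append', evG_append'] at e2
    rw [evG_append', evG_append', evG_cons, evG_nil, mul_one] at e3 e4
    exact ⟨e1, e2, e3, e4⟩
  interval_cases m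
  · exact key (ews.getD 0 []) (fws.getD 0 []) 14 (by decide +kernel) (by decide +kernel) (by decide +kernel)
      (by decide +kernel)
  · exact key (ews.getD 1 []) (fws.getD 1 []) 14 (by decide +kernel) (by decide +kernel) (by decide +kernel)
      (by decide +kernel)
  · exact key (ews.getD 2 []) (fws.getD 2 []) 15 (by decide +kernel) (by decide +kernel) (by decide +kernel)
      (by decide +kernel)
  · exact key (ews.getD 3 []) (fws.getD 3 []) 16 (by decide +kernel) (by decide +kernel) (by decide +kernel)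
      (by decide +kernel)
  · exact absurd rfl h4
  · exact key (ews.getD 5 []) (fws.getD 5 []) 14 (by decide +kernel) (by decide +kernel) (by decide +kernel)
      (by decide +kernel)
  · exact key (ews.getD 6 []) (fws.getD 6 []) 15 (by decide +kernel) (by decide +kernel) (by decide +kernel)
      (by decide +kernel)
  · exact absurd rfl h7

/-- a vector fixed by the triple 4 -/
def u4 : ℕ := 0x9d5fab6a39fd3f991c7e37951997
/-- a vector fixed by the triple 4 -/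
def v4 : ℕ := 0x9b43d9a26b7e8bdcee20e8e20eb7
/-- an involution fixing `u4`, not `v4` -/
def x4 : List ℕ := [13, 14, 13]

theorem fixm4 : ∀ u ∈ [u4, v4], ra (toVec 112 u) (Fm 4) = toVec 112 u ∧ ra (toVec 112 u) y0 = toVec 112 u ∧
    ra (toVec 112 u) (getG TJ (kr 4)) = toVec 112 u := by
  have key : ∀ u, Nat.beq (vw (fws.getD 4 []) u) u = true → Nat.beq (vw [9] u) u = true →
      Nat.beq (vw [14] u) u = true → ra (toVec 112 u) (Fm 4) = toVec 112 u ∧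
      ra (toVec 112 u) y0 = toVec 112 u ∧ ra (toVec 112 u) (getG TJ (kr 4)) = toVec 112 u := by
    intro u h1 h2 h3
    have e1 := fix_w h1
    have e2 := fix_w h2
    have e3 := fix_w h3
    rw [evG_cons, evG_nil, mul_one] at e2 e3
    exact ⟨e1, e2, e3⟩
  intro u hu
  simp only [List.mem_cons, List.not_mem_nil, or_false] at hu
  rcases hu with hu | hu
  · rw [hu]; exact key _ (by decide +kernel) (by decide +kernel) (by decide +kernel)
  · rw [hu]; exact key _ (by decide +kernel) (by decide +kernel) (by decide +kernel)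

theorem fixx4 : ra (toVec 112 u4) (evG L0 x4) = toVec 112 u4 := fix_w (by decide +kernel)
theorem movex4 : ra (toVec 112 v4) (evG L0 x4) ≠ toVec 112 v4 :=
  move_w (by decide +kernel) (by decide +kernel) (by decide +kernel)
theorem ne4 : toVec 112 u4 ≠ 0 := vec_ne (by decide +kernel) (by decide +kernel)

/-- a vector fixed by the triple 7 -/
def u7 : ℕ := 0x81e8188e81e86171c0254817fc24
/-- a vector fixed by the triple 7 -/
def v7 : ℕ := 0x5173b4a552f0237ae22fb91a0d3a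
/-- an involution fixing `u7`, not `v7` -/
def x7 : List ℕ := [12, 13, 14, 13, 12]

theorem fixm7 : ∀ u ∈ [u7, v7], ra (toVec 112 u) (Fm 7) = toVec 112 u ∧ ra (toVec 112 u) y0 = toVec 112 u ∧
    ra (toVec 112 u) (getG TJ (kr 7)) = toVec 112 u := by
  have key : ∀ u, Nat.beq (vw (fws.getD 7 []) u) u = true → Nat.beq (vw [9] u) u = true →
      Nat.beq (vw [16] u) u = true → ra (toVec 112 u) (Fm 7) = toVec 112 u ∧
      ra (toVec 112 u) y0 = toVec 112 u ∧ ra (toVec 112 u) (getG TJ (kr 7)) = toVec 112 u := by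
    intro u h1 h2 h3
    have e1 := fix_w h1
    have e2 := fix_w h2
    have e3 := fix_w h3
    rw [evG_cons, evG_nil, mul_one] at e2 e3
    exact ⟨e1, e2, e3⟩
  intro u hu
  simp only [List.mem_cons, List.not_mem_nil, or_false] at hu
  rcases hu with hu | hu
  · rw [hu]; exact key _ (by decide +kernel) (by decide +kernel) (by decide +kernel)
  · rw [hu]; exact key _ (by decide +kernel) (by decide +kernel) (by decide +kernel)

theorem fixx7 : ra (toVec 112 u7) (evG L0 x7) = toVec 112 u7 := fix_w (by decide +kernel)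
theorem movex7 : ra (toVec 112 v7) (evG L0 x7) ≠ toVec 112 v7 :=
  move_w (by decide +kernel) (by decide +kernel) (by decide +kernel)
theorem ne7 : toVec 112 u7 ≠ 0 := vec_ne (by decide +kernel) (by decide +kernel)

/-- the contradiction for the triples without centralizer -/
theorem stab_false {M S : Subgroup 𝒢} (hM : IsCoatom M) (hMS : M ≤ S) {f t : 𝒢} {u v : Row} {x : 𝒢}
    (hS : S = Subgroup.closure {f, y0, t}) (hu : u ≠ 0) (h1 : ra u f = u) (h2 : ra u y0 = u) (h3 : ra u t = u)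
    (h1' : ra v f = v) (h2' : ra v y0 = v) (h3' : ra v t = v) (hx : ra u x = u) (hx' : ra v x ≠ v) : False := by
  have key : ∀ w : Row, ra w f = w → ra w y0 = w → ra w t = w → M ≤ St w := by
    intro w h1 h2 h3
    refine hMS.trans ?_
    rw [hS, Subgroup.closure_le]
    intro g hg
    simp only [Set.mem_insert_iff, Set.mem_singleton_iff] at hg
    rcases hg with hg | hg | hg
    · rw [hg]; exact h1
    · rw [hg]; exact h2
    · rw [hg]; exact h3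
  refine false_of_mem hM hu (key u h1 h2 h3) hx fun h => hx' ?_
  exact key v h1' h2' h3' h

theorem closure_congr {G : Type*} [Group G] {f F y t : G} (h : f = F ∨ f = F⁻¹) :
    Subgroup.closure {f, y, t} = Subgroup.closure {F, y, t} := by
  have key : ∀ a b : G, (a = b ∨ a = b⁻¹) → Subgroup.closure {a, y, t} ≤ Subgroup.closure {b, y, t} := by
    intro a b hab
    rw [Subgroup.closure_le]
    intro g hg
    simp only [Set.mem_insert_iff, Set.mem_singleton_iff] at hg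
    have hb : b ∈ Subgroup.closure {b, y, t} := Subgroup.subset_closure (by simp)
    rcases hg with hg | hg | hg
    · rw [hg]
      rcases hab with hab | hab
      · rw [hab]; exact hb
      · rw [hab]; exact Subgroup.inv_mem _ hb
    · rw [hg]; exact Subgroup.subset_closure (by simp)
    · rw [hg]; exact Subgroup.subset_closure (by simp)
  refine le_antisymm (key _ _ h) (key _ _ ?_)
  rcases h with h | h
  · exact Or.inl h.symm
  · right; rw [h, inv_inv]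

theorem cj_closure {G : Type*} [Group G] (g f y t : G) :
    cj g (Subgroup.closure {f, y, t}) = Subgroup.closure {g * f * g⁻¹, g * y * g⁻¹, g * t * g⁻¹} := by
  unfold cj
  rw [MonoidHom.map_closure]
  congr 1
  ext x
  simp only [Set.mem_image, Set.mem_insert_iff, Set.mem_singleton_iff]
  constructor
  · rintro ⟨a, rfl | rfl | rfl, rfl⟩
    · exact Or.inl rfl
    · exact Or.inr (Or.inl rfl)
    · exact Or.inr (Or.inr rfl)
  · rintro (rfl | rfl | rfl)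
    · exact ⟨f, Or.inl rfl, rfl⟩
    · exact ⟨y, Or.inr (Or.inl rfl), rfl⟩
    · exact ⟨t, Or.inr (Or.inr rfl), rfl⟩

/-- the generators of a subgroup isomorphic to `PSL₂(7)` -/
theorem gens_sub {G : Type*} [Group G] {S : Subgroup G} {F : Type} [Field F] [Fintype F]
    (hF : Fintype.card F = 7) (e : Nonempty (S ≃* Matrix.ProjectiveSpecialLinearGroup (Fin 2) F)) :
    Nat.card S = 168 ∧ ∃ f y t : G, f ∈ S ∧ y ∈ S ∧ t ∈ S ∧ Tri f y t ∧ S = Subgroup.closure {f, y, t} ∧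
      (∀ w ∈ S, w * f * w⁻¹ = f → ∃ j : ℕ, w = f ^ j) ∧
      (∀ w ∈ S, w * y * w⁻¹ = y⁻¹ → f * w * (f * w) * (f * w) = 1 → w = t) := by
  obtain ⟨e⟩ := e
  obtain ⟨h0, f, y, t, h1, h2, h3, h4⟩ := exists_gens hF e
  refine ⟨h0, f, y, t, f.2, y.2, t.2, h1.map S.subtype S.subtype_injective, ?_, ?_, ?_⟩
  · have h5 := congrArg (Subgroup.map S.subtype) h2
    rw [MonoidHom.map_closure, ← MonoidHom.range_eq_map, Subgroup.range_subtype] at h5
    refine h5.symm.trans (congrArg Subgroup.closure ?_)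
    ext x
    simp only [eq_comm, _root_.Subgroup.subtype_apply, _root_.Subgroup.coe_subtype, _root_.Set.mem_image, _root_.Set.mem_insert_iff, _root_.Set.mem_singleton_iff, _root_.exists_eq_or_imp', ↓ _root_.ExistsAndEq.existsAndEq, _root_.true_and]
  · intro w hw h5
    obtain ⟨j, hj⟩ := h3 ⟨w, hw⟩ (Subtype.ext h5)
    exact ⟨j, congrArg Subtype.val hj⟩
  · intro w hw h5 h6
    exact congrArg Subtype.val (h4 ⟨w, hw⟩ (Subtype.ext h5) (Subtype.ext h6))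

/-- **no maximal subgroup has socle `PSL₂(7)`** -/
theorem excl_L27' (H : Hyp) {F : Type} [Field F] [Fintype F] (hF : Fintype.card F = 7) :
    Excl (Matrix.ProjectiveSpecialLinearGroup (Fin 2) F) := by
  intro M S h e
  obtain ⟨hc, f, y, t, hf, hy, ht, hT, hS, hu1, hu2⟩ := gens_sub hF e
  have hN := NormS.norm_le hf hy ht hT hc hS hu1 hu2 (fun g hg => H.nor f g hT.f1 hT.f7 hg) h.cent
  obtain ⟨g, m, hm, h1, h2, h3⟩ := trip H hT
  have hnl := nl_cj h g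
  have hM' : cj g M ≤ cj g S := Subgroup.map_mono (h.norm.trans hN)
  have hS' : cj g S = Subgroup.closure {Fm m, y0, getG TJ (kr m)} := by
    rw [← closure_congr h3, hS, cj_closure, h1, h2]
  by_cases h4 : m = 4
  · subst h4
    obtain ⟨a1, a2, a3⟩ := fixm4 u4 (by simp)
    obtain ⟨b1, b2, b3⟩ := fixm4 v4 (by simp)
    exact stab_false hnl.coatom hM' hS' ne4 a1 a2 a3 b1 b2 b3 fixx4 movex4
  by_cases h7 : m = 7
  · subst h7
    obtain ⟨a1, a2, a3⟩ := fixm7 u7 (by simp)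
    obtain ⟨b1, b2, b3⟩ := fixm7 v7 (by simp)
    exact stab_false hnl.coatom hM' hS' ne7 a1 a2 a3 b1 b2 b3 fixx7 movex7
  obtain ⟨a0, a1, a2, a3⟩ := cent_ne hm h4 h7
  apply a0
  have h5 : evG L0 (ews.getD m []) ∈ Subgroup.centralizer ((cj g S : Subgroup 𝒢) : Set 𝒢) := by
    rw [hS', Subgroup.centralizer_closure, Subgroup.mem_centralizer_iff]
    intro x hx
    simp only [Set.mem_insert_iff, Set.mem_singleton_iff] at hx
    rcases hx with hx | hx | hx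
    · rw [hx]; exact a1.symm
    · rw [hx]; exact a2.symm
    · rw [hx]; exact a3.symm
  rw [hnl.cent] at h5
  exact Subgroup.mem_bot.1 h5

end Cfsg.Agent.H111.JM.L27
end

-- part: H111/JM/EngR
section
/-!
# Enumeration of a matrix group by right multiplications (helper111, S5580)

The same as `Eng.dfs`, with the step `M ↦ M * c_k`.
-/

set_option autoImplicit false

namespace Cfsg.Agent.H111.JM.EngR

open Cfsg.Agent.Lib Cfsg.Agent.Lib.F2Mat Cfsg.Agent.Lib.F2MatGroup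
open Cfsg.Agent.H111.JM.Eng

/-- `M * c_k` -/
def rm (n : ℕ) (C : List ℕ) (k M : ℕ) : ℕ := F2Mat.mul n M (get (F2Mat.one n) C k)

/-- the search with data -/
def dfsD (n : ℕ) (C : List ℕ) (test : ℕ → ℕ → Bool) (prog : List ℕ) : List ℕ → List ℕ → Bool :=
  List.rec (motive := fun _ => List ℕ → List ℕ → Bool)
    (fun keys _ => List.rec true (fun _ _ _ => false) keys)
    (fun i _ ih keys stack => Nat.rec (motive := fun _ => Bool) (ih keys (tl stack))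
      (fun k _ => force (rm n C k (hd (F2Mat.one n) stack)) fun M =>
        List.rec false (fun a keys' _ => cond (test a M) (ih keys' (M :: stack)) false) keys) i) prog

theorem dfsD_zero (n : ℕ) (C : List ℕ) (test : ℕ → ℕ → Bool) (w keys st : List ℕ) :
    dfsD n C test (0 :: w) keys st = dfsD n C test w keys (tl st) := rfl

theorem dfsD_succ_nil (n : ℕ) (C : List ℕ) (test : ℕ → ℕ → Bool) (k : ℕ) (w st : List ℕ) :
    dfsD n C test ((k + 1) :: w) [] st = false :=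
  force_eq (rm n C k (hd (F2Mat.one n) st)) fun _ => false

theorem dfsD_succ_cons (n : ℕ) (C : List ℕ) (test : ℕ → ℕ → Bool) (k : ℕ) (w : List ℕ) (a : ℕ)
    (keys st : List ℕ) :
    dfsD n C test ((k + 1) :: w) (a :: keys) st =
      cond (test a (rm n C k (hd (F2Mat.one n) st)))
        (dfsD n C test w keys (rm n C k (hd (F2Mat.one n) st) :: st)) false :=
  force_eq (rm n C k (hd (F2Mat.one n) st)) fun M =>
        cond (test a M) (dfsD n C test w keys (M :: st)) false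

/-- the visited elements -/
def vis {G : Type*} [Group G] (C : List G) : List ℕ → List G → List G
  | [], _ => []
  | 0 :: w, st => vis C w st.tail
  | (k + 1) :: w, st => (getG st 0 * getG C k) :: vis C w ((getG st 0 * getG C k) :: st)

theorem vis_nil {G : Type*} [Group G] (C : List G) (st : List G) : vis C [] st = [] := rfl
theorem vis_zero {G : Type*} [Group G] (C : List G) (w : List ℕ) (st : List G) :
    vis C (0 :: w) st = vis C w st.tail := rfl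
theorem vis_succ {G : Type*} [Group G] (C : List G) (k : ℕ) (w : List ℕ) (st : List G) :
    vis C ((k + 1) :: w) st = (getG st 0 * getG C k) :: vis C w ((getG st 0 * getG C k) :: st) := rfl

variable {n : ℕ}

theorem codes_rm {C : List (GL (Fin n) (ZMod 2))} {LC : List ℕ} (hC : List.Forall₂ (Codes n) C LC) (k : ℕ)
    {g : GL (Fin n) (ZMod 2)} {M : ℕ} (hg : Codes n g M) : Codes n (g * getG C k) (rm n LC k M) :=
  hg.mul (codes_get hC k)

theorem dfsD_sound {C : List (GL (Fin n) (ZMod 2))} {LC : List ℕ} (hC : List.Forall₂ (Codes n) C LC)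
    {test : ℕ → ℕ → Bool} {w keys : List ℕ} {st : List (GL (Fin n) (ZMod 2))} {LS : List ℕ}
    (hS : List.Forall₂ (Codes n) st LS) (h : dfsD n LC test w keys LS = true) :
    List.Forall₂ (fun g a => ∃ M, Codes n g M ∧ test a M = true) (vis C w st) keys := by
  induction w generalizing st LS keys with
  | nil =>
    rcases keys with _ | ⟨a, keys⟩
    · exact .nil
    · exact absurd h Bool.false_ne_true
  | cons i w ih =>
    rcases i with _ | k
    · rw [dfsD_zero] at h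
      rw [vis_zero]
      exact ih (forall_tl hS) h
    · rcases keys with _ | ⟨a, keys⟩
      · rw [dfsD_succ_nil] at h
        exact absurd h Bool.false_ne_true
      · rw [dfsD_succ_cons] at h
        rw [vis_succ]
        have h1 := codes_rm hC k (codes_hd hS)
        rcases ht : test a (rm n LC k (hd (F2Mat.one n) LS)) with _ | _
        · rw [ht] at h; exact absurd h Bool.false_ne_true
        · rw [ht] at h
          exact .cons ⟨_, h1, ht⟩ (ih (.cons h1 hS) h)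

/-- the stack after a path -/
def pstk {G : Type*} [Group G] (C : List G) : List ℕ → List G → List G
  | [], st => st
  | k :: w, st => pstk C w ((getG st 0 * getG C k) :: st)

theorem pstk_cons {G : Type*} [Group G] (C : List G) (k : ℕ) (w : List ℕ) (st : List G) :
    pstk C (k :: w) st = pstk C w ((getG st 0 * getG C k) :: st) := rfl

/-- the stack after a path, packed -/
def pth (n : ℕ) (C : List ℕ) (cont : List ℕ → Bool) (path : List ℕ) : List ℕ → Bool :=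
  List.rec (motive := fun _ => List ℕ → Bool) cont
    (fun k _ ih stack => force (rm n C k (hd (F2Mat.one n) stack)) fun M => ih (M :: stack)) path

theorem pth_cons (n : ℕ) (C : List ℕ) (cont : List ℕ → Bool) (k : ℕ) (w st : List ℕ) :
    pth n C cont (k :: w) st = pth n C cont w (rm n C k (hd (F2Mat.one n) st) :: st) :=
  force_eq (rm n C k (hd (F2Mat.one n) st)) fun M => pth n C cont w (M :: st)

theorem pth_sound {C : List (GL (Fin n) (ZMod 2))} {LC : List ℕ} (hC : List.Forall₂ (Codes n) C LC)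
    {cont : List ℕ → Bool} {w : List ℕ} {st : List (GL (Fin n) (ZMod 2))} {LS : List ℕ}
    (hS : List.Forall₂ (Codes n) st LS) (h : pth n LC cont w LS = true) :
    ∃ LS', List.Forall₂ (Codes n) (pstk C w st) LS' ∧ cont LS' = true := by
  induction w generalizing st LS with
  | nil => exact ⟨LS, hS, h⟩
  | cons k w ih =>
    rw [pth_cons] at h
    rw [pstk_cons]
    exact ih (.cons (codes_rm hC k (codes_hd hS)) hS) h

theorem getG_st_mem {G : Type*} [Group G] {K : Subgroup G} {st : List G} (h : ∀ g ∈ st, g ∈ K) :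
    getG st 0 ∈ K := by
  rcases st with _ | ⟨a, st⟩
  · exact K.one_mem
  · exact h a List.mem_cons_self

theorem vis_mem {G : Type*} [Group G] {C : List G} {K : Subgroup G} (hC : ∀ c ∈ C, c ∈ K) {w : List ℕ}
    {st : List G} (hst : ∀ g ∈ st, g ∈ K) : ∀ g ∈ vis C w st, g ∈ K := by
  induction w generalizing st with
  | nil => intro g hg; rw [vis_nil] at hg; exact absurd hg List.not_mem_nil
  | cons i w ih =>
    rcases i with _ | k
    · rw [vis_zero]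
      exact ih fun g hg => hst g (List.mem_of_mem_tail hg)
    · rw [vis_succ]
      have h2 := K.mul_mem (getG_st_mem hst) (getG_mem K hC k)
      intro g hg
      rcases List.mem_cons.1 hg with rfl | hg
      · exact h2
      · refine ih (fun g hg => ?_) g hg
        rcases List.mem_cons.1 hg with rfl | hg
        · exact h2
        · exact hst g hg

theorem pstk_mem {G : Type*} [Group G] {C : List G} {K : Subgroup G} (hC : ∀ c ∈ C, c ∈ K) {w : List ℕ}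
    {st : List G} (hst : ∀ g ∈ st, g ∈ K) : ∀ g ∈ pstk C w st, g ∈ K := by
  induction w generalizing st with
  | nil => exact hst
  | cons k w ih =>
    rw [pstk_cons]
    refine ih fun g hg => ?_
    rcases List.mem_cons.1 hg with rfl | hg
    · exact K.mul_mem (getG_st_mem hst) (getG_mem K hC k)
    · exact hst g hg

theorem vis_map {G H : Type*} [Group G] [Group H] (f : G →* H) (C : List G) (w : List ℕ) (st : List G) :
    vis (C.map f) w (st.map f) = (vis C w st).map f := by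
  induction w generalizing st with
  | nil => rfl
  | cons i w ih =>
    rcases i with _ | k
    · rw [vis_zero, vis_zero, ← List.map_tail, ih]
    · rw [vis_succ, vis_succ, getG_map, getG_map, List.map_cons, map_mul, ← ih, List.map_cons, map_mul]

theorem pstk_map {G H : Type*} [Group G] [Group H] (f : G →* H) (C : List G) (w : List ℕ) (st : List G) :
    pstk (C.map f) w (st.map f) = (pstk C w st).map f := by
  induction w generalizing st with
  | nil => rfl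
  | cons k w ih =>
    rw [pstk_cons, pstk_cons, getG_map, getG_map, ← ih, List.map_cons, map_mul]

/-- the elements of a piece (path, program) -/
def pvis {G : Type*} [Group G] (C : List G) (path prog : List ℕ) : List G := vis C prog (pstk C path [1])

/-- the test of a piece -/
def pchk (n : ℕ) (C : List ℕ) (test : ℕ → ℕ → Bool) (path prog keys : List ℕ) : Bool :=
  pth n C (fun st => dfsD n C test prog keys st) path [F2Mat.one n]

theorem pchk_sound {C : List (GL (Fin n) (ZMod 2))} {LC : List ℕ} (hC : List.Forall₂ (Codes n) C LC)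
    {test : ℕ → ℕ → Bool} {path prog keys : List ℕ} (h : pchk n LC test path prog keys = true) :
    List.Forall₂ (fun g a => ∃ M, Codes n g M ∧ test a M = true) (pvis C path prog) keys := by
  obtain ⟨LS, h1, h2⟩ := pth_sound hC (.cons (Codes.one n) .nil) h
  exact dfsD_sound hC h1 h2

theorem pvis_mem {G : Type*} [Group G] {C : List G} {K : Subgroup G} (hC : ∀ c ∈ C, c ∈ K) (path prog : List ℕ) :
    ∀ g ∈ pvis C path prog, g ∈ K := by
  refine vis_mem hC (pstk_mem hC fun g hg => ?_)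
  rw [List.mem_singleton] at hg
  rw [hg]; exact K.one_mem

theorem pvis_map {G H : Type*} [Group G] [Group H] (f : G →* H) (C : List G) (path prog : List ℕ) :
    pvis (C.map f) path prog = (pvis C path prog).map f := by
  unfold pvis
  rw [← vis_map, ← pstk_map, List.map_cons, List.map_nil, map_one]

end Cfsg.Agent.H111.JM.EngR
end

-- part: H111/JM/ZD
section
/-!
# Centralizers of `⟨y0, t1⟩` and `⟨y0, t3⟩`: data (generated, helper111, S5580)
-/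

set_option autoImplicit false
set_option maxRecDepth 100000

open Cfsg

namespace Cfsg.Agent.H111.JM.ZD

open Cfsg.Agent.Lib Cfsg.Agent.Lib.F2Mat Cfsg.Agent.Lib.F2MatGroup
open Cfsg.Agent.J4.Rep112
open Cfsg.Agent.H858.VK
open Cfsg.Agent.H868.JM (f1 f2 q1 c6)
open Cfsg.Agent.H878.JM.Base
open Cfsg.Agent.H111.JM.Eng Cfsg.Agent.H111.JM.Env Cfsg.Agent.H111.JM.G0 Cfsg.Agent.H111.JM.Trip

/-- word of a generator -/
def gw0 : List ℕ := [12]
/-- packed generator -/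
def mg0 : ℕ := 0x9b9ed9e4b0fd41bf810a84be8166b303c50c3fb37f8880c8a888adb1c50001287c1d22bb7d1ebe88961279dde6866e80fb49a2f02badfe34874e65d03f63d60c67fdb51570059b8bd2f0bb2c866eb393661aa77f542ccfdcb8757d0969524b25040a98146d07c78ba2408c2f134bb1cff70053308943fe438b7a45384a972bbdf34fe9f6ebec642ecef0630de152122dbc89674ea869589b7fc89c1e64b24ea7f756e6b35480afdcc612bc5ae3f932f5a2e46d125ad490019cb274ad7f5e0f7ad503974c87ffc658477c43f157904d704c7d8f7dfc56066cedf26dc95cca5ba439c7b77e234714f5058556586a883d3abb65b3368f7cbb1a63741ce1356db96b845fec146a1f543cd7f76da68a8f59f8472c7969ee0a27300d5ffcb121171f59199e1581cc1fd32d2683e357ff1408c1a70eab947b7a3fc9819f9d7187acc48616208e4f0775a45c030e5dda3574268346029f5827f60f1ee95877193ed6987916f3e5d8b7b39a2270d655974c1cd5b41f5ce05b651829d789a9ef949a58001ce2e7382f9c8a59da714fa97b95e5a1bb431e708ebf97b41c3131a431651798b781b7749786e405aff095720c353f419670372f53b5e0d01d676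6b282eb0af8231248004e1036fb7f0b750cb2ae8badd2fe06d2d2637ffbe45b781fa7fa71848d8916f08d1e2e42f83c9fd0b152ee664738c25fb2d88b5c4e4faf025a292f139fb41c2c122741eefabb12993c13494a4265f8b7204e4041f7b79a2a90ed27105c47ceb67cd09419f47931afb8d40726f383220051a8e8427123904d26efe416022bca9d53fa5f98a991dcd411b7522fc514886b25b865aa74c2aa80b6fff0d0fbc60e49c13af41c45eae48f8b26d6297729d49de3174ec06430525fa334fb6ac0a4c0daddd426929304bc3356ae4b8775d3906c20aeeed684d66ddcf40cfe5134762e6f5dcabb09b159ff9d35c5f66c7fd50616836076616b8344e26f0ce72ef60c7fbe131c594873f522514f572f57d181d4708d3d380d3b6157aaebecbfbc280724550fc88ccc1ea10b1461ec5e8f71c4c79b511fb51439019da677277828f8890c14c0461a661fef52b7bee3d911b1587a58d07af5ff3a5acb1263456cb3204c858c89d7ff627c5a55d465e85ca6b7e4ad992a1527d8ddd5d9ee5fd1606a8e6bdae922d7bd908e2d63beff63bd7b8f6b46a515e1f2ff60b772b774dda248abf6153d9b1dacefd6367e965cd6f8f70c79f529a1cccc97d1d9c79061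e5c397e9f4252284a22f7fddf4e5379a6c08f168eba0cb9743fcb0bce3c6aac0f22fab798966d1b7a75a78846bcdc36febedeb21aec83c303c09c72234e97c0b8f59a3f93fad84acb16470103802073a1bdbde556a71c4e2a2374a75c8fba5c114d5f93a05266e8a863862748fc37c0ef0b8dc3336ebb499d2fffcc6c883462039dee9527668e539febe1dc08ea21a13ebe45a6614bf19dba351024fac7c9c5f5a55fa517b04766f63d007cad07594f252a7785951e974150155168cb6e07086d2444ad544024571e91ab0e6ef1ad517e728128eff41aa84773f11a598256c48d444877499553f6ac0a4076c96a16e3b6390ee777d415f519bcee20a9887ab270f745688a9ee5d551b20f29e3cd002463bd508b670264a1ac46a771b287100f31b83f1a57957f1b1ef0c8f9249548fc8bf228b52b24efc49d278af058d43c51e0a69c278b472f86d43153efd2525f27a2260189c78f02763fada827b51b46e5aa8e17f0457dc9111c4695557b9d67963aa44f9b20648df9f3244c4317e68009928eb28eeb609d66df236928655eee2591da59aa91bd76dcdddeb7bd1b71d1d4b4b9e3dd0e33de6acbb7777447742f23fbf10462179b2bb11bb11bb12f89a39764cacfb444848847b2e2f9de444851446938177117711dd436bbaff77efede2c0882288dd44110885c489af5c8fde0066cc55aac99aa580cc9f5d943a888844bbeeec9ee08623a1579ca988ee44ddee88988100ef3884993284218421481528460521060c28b133cc33ccfffffffff2cc59f95f444411882288250442291086048809b7ed7bdeb7e9f7bad7ed59f557ef88228822441108862423260a10a8f5fa5faf5fafcfbeabf5eafafbbfaa55aa55000005555000014016c8ddeeddeeddef6efbbfddfbfb4b7f28142814824211444428050192000000aa55aa50000154aa801582c0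

/-- word of a generator -/
def gw1 : List ℕ := [11, 12, 13, 12, 13, 12, 11]
/-- packed generator -/
def mg1 : ℕ := 0x1daae58827dd6e4c7ff4a66232a2bc2cc6066f79e63a779319937b3a298a8b64af72d74d857febdacb2b6217d34eab8d78a07edd416c0373f0b5c9886cd45e8edaa653ebb3eb1f0dd9c260eabdd520b722f919bb5607d4c2e2e3a60b34abf56f0ad0a44b01292f8b3d694e6fa007aef4e93a054c456147dcb6b12770b29b2b53944cdd8fbbe8cc8f953f875f196b71ebd17f0a49741e56e1277ea3e72ca98e837f3b8f4e41f1ce01af77bf59f653f67f93dce1ef273f480351b19416411aff1c120904102400da4c4fc88528dbe8ce124189567755e03e8f08cada68d87b9483748d0ac8ff1022dd0aacd68e7809cb20e6759f168e504479f75a6c6b46155db064a7743f4246041d2c44bdc8f8ec59ebfac1683a8a25e5e76071793d028d666fa5d148903070ba6402ae72af04cef16778968c416b3d3747cabfc43101a91c38fd468fd7d3cb95f2618af5107ae0213a6824921eb25334a9db921fddd519ab27b4603143590e0be2f68225306ca28bfc54970b6275140a3423cb62f39175fa9b1b66228584fc45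c86d3655ce44a0fb6a4772e66ec4a51698eca30e7bd9648f3441e3a605a1836d53eada85c3836aeb5fa7d7a9a8f7b6d0d4b93f0d3ebeaf3dfba81ad03ef65c1c886ba4aa85a83146b9148f21a70cf791acd973d0ac4ea02e44db86d6f88122085b0645f8d6a006b111dd11a7f83463a53c92916e9bb744a0c209d4315fac73ffccf3da4489312dac14094b6554c78322b877e5197e91bff558913a9f0e243489e5044195a778365c3e9d67d5b3d67704daddc77ac36a1a1e04bd7482ce551f1942213245eb18171c0af1161d418618242f32038f2829fc84bd243b086e30db1195138a15452de7282130a3e4e8a60b6dd10af88b019f8a0fcd5415bdb5bcc34e95a894b92c25fe30434267188e9dfbf85a1721aaff5267e723ebedb3043d6fde22d9152bb5dd7752cb905c97857de6c2195cb93bc849a6509ce89a1639970aff360cf0c33e0fe9f28d8309ecdee51f1269844fc271f88ac8d27beb556b21cfff8444549404c42e5dea36805a7da00ea9956195de547715df44ed35d963fac163193f36e44a7de820ebbe43ebae9762fc28de3b015931c702302852baa1c96c1d56f54726c37bcd1644a85792ad3f4b69bf933b1b24afb741b50071f43b4095b51e24b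06025118209a32cfdb4d49368d565e6bb49a80c74dc832e0b1d97648d89552fc56759416ab89785969b72f9e3fde53c22be21a888f34683f184273cc1dc893b788af7626ef5965758407315bcf3e654653cc0760fda2844bc33c4b17964f47c9509f8adca5ba428fd2de74aa475e5e0035f662eff2f889f41da9fb06d9aa340807820eaba65a4de95164edaab6fe3d2e045563aa4b3746587fc3125fa691f1e0614a0c3139fb0dc0f3b1770267884cb4fda6c0ca1428cd06f8561d8208c7c604fcf690bce8f48ace176900ab74f1d9d17d55e149ed423498f4947aa4ad33d9715de40eedcb860c3f44090a0b425d9509e657edf11d917e4a943ab9931135cf4c3af028ef68ba328c31e6d6314aa97cc4325a8a1f98abafdf6d0de27a5e1b99052d29fd7c4d561ddb0a6861535608c8ca944f07bbe39333fb26265832c24e2f98227fd261faaba11bfa0f391dba1dfe5786f7590a374bb3dced5640af579c412d3dd859223124f9a7981a48d762ac071135084a66c461e982bc1fdf96d8a7cc588279b77033fff6a295f71ea2e80f7663d9a545f38ff8420febaae80b288b0b42cf11c6c20830d969220019d6730b320aa11b8f484ef1105d01699ddc662953f817637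9fc052eefcf8e281f2b67ad4cf251fc649fd3d97e297f08823368f99786676484a25040a192fcc3e3f9eddc6daf411cab11f550880d6d01ae4c9ac69087d6f68d60edc5b6cc5d47dd329716adba2c327ba75eceabe00c2296d04dbc3af915a3a7be4c5a3879c3be164508571d687b8a859c4679142d43760cd094ae50f8e6c1f33c41bbddf1ca1568c2c0d07a15340bc9c420138b01ecbc4cecefd59b53cd232653cd765a8edbb76c4ab79986e7a9e8d691826174bf7774f08a95461cba737531d65479fab9dde4bed8466e16f86086ad1a2e657fbd82a640b0801a57a6c2e864403e91482a8bd15153dcf893bc6dbef8bb6291866b47ef103fbe3f5c02755209afc3ca2d1d7eb414be4e5cd9ea8e3e3914c5f9d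

/-- word of a generator -/
def gw2 : List ℕ := [13, 11, 13, 12, 13, 11, 13]
/-- packed generator -/
def mg2 : ℕ := 0x4c7b7a978de397b24ad1dc2f3a3a4cbb49a47edcb4b57521a5eca6b36ba6a2ea39ae995b686154e09f7e646661d6ca927a406860ed638837a771344f4b7bdd56ebf7705e32a3a78d34bf74802e4dcbcb705c550fa72191b01b2967aaea5219a33296a7e15d40d415bb4ac56183dd25302bb90bbcb486d0aa2b150a034a3264bd24425b8f1e4d49e4a92c5bd4d4dac249b4e340b104e0384532383417814df42f2b53cdb1cbb9c7f7570abb4b7332eeb68539521c9d602e92f840c300d0008fa4c8e1a00f98a9d4424c3628e982c110729a0d41c438435cfaa342ecfd7f9f4761d00e43b8bc462f52eb1771c41235bfbf4505b3946ddb3205732a7dac2fc2d5bd432c40b5c4e27c7c5e5adfdf16f9235af4373a6127cf598025ad1363c2c11418aee4d4946263a40d04fcdcfc32c75cdb4be4cd09bf0b2c950265e71ac9d18f8bd262ae3bc2fc83c4d835337f0f9ab55e807356d53de14a237f7da527e49f63ca70962df20951e86da114fdd66d074ef4e30748343f5797619d8041d43e4b3c7aa74bc4897aa40b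417d6ff14ec3525ea9a738ae5cbf7251e618f11c7221dc3ce70f9f46a147993e475c5aa743e4ad6bac4b6754b942f443d0943c33bc7ba5bac8b3fbf7bf3ff7f12000e2222cbc930524449a7682f17297000400b149521ae9a14d2350dc73cfa45ff79e0ce1bdaf75e06764dbacce49be767f3b739d2efe053fdcf1f97668a474fc270580fac28a2451e33d22b9f7435ebf9fb27b3edf89204dc3ae145f120c400084810856743b4da06622992d412c9904cf6751acc80d0ffc3c65210e3b1c90e8d4a2c432db90b209c000c442204d18435d53177d7ebe5fbab3ffdf000001f1afa5de96b79fdeaec49fbd9ec7c4a2ffedffb79fba7b7edf81004cf3bf31108307b031e34a084b091f79715fc9b2db7e1786c36f66d25a3f4b3123400840084c5128dda0413370121200000000c488004274720d865dea31dcce259951671f84b28eba10024008400884012852743b0d892a62266eeaa4b5e490ac619ee81c34b0fb80374b3d4ab943c7f0f8095bb90d103eda84d8cfe1bf861f5c40f84cf4b3f1dcc49d93c7ccf4012eb8b7deb720bb1b6db7b9b310192d4b44dd44db5bfb4345bb8e200e1e22e1ddd213584a05e1a066234a4be1782d7829344dc9bbf1522f4277e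144d24429d452298615290f5024424dd4b2d087f84fb387c4f8196de93b40611ffcdfbde57e9a1357512ac4bf5dd80cdfbdd8fee42748378008bf3b88dcc49d4067a5cb59012064ba57880376d710040100091221e2d1de17484a05e38065274418428ed48ed397f84f71824000153333cccca5a1700000a4b41f97554ddb244d42d34b3b6f24b589dc0c7118188e188dcb3b6f7023a87f400ff0f00f00000000000fdc01dc19966969969669a69247bc65b0a33c11dddd1122efb11b6263fc3088b906a35c0690cccc4e7b8200252b355309f6533a9d8f6946805bce5fabd741bed7bed4a4e76db67a700c1427b1b1d84e249bfb4344678c183b35905c0690cc13b146a01bebeb3422dd22ddee13b456e94a5532117a2222ddddeeec44490977b1413da82211eeddeed8945229100421000c35905c0690cc13b146a23be97f3efa6c6c05a0cb204e4a051d39710305936c05a0c8dfb24a38828991e01781b2db7e1487e36fb25bcc1b231781b2db7e1487e36f703a44c821db4db2db7e17a4c76fe73059920b24b2b2db7e145b3b6f170da781930000000000000000000fdc06207955aa55aa55ad4ffc00001fcc841b3333ccccccc8d00000000020080566996699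669990000000002cb400fffffffffffff0000000003bf0000000fffffffc0ffc00001ffa381efffffffffffff000000000390c1f0000fffffffc0ffc00001fff4401fffffffffffff000000000384c1fffff00000003fffc00001fc7e81effff00000003fffc00001fc7d81e0000fffffffc0ffc00001ff8301effff00000003fffc00001fc03001966996696995a96e47690f1c2811aaaaaaaa555145494b54896de008cccc3333333723273d325bf13c1a0f0ff0f00f0fcf1c2ef1c180ac0300ff00ffff03ffe3e001e3ffa41f00000000000000000000000000100000000000000000000000000008000000000000000000000000000400000000000000000000000000020000000000000000000000000001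

/-- word of a generator -/
def gw3 : List ℕ := [11, 12, 11, 13, 12, 13, 11, 12, 11]
/-- packed generator -/
def mg3 : ℕ := 0x2a82231682bdbe6519159441a24654190116493efd2a1e2154a78c18b4323246e077a75f92d28326705980ffd44a9331fa8d662ce5797cefe196c28612dd2fc1e75c86dcb0ad9c0b3d244bffa8374621e87a8140359b1bfb20a17a318319cb8a85878eb4fec5572c098ccb8281f9d99a411b9b29ab3a1b4d929f73071b5c109c1777035a88f5cd116b150fea463480ac7888971096eba0e446ff13557975ebe0a84395902dbdee2a701902939aee05839bce3e8e391d60b8b1bfbec097fffe6cc7a09a3180448338948975d83fd13b3773cafde0820832f224d74c72fb02c28923d5d0aa49195910aede712db7d14a25f525cfb906978dd9ab6a4af0d5f8faeec1d3565698c0369616f5ceb0c0aa6d3a32ba8760a4bb8a1d47800cede2ae70b9f4d835ee6fcfc31ce1fe283e8b1400021e388b5e112ebdec6753c963220f266cf15df38ab2356ccd14d8a1e933b7650a3aeeb76b986fb2dd16433ec9ad48e9f48bca7014e2e9d4fcc1968c31091e644d4a7bea20ca560584970effef5d07c604e80e58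51f17a5e6803ae7e69fdf03584168307d1fca275f43640a0b0c08813357e23258b44d7e91d1ca7e6fcf84247c81e6e519f32cd41f70a3713028853f43480c55072ffaec1e37d3bfda146edea1d3193c9d09d3a9fe9123449cc3990f5dda56ca120a421998a259581162307f748ca39580985c2dffb9eddf30fbfa6c8375de456ccdf456c8183f5fcf8175956c0c197c1ff9e2e3ed7f3b374fc142b33c4e82dded97273c7925b3c1032f3cfd47694982f8dc22385825ea37e22b19dcb70a78df22e0c15ceca759a6a4a66416c2ace80263229f8eeb40a187eacc7e9f87d877181908e53f64b84842c9a688112553257ef7785ce1f2f91628045a7397eddc96ca32a624c4ef97781f4969e717cbb521b9c1011650e8a4a2d0be9d9f19e08816238a0add262db664e2fecfe3966e0f790d1040f9f68890960063d2f9f775cf34588d58c122c9ab138b564f1b6325101ee0ea7f71cc42309b57132784e9edaa5b4d6673db8a91a795db19a89fc413f69a96b772b6338edeef7b61c3e8c2dccc7619c0fb12012c2c474d366c5fe0dcfe0adfffedb97f460272491a44f229073ed88c3b086b34f93adacf695c5e725534c1bf912a8dd192b060906f82bc92ff258b80d83828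87efa72799b816dea88652231045cd59047e1317209442c5cd48fb9fc5f0e57bb218c1e9d9d8078a3f71e95ddf87776c3c6569447d7ae1100f3ec0ae275898b17708b0366adfa3d897894373f160b5f0f5d798f8f75f2799fd7b01fb0439ca4ef73b2f5666053d40f597464b6454db0c3fb138584d6b25a3b7b47637531d1bd645b42ffe7419efdaf6e01b5e148ccbe73185b8642eba3e53592f32c66970f1b1dea272274f8c2b6a923949800d1fe7e41eb586cd25fcbd5d116b87beec891fbaa2ac2aa271d0d974f4428a9e275e73099e4898d6d2693e7e33e41598ac2e8b4eb0ff9d8e90ce0aef96e31cdacb987df9a4ce75a07791634b9d03aa3fae1133dfb3eef30835aab83aa3c4241def11ecd597c7719a3a8d5b7a7f0349c3ca183da9a16d1512fd0fd847722c4d76d788e22de872d8612ab5549ce373501bd0bd854d9f374193dca55a7eb06a578b82e3bab3ea6f66f68a7d81631a1b07eefa9b53d0a4a16a30cdf4a5ceb6c20f63398b4c21c65e0dc78b54e564114790f3cbc6c23e4a5b76ce3c77cc8350288912e9aff26ea8d9eb6fcfe4c7e73c4ba1bb3a1367f1a3a8af6ac3b82a6e2925b2cdd88fe19cf596173ace2bc95e349a60ab8abdccbd01626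db81ea76c7c369063e835b332d59a83b4662b18a12ccbe470bc765a65d1dd5a39384f1f90e7d601427377b61be0201eed1b32ea56e023aa14b1703034ee7f9ce17032bebecb88f9dcb0efce003e24cfbc28f4e171cfa0bee0cece8d9211da05e88f3dda6db656918e9400ef11cb61811a4ef7f40658cd718bef20d81f4a1d3821aa56b6fd62d7da6b39b69a01fd14960543cdf229e7a790b58fcecfad5774c5d11b88effdad35afd82dbeb77f6026185ff7d5c64a4dd96696f9ff6f9a97d804434fc190ff6b4f6d2f047cf8ffef8ff9880d9c0cc95cc933e82ea06ccb85082abc0e5cfa8cfbce7b49cf20bfc72e867205ea1c9df52cfe6867777a458c4e1dae810c3daeb5cb20ba396115039815f2516c5f9b7bc2cbe9402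

/-- word of a generator -/
def hw0 : List ℕ := [13, 11, 13, 12, 13, 11, 13]
/-- packed generator -/
def mh0 : ℕ := 0x4c7b7a978de397b24ad1dc2f3a3a4cbb49a47edcb4b57521a5eca6b36ba6a2ea39ae995b686154e09f7e646661d6ca927a406860ed638837a771344f4b7bdd56ebf7705e32a3a78d34bf74802e4dcbcb705c550fa72191b01b2967aaea5219a33296a7e15d40d415bb4ac56183dd25302bb90bbcb486d0aa2b150a034a3264bd24425b8f1e4d49e4a92c5bd4d4dac249b4e340b104e0384532383417814df42f2b53cdb1cbb9c7f7570abb4b7332eeb68539521c9d602e92f840c300d0008fa4c8e1a00f98a9d4424c3628e982c110729a0d41c438435cfaa342ecfd7f9f4761d00e43b8bc462f52eb1771c41235bfbf4505b3946ddb3205732a7dac2fc2d5bd432c40b5c4e27c7c5e5adfdf16f9235af4373a6127cf598025ad1363c2c11418aee4d4946263a40d04fcdcfc32c75cdb4be4cd09bf0b2c950265e71ac9d18f8bd262ae3bc2fc83c4d835337f0f9ab55e807356d53de14a237f7da527e49f63ca70962df20951e86da114fdd66d074ef4e30748343f5797619d8041d43e4b3c7aa74bc4897aa40b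417d6ff14ec3525ea9a738ae5cbf7251e618f11c7221dc3ce70f9f46a147993e475c5aa743e4ad6bac4b6754b942f443d0943c33bc7ba5bac8b3fbf7bf3ff7f12000e2222cbc930524449a7682f17297000400b149521ae9a14d2350dc73cfa45ff79e0ce1bdaf75e06764dbacce49be767f3b739d2efe053fdcf1f97668a474fc270580fac28a2451e33d22b9f7435ebf9fb27b3edf89204dc3ae145f120c400084810856743b4da06622992d412c9904cf6751acc80d0ffc3c65210e3b1c90e8d4a2c432db90b209c000c442204d18435d53177d7ebe5fbab3ffdf000001f1afa5de96b79fdeaec49fbd9ec7c4a2ffedffb79fba7b7edf81004cf3bf31108307b031e34a084b091f79715fc9b2db7e1786c36f66d25a3f4b3123400840084c5128dda0413370121200000000c488004274720d865dea31dcce259951671f84b28eba10024008400884012852743b0d892a62266eeaa4b5e490ac619ee81c34b0fb80374b3d4ab943c7f0f8095bb90d103eda84d8cfe1bf861f5c40f84cf4b3f1dcc49d93c7ccf4012eb8b7deb720bb1b6db7b9b310192d4b44dd44db5bfb4345bb8e200e1e22e1ddd213584a05e1a066234a4be1782d7829344dc9bbf1522f4277e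144d24429d452298615290f5024424dd4b2d087f84fb387c4f8196de93b40611ffcdfbde57e9a1357512ac4bf5dd80cdfbdd8fee42748378008bf3b88dcc49d4067a5cb59012064ba57880376d710040100091221e2d1de17484a05e38065274418428ed48ed397f84f71824000153333cccca5a1700000a4b41f97554ddb244d42d34b3b6f24b589dc0c7118188e188dcb3b6f7023a87f400ff0f00f00000000000fdc01dc19966969969669a69247bc65b0a33c11dddd1122efb11b6263fc3088b906a35c0690cccc4e7b8200252b355309f6533a9d8f6946805bce5fabd741bed7bed4a4e76db67a700c1427b1b1d84e249bfb4344678c183b35905c0690cc13b146a01bebeb3422dd22ddee13b456e94a5532117a2222ddddeeec44490977b1413da82211eeddeed8945229100421000c35905c0690cc13b146a23be97f3efa6c6c05a0cb204e4a051d39710305936c05a0c8dfb24a38828991e01781b2db7e1487e36fb25bcc1b231781b2db7e1487e36f703a44c821db4db2db7e17a4c76fe73059920b24b2b2db7e145b3b6f170da781930000000000000000000fdc06207955aa55aa55ad4ffc00001fcc841b3333ccccccc8d00000000020080566996699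669990000000002cb400fffffffffffff0000000003bf0000000fffffffc0ffc00001ffa381efffffffffffff000000000390c1f0000fffffffc0ffc00001fff4401fffffffffffff000000000384c1fffff00000003fffc00001fc7e81effff00000003fffc00001fc7d81e0000fffffffc0ffc00001ff8301effff00000003fffc00001fc03001966996696995a96e47690f1c2811aaaaaaaa555145494b54896de008cccc3333333723273d325bf13c1a0f0ff0f00f0fcf1c2ef1c180ac0300ff00ffff03ffe3e001e3ffa41f00000000000000000000000000100000000000000000000000000008000000000000000000000000000400000000000000000000000000020000000000000000000000000001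

/-- word of a generator -/
def hw1 : List ℕ := [13, 12, 11, 13, 12, 11, 12, 13, 11, 12, 13]
/-- packed generator -/
def mh1 : ℕ := 0xe11a5087580655930a8fcdfc89a07be55c2102c1b5866982e1e68f20bd199a429866798b21888125fdc0d8e9691b32ad96824c844f3f14a00325243ff165c5ba320a13f83fa1a516d7a55b69daab50075de7c981a380746f5b988f0f6200a52c28416c43bba068647334420d1f19a801fdacf67423d62f6cc70070803040304061024452f2493e05e95176c05e5f6ceee6ba3961ac0d3ce52800e704b3e39c126f36678c0f1ecd805a6d2c155949c28a5c054c3fce00200a30e72cd6571d66841c38cb4063c8bae5092dcbb548050e78712004182dc6f79dc699fc01e38756e0e13650abd2806793828fedfd26e26c99bba24d37a56e928e2fe1c122aa141429ff627aba630d5cd40f02a0c378a871c5c30e6e85ad5dce029911d85ea9a364870401f387e1a32e2e5c5e0c79c5c89806bc5d12432ecf061311d3ea4ade8f7bddfc038877c63133e62c660301f380ff6331f2fcece0338007fc0d5dc16f602b7e430a4dc480c99605e8501480ad0830e92631d38e4e0d3c7c13a088778c3077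f62c670909f3e3dea02769971b8d466d69b304ac5eec8002d52bc2dcb99298f401e3c654c0843a0d74b7d584872809e3c756a008758e3873e668670101c183de60f94d7d055dff3feae400f2c667e079323dba69fce0090f0910b8c6c0394eb209c2f803e9c80d514000200b261a04227a272a6e8ad765706035b70f8d160231d7900d578b3b20cbe364b30644faf7f98b1262c920c6e1a67eef549efede002036b9808aa225f22b6c5efef50800448ae0007d00bebbebbbe2e000e29eb30066f5cc6ca6ea72eeff8e08b8cda0e730719a60c56319658f5f9947208eede7b7ebffbafffd010107ff2081c5bdf6c6bb11f79a015721cb008e6fe7f6af7ffefefd000066a9801562641cb36fa9dcba08e4b62b40828200007ee854080000110754606b1c156d54768df59787d69bfdc0828200002b4454080400104002208f6e2938e63edad7de873331faa00eefa7b6ab77fefef70800648a60e3c1f2e30e287d70a0862e1851006d29bf37e9570fe3e709c467e400cb4c4c0726a170ab180592d6f78083c7048cf8ba04010881030460000f00000f666a508028002106aa40050a050a050c0000000a004456c02b7171d4d48dcb00458e64bd1600e188e188d2bf54a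ac889d2b3e4a0065390c55c08c9100d076edd178000c300c3003800000001820430c0c2ba763ddfa5bd35c90268a911e0c245ef5b20a7d762230387451740255d6eda51d78c4b0e8cbac83200044f83048033e401080810400040c60a05c9a095905b260b993140c0e718718e71706259258f3f95240066666666a55d7fe3e401e262f3200000000055ad400000000144624081e81781188dcb3b618fdc106300e7717118e881fb3b658fdd0946404d2424b224b6dda9250001fbe3a3660f960066f25cc8e28366600347487b8bb87b49174adb01e3fb870b82ebd84eb1d84723440ad4433413f6f9f6f9060810802f0001fedda20f00000fa5ad40002b0a010356c2695aa596cc00001b2a0d98994502111e44b4dd29de012c88069cd7404be1e14b7828a4404989256407406ff9f99035596f726b074cdc050044e1114b88289b40688845633740b77b4774b872d755e7855f6af1e105a0f5509cc5a501620b752a27c1c3c300003c380c380300000754418e18b2db18708e73698fc9b80240ff00ff006969afe3e701e207314024b2b2db81145b3b6f8fdcf8000024b2b2dbe881fb3b688fdcff6680e87e81e881e854d88d8e3f97b7e02b4242d4bd2cbb3b628f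dd9407c0c3c3c3c33c38e000000000040400ffffffff000000000f0001fbe3e0ff00ff00ff03ffe3ef01e2024420ff00ff00ff03ffe3ef01e2014420ffffffff000000000f0001f89fe000ff00ffff03ffe3e001e3ffe7c0ff00ff00ff03ffe3ef01e200642000ff00ffff03ffe3e001e3ffb7c000ff00ffff03ffe3e001e3f853c0ffffffff000000000f0001ffe7e000000000000000000000000001e000000000000000000000000002e0000000000000000000000000008000000000000000000000000003a000000000000000000000000003c096966969696a5971a7970ce3b1c055aa55aaaa52baaaa4aa9495a120333333333334dcdb3dcdbbcef360f00ff00f0ff03f03c10fc3872860ffff00000003fffc00001fc03400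

/-- word of a generator -/
def hw2 : List ℕ := (beta% delta% lq26f5db1ca5 fun _ c d =>
 (c 11<|c 12<|c 11<|c 12<|c 13<|c 12<|c 13<|c 12<|c 13<|c 11<|c 12<|c 11<|c 13<|d))
/-- packed generator -/
def mh2 : ℕ := 0xe9f10ed8b14a1c718bf680f23d0a2ad015d7cc46452e484764f1617a6f9f4daaa8b513c08252e0c9ae40fcd8659d28f87431926324e2b6a0d318f24f5c63af72a0a4841f49c467c35c48cf6f1ff2e371dbc25c7a3d7216db18be661ffd1648ddb25a0c7cdea089a1ac0b408bd5326ac070299f7584b8b6b0a22e39d9fde6efe8bcb31041cc2b7c3cb0a7dccccb5a9d681dc61d043eb933087143b221c481fdb7ec58c8450c4dab6551d55097f8b3354d93c7ffdff376d58dc96536079f386598e5f97cf55694686b4b845198dd2c30378a737f0db382ea8e6b2b207af2e02d3345f182adb9ccd77258159ef93fd6f52ff9db31728376ca2a3bc31c1bc0dd5e34f2ba3452f5d9b8ba4ca6037dff3055924ea7b15fcf6a464d5aff5bfdef758f8f03ffeb7b2a02938405d6286f2ea8ff7bf9bb2e5e456bc5f265d3436795c856a741224cccb64e8e9e04edf7cabfb555848672ae522140f0f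a7e1a24af09bfe203c6fd3146b46b8170814c564ea6d7753ea1103c87595b35ec8d26ee70550c2d71738d4aa1c99267d6a527dddf326cacd78aebdf73eaba9cda7094e93c9ee71a210eba8b82243e6cba5f94ffb2671ae685036098d80dc7c716e36e8b2175cd2793860968a94cd40738e0c1f2bb48be9f22036c4e438e67de702c126fb07f5eb6cd85afc84d95dd1b1c47fc2ba6cd093cb29ea1f8960ce175ca937a395f85c25472910e2cdd8fe4e2b3e8d0f33550c55aeec538714461377a41420d9a42e5db98c1005bb6bd2b60fa02cfba82255be945a80f1b77bea9c69bb78608adef4e21018d383f4135314a0412e93339308bce2c32c9a63989e353511726271859a081c800543f0b2b3b5609257017f8719c84957947c7a02616a9ce5aed72a2d238d6ce1e2b1dfae7f0b7bbd53f82f0c22cf164a244f55c2e9fde14fc3813215748fbba569c97b7c67a9cdc8d535e810e87407ac7bc3d9244d2060ab309236b0e7db84b3dc3452a8abe3d5c385189f95a55ea0cfa158c4e8aa18568bc48d3a422857215a6fa03e7c59e16f634707db65dc3b86fea4372fda4507d5c52b432d99b535dd5acd431bccc83eea50aa7a2e01042a76bbe1223ad5f0e0b11f36931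f307a6ff3da80b6ef0661f4db81839371ffcb4978554cdedbdc5e06f0576d978c4ea3b70852f03bbdaf9e4a6d07d5a5cbfe000fb504ca3f0e3146d66cbaf1b52ef00656f786f986579615db460926bd4e9989d882160a1bc934c4ef71b83540a0a17025e56b5526ecc45c41bf1fac2597db25c42a3744cabf8841e2ab87af2b64f0c4a558472aa4721009b5199b5c380525d8daffe6dcb3eedd3478f247a73255b42fae34d214c53bcab56d4fe94268fdd850149895e63eb035bf08d1eb0df0b4ceaf888f1b042f0d10fa650eb34f661f6407a0955336b71d779af648f319eaca0c397ffbb95039618871b0baad66c7df8f642b9c579213866a377458f1befbdc93a5699353b2ea9a5e94e14d5bd2b979397005f38f432a29028d6505093d7d8d2d6b005b85b3da3652c241ceeb389d4542933cef4fe00b1ac1f41d3976c66f6f8d9a42e529ada7cfd45e969cd4f95bd4a3a30aee7756d96e121fdb211ceefbefd9812221112b584b46130d5e82e37d8ed7816b3e9e588bd89b1e8f4616891ad11038855b947873481f91d1ff0694f16a4c17ff00fcd61d2f8bb5d001ad232c772138dbd26822278e58c6e340d92c696b915d8a81b8835d31d9e42056187b1914e181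b75ac1c4e94638f45ccbb41d6833e6470f3a84ef9211426ff7ae509580871a78cffbb3d55c77bc1524735df1a73c59c5cca800755cf71f71be3699d2d6100e40f49a47ff70402e21057512a15a4011d508558c3a1883639636c36c597749203642b7b2c73472393e0ca851f75ed7a226dffa8828415655f9a8fc00f2fc1bf5b1781943db62a3db7c8fa0f162901b58e4ff026ff2c73897a246a5e8f711349acb9c1f319fddc79be98c0b8d5d53f70fb9b929012a65eac93d0b556fc65cc2f6a3b8cad0dce58d71beb5026607e5b6f1ba5636e75ba75152a51a6bae954271565f92913897e17e770c34e83e11541a157d8eb5fd76d1bb15b11abffb1b0f64a9fb22c06cb273bc07e5230d2d2c4965389189487b73c09095c3de33ca51eb4e14f12ce852e658a0454b0cb840c48c03ba215cb41096b8c941fa9ed9add20866ba5ac2b056b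

/-- packed matrix of `Fm 0` -/
def mF0 : ℕ := 0xdcd19350981872738914ae62e6b5f16ea8842cd4edc8e10267c089f8f486ea1d42fa60b1d3500e730d1d489814e3286fe701abfc40c287924632076038d75389414dcebfcbd0080dee36f416ccfdab4f698e277dff28acef565761544667b73db52562e588a237633adc4b3d1c1960759bb1653f240777a51c5286dc8ab7fc6e0cb9757bae03a64af7699da8b789f00aa5aa34b04b06e89a3b95a6ea4e46e5f5f6377e0aafb634c2d5b4dae8a32f3638b5e0e90b69f5339b5ec6340d6d8b34956fec0b90230f07a76f3b310585a1d664047440493a894ecbe94debf1c4f21640df1a52b29dbd78cba1d2d2546a9cbd355deb113fc1e0e0e9767acb4617bc0ca185f4a7b865d3c99295ea314f2094eead18155cd2ff5f112c64ae2dc41b4d5a1a5e75439659d7397b4914eface368a82a0ac0e34f0fc0a01d09af1605c65558ff0877c9e03651948917a314c247efb3b2be3f080f9383aa44783b82d239043d559fa4f97bd463c0f9d4f495f2ec5592681e065b37db014c78855d617447b3da8f6f61a7c6661cd44c8a03ad0dea57f8c759ea2c54b1f9f9a825c15623a594ecaefab952aed144857bcaf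a2aedc17e4fc58050a58bc8ee13059ed6863594af2e85e61bbc17c87638700bd2bc990db88bb9aa48ad8a71c067f3581499d0a83e5b7f7d1714f65a000dd5fe64abc15bbeaabb93567897454f3310053d24ab00527766e6f298ada0f44206a45f6598c96ec9b2d863a7a91411536503047d516d93654522bf0b7932c5fcc34c9de1c2fc28ec779a24895b072d5aac4104865a0ce7bdbd60e099de9286de4c5b47661c7b554c54f2b654a918e09d2f837ef6f663380e8e439d332f2aed7cf056b35c9db948bc09618ae76bf33c905be2d602fa49595b7648953b422a78c73135b3233dfb1e6fffc617c07e58255464732bc2817bccfdbe058088c4a36c9bed0d5c3939d901b5bcb689d934a9c4a506ce850cba0a242c29247427ac4f7ac83d0b3d9fb13ea93287e135713e3827a8c60495e6a131c908fa29a6c1a75b672f05446fa5834497befcf524ec3db6ed8db054329fa91c9539ced4895b7a0a63af1d88f06908b611048bc3133bf287510f0e17c588d4a47d83eee28547c14a5af39ba1504b4e756a960700e0eabed3c5a9a9d0b612d7041544cd3392c6575845f397ef9105f01e3edc4a8312ac391f10a5b6cfe75b6120790b0ce5fc5d3d302284d1502ed50f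d9daa573bc2a41a7e69cecdbc50019fcc4e477f7f655e636fd73883968561f450e2d2b66190597fe14405f1eb9aff946399a67fc9c558e5bb499130933334d608bcdc3608fef1191733b37d8dad35eb4f332772c47ac31668e323fc2f3e8641a6ab2f1c6e6e875a25c04c5987ce45ddbc368b8df750021776a96bd1fd8ef2489409977857ea474f3c3f5ca43a819757b72a61378e9f975af7b6a0a31ca40ac44d92337b370d51f188428adde114e48eeea2e6993b6a2619232d02e075eba50354459d4c03c1b4a041917ea5784ba60633fb853880a1976b4655765234183268f7d89064ffc7c778cad0630d70beaeade57514dd2bb7025fd2a463ad51a2648ce81df4c41c0b9ecb65fb4597788505154f8ff765f249a33baf70e9ecb75a4b75e241cc2cb9b7f973836cffe9890837f01c6abc8da848654659ff07179bab80c50cd5a048874dde00be510f5bc2c183529ef2565faf19c6b61b718f49860f3049b72fe113b064c64767868fc404bf7fa4e5678f25941e22ad7f5e5884859b1eced88e308c3851d474c3c456f625a7eae73dc48f835193f5b0c435fac32086452ddaeeb1daed973f2d4fa55a49bd812252fa7737e2df92cc868519a4672c8bc410bea40c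31e67488c0b9f1d817a742ce2280d46f2e7cdb71d9d8b3bc4c731f8ed394e1870406b0e7a78fda64eed93301c598d8695610fdecf105e50ef3d6b75cfb0cd4745551be7af4d44e10823a441a9b969e2ae82cc2011fe27f56b186a46a49a03422a88a35c0d2134ba5d2cdedb1b2e829e0aec5554976b461fd7a76575acad5cdab479531601b186f1f33591ff5f0b9f1d919b6e6407f5b911a86ec2fb2f823b7d749d63b872e3c897b2c880c2ec02501eed4d5d17198b4999fe9b68a742d2f15272c75ac4607023b5a71caced73583d082254f1940052afdd41c3064ba051ffed2005e40fd1b707945bd1c752743aafab7f91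

/-- packed matrix of `Fm 1` -/
def mF1 : ℕ := 0x5a4f3180cee06019f22c33451377ef2d79c46c3864bea57a9357e6e5869652394209f382c04d94365b8807690cb098ad1bb251d01489b72d1458c26fb2f22d35bb95b8eb9c9e91fbcfb5974f8db551df8d3998e208f6ff2689b578f90735e1a56a7a79fe1a8e736ed1c648a28ee4170ec62a00f8990d5e103b09a70e98efe10ccb92d4c0f81317a2043dff32933ef46c63d518abee336884e0ed52d920a6b687351caf7784d37803d40fa8bf9f79fc1147be1fb22981ead59ea92f62c19989a32639d4573768fb6b7a262c2712376dccb888b869e945e447a54b672066d65f938cb7ba014b9583ef6606cd5c97ef4bbce960a0007708740bbb6ac2266fb98d2285c7bd018dfa27fc9cc78eacc41ee907a7ac8656d5b5067b6354fec555082f994673c1a9f9e8cf9002eb71da1d4a5aa388f4491cb831a073eea5ee0f76c8c8d2c685ebb3b669ba07ea9a900016f9b4c5f88d87499b9668f2510099737e1636d150b7932665b1493a109f839616666ba8f4321f5ca5c5805db36f581ca550701ba092d689a2907563de3d811f212c313b2b7eafb61c336a066ded3bfc8fec57d13ce179bf3f90e9e9603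6ebb510301c086eaf2d112073255d61bf56828ec158a540544555a156a28d783df42a0f2f58f0dfbd0004359e03d8024e3cfcab351c24d5621e1d011b6afa52ecac887fd89bc5529d05a24771d75e526ab740520d259a722aaa01be58408679a4822b233fe45c7066aab552c489d20261c68457ada5741c5d2fbec95645f0599d92a11ea714201a599eb98027b8de29bf2774a2580234d636d56cdf326c7b12b9e52251e38d1ba30dc6ebd5b5430a6ebbdbc190e8117407c1dc77af7fbc0437565fca067ec50b1cb008ed678d1b6fa489ba9c4472f455ac768c714044b2e409f101e659f61bcd9044a1f1e8477509c2a401334d8193e856a1b41a4477d41ba8a32c6903adc1e24e5357738ab80266f7592225e8cf9a5145556f063600ef7c836feda411dd41a520b9edde506138d6779403979a5c6827ef139266a4496b2e9bcb923a9556c26e9e1a002588b4bdcb167f381bc4459b5b61d8df6b7ef6f92834d1d54846fd74cc42f201589a05c43fa0a2f3ec60b35c81eaf9dc1c625acd3395dd6c44f4287a1c7117ed73c41489512626bae0feb2fd23e5d8eaaf00043ddaecc3e26760b45f0708ef433a6e900c636cc3a5cd31bacb309ace81d2df2cccb47c4cf1ea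e5b6f4f023a5377278ec6e1b7a65301536268670196e1bcbee1814b6ee0248c21c5a02e72a1bf5753e19315e1810d159baee0a0816d758f6acd79ec2dea2a3636b77b1a04141044b42c0ce6509ea85c058e841e4f203cbdd831c4d935eac4e6a59c19c636f94982ce9aa4f4b5906b28156172fb45b31ab1ec3e8b9b10bb4671bf26c1a025449b16daccf6e950f0a3b1e01ebb2ba411a5a4877bc947903b04aacfcf5ef0e2eeccffeff4297e8bdefd0a6909942e5012f805d2c40fbd230b3bb78d85ec8a5cd8a9f702b15b45e976159b8ce3eac999e0a345e061c7b03cfc8a3802a40deba00da6d642ee23f6db22f629747f2d21accab79ada747a1186abd2c04cd458c716bfdfbcf00490b10d78338dea34186b104dcf37940a84081de52dce12f94752daed3dc8f6f0ceaa1a2caceedab7b6585c9c6167d417ed226323334dd6d790c168bb8240bc1b69b728fdaf3d68daa1feb443ba44df5526a3605b7d577cd26fb7fdc66d5666b11bc8d0bf4a971020b9a1b8e41d662de58542da5730635d89551e0f2a2051f638b65ed811706db8b946273e282ed16d6aec7c4b164e1f3d82a5607782991f03ee5c73c1be99268854095b4fb34d4dc50613aa148fba7492e1ee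16a6135f00da100ac67f4d6e79ff2db9874dbcefd143b53c1ddfdfd18b99d36477757c42df3179a5a6318aab9adac150a1927bf510392ea7a17b4cb446ad05d422073c5506862d2ebac69872331e9a6d1b3bf7afae613b1893f160a297b8f6f3d3fc03888bd6a75531c7c6bd2732ccaf592c172531f80659b6c330aa9b834d155edd2fc43314880a447bb12d5cb7a72b374ab3c221383915bf5e18771cb69fd5c32ecd8188312cfb558ad10e1ca63e2416f1f3ad6e2dab53d84e839b7cc113c9cd58d30f82a4f79f3972f423605c19a4e02391d6dcc99f88115c10c277eff2b1b83871043ce931d8105dbf45337bf8642e4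

/-- packed matrix of `Fm 2` -/
def mF2 : ℕ := 0x5a4f3180cee06019f22c33451377ef2d79c46c3864bea57a9357e6e5869652394209f382c04d94365b8807690cb098ad1bb251d01489b72d1458c26fb2f22d35bb95b8eb9c9e91fbcfb5974f8db551df8d3998e208f6ff2689b578f90735e1a56a7a79fe1a8e736ed1c648a28ee4170ec62a00f8990d5e103b09a70e98efe10ccb92d4c0f81317a2043dff32933ef46c63d518abee336884e0ed52d920a6b687351caf7784d37803d40fa8bf9f79fc1147be1fb22981ead59ea92f62c19989a32639d4573768fb6b7a262c2712376dccb888b869e945e447a54b672066d65f938cb7ba014b9583ef6606cd5c97ef4bbce960a0007708740bbb6ac2266fb98d2285c7bd018dfa27fc9cc78eacc41ee907a7ac8656d5b5067b6354fec555082f994673c1a9f9e8cf9002eb71da1d4a5aa388f4491cb831a073eea5ee0f76c8c8d2c685ebb3b669ba07ea9a900016f9b4c5f88d87499b9668f2510099737e1636d150b7932665b1493a109f839616666ba8f4321f5ca5c5805db36f581ca550701ba092d689a2907563de3d811f212c313b2b7eafb61c336a066ded3bfc8fec57d13ce179bf3f90e9e9603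6ebb510301c086eaf2d112073255d61bf56828ec158a540544555a156a28d783df42a0f2f58f0dfbd0004359e03d8024e3cfcab351c24d5621e1d011b6afa52ecac887fd89bc5529d05a24771d75e526ab740520d259a722aaa01be58408679a4822b233fe45c7066aab552c489d20261c68457ada5741c5d2fbec95645f0599d92a11ea714201a599eb98027b8de29bf2774a2580234d636d56cdf326c7b12b9e52251e38d1ba30dc6ebd5b5430a6ebbdbc190e8117407c1dc77af7fbc0437565fca067ec50b1cb008ed678d1b6fa489ba9c4472f455ac768c714044b2e409f101e659f61bcd9044a1f1e8477509c2a401334d8193e856a1b41a4477d41ba8a32c6903adc1e24e5357738ab80266f7592225e8cf9a5145556f063600ef7c836feda411dd41a520b9edde506138d6779403979a5c6827ef139266a4496b2e9bcb923a9556c26e9e1a002588b4bdcb167f381bc4459b5b61d8df6b7ef6f92834d1d54846fd74cc42f201589a05c43fa0a2f3ec60b35c81eaf9dc1c625acd3395dd6c44f4287a1c7117ed73c41489512626bae0feb2fd23e5d8eaaf00043ddaecc3e26760b45f0708ef433a6e900c636cc3a5cd31bacb309ace81d2df2cccb47c4cf1ea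e5b6f4f023a5377278ec6e1b7a65301536268670196e1bcbee1814b6ee0248c21c5a02e72a1bf5753e19315e1810d159baee0a0816d758f6acd79ec2dea2a3636b77b1a04141044b42c0ce6509ea85c058e841e4f203cbdd831c4d935eac4e6a59c19c636f94982ce9aa4f4b5906b28156172fb45b31ab1ec3e8b9b10bb4671bf26c1a025449b16daccf6e950f0a3b1e01ebb2ba411a5a4877bc947903b04aacfcf5ef0e2eeccffeff4297e8bdefd0a6909942e5012f805d2c40fbd230b3bb78d85ec8a5cd8a9f702b15b45e976159b8ce3eac999e0a345e061c7b03cfc8a3802a40deba00da6d642ee23f6db22f629747f2d21accab79ada747a1186abd2c04cd458c716bfdfbcf00490b10d78338dea34186b104dcf37940a84081de52dce12f94752daed3dc8f6f0ceaa1a2caceedab7b6585c9c6167d417ed226323334dd6d790c168bb8240bc1b69b728fdaf3d68daa1feb443ba44df5526a3605b7d577cd26fb7fdc66d5666b11bc8d0bf4a971020b9a1b8e41d662de58542da5730635d89551e0f2a2051f638b65ed811706db8b946273e282ed16d6aec7c4b164e1f3d82a5607782991f03ee5c73c1be99268854095b4fb34d4dc50613aa148fba7492e1ee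16a6135f00da100ac67f4d6e79ff2db9874dbcefd143b53c1ddfdfd18b99d36477757c42df3179a5a6318aab9adac150a1927bf510392ea7a17b4cb446ad05d422073c5506862d2ebac69872331e9a6d1b3bf7afae613b1893f160a297b8f6f3d3fc03888bd6a75531c7c6bd2732ccaf592c172531f80659b6c330aa9b834d155edd2fc43314880a447bb12d5cb7a72b374ab3c221383915bf5e18771cb69fd5c32ecd8188312cfb558ad10e1ca63e2416f1f3ad6e2dab53d84e839b7cc113c9cd58d30f82a4f79f3972f423605c19a4e02391d6dcc99f88115c10c277eff2b1b83871043ce931d8105dbf45337bf8642e4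

/-- packed matrix of `Fm 4` -/
def mF4 : ℕ := 0xd4ce18f17f7c939277c8697e1dbb3edd0a3382057235cfa80479ab55609f2cf73288292b64a06309f1e59fa574604da2483481b0d638d8b94ffbf7900798533726562fd8507679558698a7ebfd58afb987776fb7d4b3df04a7c4d552f6d1b294b672c7f137034699e969c70e049360c9216829e2e43b2a40914e608365e91646b4680fba423c3ebdfa1486032d3abf4f4d350a5199b496c720273a4c14515f84849120af4f8389c81c5546bf84499cfa5e0a4ac6b33a0e10ad81080da70f09f5783c818f2d9b9835fdbd4b0b55cab3789e4b17ed5f3a02f53aa9a5fbfcbe16ffe577f7787ccc59fa281b1ba33df95fb650ddbc4e9ea9f1f44c1ce774d7872e5395c64ca983a4b0253ab8425bc7c65c469a1a93661c340581ee3ca39575847c0404442b8b7dfa73dd3ba06938c418b55b85ef064248462ffbbd1f8b1ca38f7b1381187052b703900dfacfa5cfdd7a59bee0220525326def6dd187fde50753ede433a81cdf490b9c718b351349bdd5f2961b812d5f183c9e8e2cb6be811c93107869834c41dc734d43d8c4447dcbcb2f740351e524bd78c55a9dcf93321c5f10561833d41404ea68c3367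25880d97780431a00cc75d0ebe32787860fca3c420d9ce01fd4098f0af9f01705208e9ba897b3a9fd6b11d1c998b2cc59e9beb2030badf2af44349f4ab2287c85ed6ab3e6b44d416438b6ce0dbb28b66635a299761e0c31eb536dbb693ca45a1972b7ebd7af7a39ce0b118b6c690189cf3adee5de35248f8fab8c326bd9652a68f9616de485b90c4b0de8033a0544263b79dac35ee48a70794f1298b1877ffab35c207d5de1ed16f54f8b63a4ed539df12f6bd7c6eb060eaa3aa28c5f4fcad01682c71a5f1400f50fee51701e075caf99e1ed39296094533b4a7cc3f015a985cb7475c9f875017ce4f9b226e7b352638fb118e4c568208a6074a3a73b10a331c43435d5d676011dcebec8bb2d497cc911c8a01b5052b150dcea20743f49cfacc324ba5376576cbcb1a5f21f16146d9d8473086ac8e0961498c8e96ba7d552aa3260bb731d227db8c7221dba6cc2afb9ab24b9318d981c57a364b4226d883b9e0fdcc60a6e6814a607c5fa1ecb7b11672720eeed7e277d71f80336e63ec35e8678f047309c0e4ca4ea254cf2e74e5f2ce945007dccc77352503e84c3468f3a99309ac1bd19826ec109ee771ce4ba16d9d04626fa816471480598cdf4e15c551865f566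2696ffee4ef9293e7f2efc1b9ab6faa017e90950ef351c3ef597052fca3297977fee7ec3dd7e74b8963db01bb0e0f47e4ae46755b87dbe2051acd3f077b7f0880ab38eb425d51883bc21670cd20ec60847b5731eea528fda55a149c18162baeb56a7c20e5300b2e432041146e472c5bdc4eb1e589b9e4ad13ce922ca5a4a28e78b072a77241058e9e2f52b6d0921666c4c7e2595682a9970458c8c433a0155fa55699b5c581697ad29dba5887757a2d42a5dda14ee8740624656ac0cefe56e4515a7aa79c82f6f1f48d015b80beadff109742e402020dea9301f5fa6339df1e7e516d2e1a963fcdb6f73be7f85e9670851a37135ef2b6febd35ac955d2e72842e7e37623866baa6ac73b3f15867f3a8327d93c72f152f5fdce25a65c4dbd6eaca1a89ae88cb0849f3e694d997f2cb4391cba61e922687b5665168f7e824703add372bfcc12ff10e341a6360ba3dc885c6aea3c7ff4ec4e67dfaee7f7951b756b0b43107a0c149a46d7df59c565b8af1a45eebc2ce6894bb67d7c2843a247319f5f4b8873bd4a324fa8b18f2c5274dfba8362e1ea7516c22d6674a1bd56a6072c82af55644c9299c2b7cd850335b2f4f6d346b1689af4ed87807aa086a0677e3411251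954aa6da42b9dcb00bd6e17742adb7a62377c092755f1e59cf0086d886c6aa6637cb1ac0191a13c675503426bb8407caea6b291ab5f653159219e906ddec2ab9fef655cc8e1516f0c952715f1f7910d2e98584c3ac742650e1031c611f9f1b2fb31febd889b9bf733a32031a1dbdc43d648feda7f3f0b34f28d0a2f844ce3d6383aba7fc17934b013c3f65e7817b7a390f340957fd9ad0b2bf8df4a5ac081cf0964f880bd377a18b3e9c3355d19d57f7409a5c0b80d253c2184aaadb811ac9ce34cf0fc5407f64ec885b6e47f468e47a436e957b0186cd9dcb73503a7bb4e9d9f46eb71595b37fa57215f5adf505f814620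

/-- packed matrix of `Fm 5` -/
def mF5 : ℕ := 0x47c1a1c3e145882ce57447e2df6b0d5de90a72d8c57553cc3ad974e00132e11d781b57bbaa979e4a282e41459c3a534ba3f653370f4cd6f219369b37878fef9e9dd7a56a2012a02e56b19da0e0a4c55fc392f3fe51ea3278070b808ccc6f4b35a3757a9f8959f39a08e40999735e532965fbdfdd1a8706da723e603890d47d3a97670fee45f33328f4617013d7fb9258ebc3b213fc73c2ca732d3a16fe4b66b9834c4ec1b2567d02e3c0967cc3a086775ebbbdc2244696392b096cbf255a276d47d44278217ad70e717f09610902452b5a894e4f91a93a4d1560d85c471d1f6c415467b08933fe5bd229ad0063a4f5177bd3fcf04971d7028cf02bd298a689e81ac91d1c59b59b289107f8acea951b78c74b1e550313aeb45b35d493f7bc1dd005378e080458bfe1465aea14543f96b546ed20555c8bfe405210ff45aeeda7669d7feea8c631719b0fc84484227e7f4245191abd80ed8ef552a48a6a3324f82d6f9371e69d6ce440c559b67673f81d1fc63102fa370612fb5f66c01b29463f0e3c536e324de1d14a3794acb3dc9156e57f11ecf017988a2b31d0ede86e96c352b21276ae78f6277f089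83a3ab24a5b62aa98c761b2c65fd55039b5f830d09975dc145617c05e865f37322ed61d8394c1bab7ba9ee6a69a48a973c977e4fbe98eff46f8134e623747c2a7dec007cabcfa7d5c205fb96acb0f9eb88eff0c93cdba6b2a5265558d174434319129473b87fa15c86bf50a0b0c81b098a6b8965247de2155d200192606a05dd5127561d499fca157ab64ca7b35ced21f052b92dc2980c874cd9d24f94a79d02b47276f5d4c0e750348f1348c333d1827e3cb1c7429a2a8b5a9d06a0e0a7166c45844e11a2e4ffed5ca2c38583436c79287b3042a76f247f0da29b6957eb46a138d078daf5e8d6f5fad9f96f597b6a61b307a576c055d6c9852cd75384f4af357015595a328f58bd743bbfc6b4b42269466e8fe513ae37df05e00183793066bf2efb227402e79bfce0e3796e5ca67725c7ae777d92fa0413f9462975a06e2c7a982bd064cd576a12c7486ee86fd50de747fd5155edc86b60cc8c1f9b72a9783e1ae644ba88d954bb7635773889e5956f48eaf70b10ecc777891226054a110f7e0ef168b9bde3c9bb6ada7c671152b56c2dd82e6288a6dd7c0eec7fe9b705f65986c421e2ce79865dd20b1839fef3e3497e3fe9692b433970b04f19e340d940618bbef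bad55fd3a1a0e09caf39bf74d2713c65f9af36cb7bea5453f5027bdadc1103a2f35a3ef19a8b38433b9688cf5c87c76b3575de7c0d34c34d220719a2b97b3ce0701b5346db7cbf168ca71aa7800ce6ee5a9b852843c3d981cdbbe9eb418462d5bb0456b3cee3d0b11238bc7668ddbac743d532628cfd1e236247e31a8098fc812779d087f53b3854e398f130618c285c6a3395cb71993b8e079a0c6e4ced4e298cbb876c76990e98477428ac52cc9686e790237cd41d0db5850c055459ddb5b742d9fd9d351fac1c3592bab6a024db0e0fb526c5dbf2e2d51f610764fdd619e8a882dd3fdefe5bc2b207d7f73a7c80351e157ea9b03bd149c83b345d85ca7f4be95a48f100eff4ddac4bca2b8d8eac555a04d93f4897570b3eda6ddf3cfb367b002a7f7f25183fedcac09e1bb59ebbb680cf0be81f3219b0f417cc5999e3687579dc853553501599104937e305ce97b6194fb8036ef434f74aa0a6809b4812844cb8e2109027d01b89061ee93dc8b0507eebbf5779523f0d22dc56e969b329ed07aa56d773b97472ddfa271c9e4ff2612be52386cd0c3dc0b61c7adf168ca5af1acd86cf2eb817302649ae4480f34fdcc7844941da67563d1e2aa5cb51fbb729f4d5f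f812c4b2561b11889e60cbabe33ce3ad3bcf29f743d1898eff8e890677e406975b062191a2b628a7618fb0af539c8ee7b4172efa14b06001a12429d3531d1d7b8919f5bcf4c56bdfdcd3fc2324b0c7fa13ccd61f60b36a18fd606d0102eed2099d897e68141c5ab455cf2224fcd04d3d69719cbca4a6fbc0dfb0a1b80e27897876dc7b71367099b3f9000480ff701b3e7fbb4dd4e4c52737536e6f4e7c8b2db67f1977c3488f138c0af04a79c715de6916c509ca0af623b507196a9806292044a2b68e092f384f97f15eb5caa58e31567c83d94f177dc0354d42ba5ca9a43acdae754f4343fe230cb749c075e44cd08a8a4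

/-- packed matrix of `Fm 6` -/
def mF6 : ℕ := 0x2b9810793306c56df7d28af642599a1f0a201cb85b1ddf70196f79969efe21f7a160bd8d4b3d67f14f088aa215e69a598297228da55370db5785b02e00d92b9e3361305c13d189a259e535b23a6c3e2ac6fb536ae9aa26a680d5f7ccd3b6df8418195f339f6d796e389ae2b4c40123562f54f058a9665cd4a22fd3b7305d5254f85147ddd4a8122856958f788de8dd7fb2885c3da75c088e905bba6ef400943aefad3ead3112dd6c33d67a01d6ef1f1a36030324388919863077d40e49df32974ff404a0fe9d954f36aed674006acaeeb69ba479de8e7b48fd6e72024f1563cf8abae1a262d3f90c0dd438e8ba66ab3d4c900409e15e4d9a63047ee73fca60805643cdd71ffa83970b998ecebaf0e8a8ccbdfd420f22c20143b0c49fed07561e0051533ae59f4b251c1f328e905c17f59d078878ba7c1d517c0ce6fb58a1155da0ae800727244847c2d2137e25f270b300dc39ec678b9eaeae9e4d6963634d713d18bf9602d15a58f84f97460b10c0158e6d0c7e9b183580e2cea61017a179aac925877530b30f3874105d1e3425ca72e803c510b47bb3071c34cd3321635b883794569312d023ec0eb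39ee0025d1f92226a593a6bd2869f8275dc03ce5fb7195898759ebaa1ff8c63482330efb2b7ffb2f7a73042d309de257de7b5515204eacb1d3913fcecc0e5a54642d5394d50bc44643399786a2611c0423a2267cff4ff160c074fc1ce5e9881cca43fa5379c1a1cf8a33973a017dd52f57562bc81ba934968be78dfc88710f66185a5fe3c56b2e19ef49d95a604f0c578c99c5ef8c6dcce73f732d4919a24d5d2fb330b75c9d0e3984b197a1e11e671a9204c3df35c15c0f26a856be94a4816e22cc14cc3bc854774e354a98fbb26f879cdf5241fad344764b63bb4a5efffe3990c2957bed53f795409131f442bfea57eb75408422955760388c797fdd758b0c6e6ea61b0065a250d63a94679e2fe7ce2585c71ea52e620d6afeb2dfa1ed8e1e617da40bc6a223d6fc801b32d3f9ee1542993a5119e77d830afc287d2f4f0a8d387d5bd12263b85a4f9164d3e5575fb7b6b87626cb1a69cdec7e88362b5618d794284a387df5155d0822a967c71c412bf26d9558ec43843e9fc5cc71a6a191c481bc1f80d7e3b5673bf722ffaea8c1f4d117bd0a2be77ab86b76c9853d8999614d1edb1fb6ff5faf9927827214076857c70b8356dfed16ec8c8ff9ca1e3a297d1eeb9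f8e5dc690c4d003759b0c2e90bf9075530efa9f5c856ea513a9d195f157ad696b4808c8d550732531a9bdcffd11c5b11015cd04883414033e89fb26df27defc9992bb3e18c41fa2727923e0ec70365630ce6bbe9cea2bdee1834a5819379a6ed4ee4b686801fefbba0d469c1dd1e173b6ae7374a7ad3685216c5518e6edc795c672eca1a96a00ea5eefe27588857daf95eb378f83d5c5c314b54e1dd0059c50debc29090d6e44a92c521875b02216837f57720a16cf4c13b637600a754a23966929d8c41c3e4f592033d0de7f4ccfaf9a1df9c4aee45d244fec821f71c3a0e365f7a0e2ee984a1019eeb77567f3a5a92bc1a835968831d467990ca69dcae4362aeeec169ac234a1dfdfb30b92fd515e8dc7998d6ae74bd6eae1606f82130ae8e25b2d629dcb331bf846d7a55ca7f8619bd3412cd9ca1e0fa2fee37d4f26b718d0431601ffecc10c7687acb46ca7094fafca3f188ff1e27b46b6fa0ef41c9f8396d89aa852cfc754dca900483822b9532603bcfb129b4f7eb060e1bf5c11302732da1a78bc6495045b228015262de811369df9444581efbca926e6ead44c178092a5b383fc698534654caaac1b44a91909f4b9fecc52e3997ce8a451de38728af43987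f28cfd59e58e3d6e837ff61175775e4eaae49d077ebc1364d3dfc4ba2c60a7858fefbd3688e064fe444c37570be83b93d1b7862eef5db152b4995e8ea23d5ed55011a6ad947633b10c25dfc28f3190784f8f36564519275ff78cd96bf0ceb1153e101f15f64d027f5bc384447a694994e3eb63b44eba20dedeab92cb671edc5da5d43719f5777c8e9e1c9eb4897a2ce365ca797e64b34aba1aef5b1befbdfac25b3e7ace5f578953f104ecd7b592244d81a7855ca26053c6d917adb08e495777acde2012dc260e1a37abcc9051026d998a3903034c2c23a0e53084bbe5819f081bcbc94b039b3b27530be5996463b88e275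

/-- packed matrix of the element of order 3 -/
def mz : ℕ := 0x809136d8137606f5242277d3cee786524b3db1d7fd67a997af8f75b1a8731b030a68ab26c48dfb1cf1dfabdcc67b9cd4fda2fd5e2f3ae53ad874f189a9aef8a196977c4515122fa7e37d75b54f51fa0829887d81ce1e282999400cdcb4a6a880cd63f4379fed86843d0a3584df57cfae8834436c21a61a32c40e13806227daf40daeef3f75272d9cf7a7af1f58e68cb3b14278fd72ed164d9b14be9919e35bda6b196553c85e807ec05439efddddf8f9e0e192200a4d2cb7a32b13b4b707be11077086185d6ea5262fd8e4e7072acbdca67428e6f496f7d783957603f622bc33d2c77435aa3d82d8fb98f9c3c7bd9716de844c5699e7e87655bf6860e3268ffcd546bee8b39dcabde9035d0334a716260aef7c56e4f78020d114fd47210329424fffb476110bdd2b5c062889f5637f8b0025f351f38a84d25bae15d6521eea886311ca7ad36f86704471ec43e07d72ef623f2d1e5cf85ee9342a791b370f76c39ceb22b8b18fc5ac108a785307419820bba658ff49efc1e01c4ea18315e5d127c5618fc643021a6ad6b4dcacd1ddcf367d99fa891bb857f3e77f06f41a5b13fc9c36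da55f6302594eb191e23ab1bc98fcc309ebd858c636b91b62d3f97612989413a97c24364e057e11993c2a91de347d9a63c12161ed3da0f40c978559f098b6f5251f747a63a0277884b8014444a5795fa042df12eae50f22604adaafa982925fffc047711790696386c578411925bbe2c18ec82a34d9ed54b9f822599e68eb0ae7dbc8dce36e88bf727ec7b0a337cb79bdcea8f87d798d040907ab916fdcb74aa09c314a3782523281f17eeaa2dbb1f40be26e2269620d782422dbd4f2de16e25a5f8912550cb8e793314687f9ceb90e59a1f48ee774bf1a92c4a6a77effb76e3725c3a583db1df87aeb2e8c817f7e982768491a05f2559c1d37fbaaea8123319cd2753263f8fb4721400fb4fc3e6ee236a60787e486f949cab1ed147896212909943d929355e8ca26db72c7a83e60e1df0359a5711b7292dd9d74595b911a09d657063fa15e16ec176e2b1045379f646b439e8338a4c991959c21b90e7baef0b4bf02fecabe652367ffd43e6119ee7ac47ff0e3a9b9fb96e2ac020eea0d223e10891a09ee00cdb8858755f64ea2e2ad9916944557358954fad12322ad835b2e98d67f1e91e1de5b298e47accc1f44dcc7d19317352ebb70852ccc4f8d6b4134ff5b9a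df3eafebc5ae7d79bd29a747a2aa4b9a3911929d6f6b5cb3495b961fb29cef1c47894f65af7d22dbdaf252901bf70c3df3300c2d37ca36a9a74309acdf5a5d99416bb9932fd3e8279b9c494c1a77cde5a090b64c5f889ab88bc82eacb85f3b90d98014bbf3e7ed81eb1a22dead8a2bbed24b7993c6686ce1428deffbe3622914bf4ee6f7272562fd938b9c39a3972c79f69f1fbc909e35ffd940f4a8a08888c867cadb3e5b08705abb6323b1b7ca29adc617d78353a9e57fe641eaa6e55b3a841d5d46a9e7188a3e99e1aa690f9d78d7b05100d0859b3fe5047279e09c4bdb0e0aa0917c5d5e05fab3722826f3db1c5b7a593e94c19c4bb4bcd1af1e12a0d46f5a8bcd7dea17ca38c5b56dbd0b26f66339bb00a0e584ff5c74d0f0ac0fb48af7a1359c3570ae38ffcfc2a4b75183c6e53a5bff2bd07ceba2abfbae80cc4d43295af2afe919f3eb77b2d6a7c92d4b67f732dab869aec4ec278c2cf9b004fed08a06bfabe5203b2582c54d5cb608ff95a2ca73f5779a535169cdaf03961c899dd0c841d1fe1d0bc22220b03164efd17192430c2539b3599d431a943ecb55b232d61de02c51a2b7354618ca5325204f39c05b842b8718bf540afed3365452ad4b55ae4d8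a90d9cf51011562a0c9138b9fe13501f62a1845d6ca133e596dacec2e9a6974e840e9fa04ca8482f6b1c53915aa6941745fe0b820e6b854c6403d4c9d053cab31f8888abbfdfffe2b9aa3730f1b181cd9ac058411909b4e9c10cd36a99469c432757f96d58238713664afa3285843dd95d6e27f58b18e065e7f81c5f3791fece12c9e72bd7f0487ea10459caab181c73a19f3d6f0c6db8089b81e6f63b7ece02aa31bc7d723b33b9b661c3804ad225bdb7045ef2356393286ebdb20819141b26cc79691c085f112652957c1d0f21d98c0c89f8f93546536a8ee5820b21086d0b901f27e03418eca85ac38b9453f9fa8ec84bc08d18d6497cd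

/-- generators of the centralizer of `⟨y0, t1⟩` -/
noncomputable def GZ : List Cfsg.Spor.J4 := [evG L0 gw0, evG L0 gw1, evG L0 gw2, evG L0 gw3]
/-- packed generators -/
def LG : List ℕ := [mg0, mg1, mg2, mg3]
/-- generators of the centralizer of `⟨y0, t3⟩` -/
noncomputable def GH : List Cfsg.Spor.J4 := [evG L0 hw0, evG L0 hw1, evG L0 hw2]
/-- packed generators -/
def LH : List ℕ := [mh0, mh1, mh2]

theorem hG : List.Forall₂ (Codes 112) (GZ.map rho) LG := by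
  have h0 : Codes 112 (rho (evG L0 gw0)) mg0 := codes_lit (w := gw0) (M := mg0) (by decide +kernel)
  have h1 : Codes 112 (rho (evG L0 gw1)) mg1 := codes_lit (w := gw1) (M := mg1) (by decide +kernel)
  have h2 : Codes 112 (rho (evG L0 gw2)) mg2 := codes_lit (w := gw2) (M := mg2) (by decide +kernel)
  have h3 : Codes 112 (rho (evG L0 gw3)) mg3 := codes_lit (w := gw3) (M := mg3) (by decide +kernel)
  exact .cons h0 (.cons h1 (.cons h2 (.cons h3 .nil)))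

theorem hH : List.Forall₂ (Codes 112) (GH.map rho) LH := by
  have h0 : Codes 112 (rho (evG L0 hw0)) mh0 := codes_lit (w := hw0) (M := mh0) (by decide +kernel)
  have h1 : Codes 112 (rho (evG L0 hw1)) mh1 := codes_lit (w := hw1) (M := mh1) (by decide +kernel)
  have h2 : Codes 112 (rho (evG L0 hw2)) mh2 := codes_lit (w := hw2) (M := mh2) (by decide +kernel)
  exact .cons h0 (.cons h1 (.cons h2 .nil))

theorem cF0 : Codes 112 (rho (Fm 0)) mF0 := codes_lit (w := fws.getD 0 []) (M := mF0) (by decide +kernel)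
theorem cF1 : Codes 112 (rho (Fm 1)) mF1 := codes_lit (w := fws.getD 1 []) (M := mF1) (by decide +kernel)
theorem cF2 : Codes 112 (rho (Fm 2)) mF2 := codes_lit (w := fws.getD 2 []) (M := mF2) (by decide +kernel)
theorem cF4 : Codes 112 (rho (Fm 4)) mF4 := codes_lit (w := fws.getD 4 []) (M := mF4) (by decide +kernel)
theorem cF5 : Codes 112 (rho (Fm 5)) mF5 := codes_lit (w := fws.getD 5 []) (M := mF5) (by decide +kernel)
theorem cF6 : Codes 112 (rho (Fm 6)) mF6 := codes_lit (w := fws.getD 6 []) (M := mF6) (by decide +kernel)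

/-- a vector for the test of the order 3 -/
def v0 : ℕ := 0xc963afae5a3bb9096a04e7d80068
/-- a vector for the test of the order 6 -/
def v1 : ℕ := 0x26b5e794ee14e1454c40c439f34a

/-- `v0 * M ^ 3 = v0` -/
def cub (M : ℕ) : Bool :=
  Nat.beq (vmul 112 (vmul 112 (vmul 112 v0 M) M) M) v0

/-- `v1 * A ^ 6 = v1` -/
def six (F M : ℕ) : Bool := force (F2Mat.mul 112 F M) fun A =>
  Nat.beq (vmul 112 (vmul 112 (vmul 112 (vmul 112 (vmul 112 (vmul 112 v1 A) A) A) A) A) A) v1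

/-- the test for the centralizer of `⟨y0, t1⟩` -/
def tz (a M : ℕ) : Bool := cond (Nat.beq (key 1470 20 M) a)
  (cond (cub M) (cond (six mF0 M) false (cond (six mF1 M) false (cond (six mF2 M) false
    (cond (six mF5 M) false (cond (six mF6 M) false (cond (six mF4 M) (Nat.beq M mz) true)))))) true) false

/-- the test for the centralizer of `⟨y0, t3⟩` -/
def th (a M : ℕ) : Bool := cond (Nat.beq (key 3024 14 M) a) (cond (cub M) (Nat.beq M (F2Mat.one 112)) true) false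

/-- path -/
def pa0 : List ℕ := []
/-- program -/
def pg0 : List ℕ := (beta% delta% lq26f5db1ca5 fun a c d =>
 (let b:=(let b:=(let b:=(let b:=(let b:=(let b:=(a 0<|a 0<|a 0<|a 0<|a 4<|a 3<|a 2<|d);
 (a 4<|a 1<|a 2<|a 0<|a 4<|a 0<|a 0<|
 b));
 (let b:=(a 0<|a 4<|a 0<|a 0<|a 0<|a 0<|a 3<|b);
 (a 3<|a 0<|a 0<|a 0<|a 4<|a 3<|a 2<|b)));
 (let b:=(let b:=(a 0<|a 0<|a 0<|a 3<|a 4<|a 1<|a 0<|b);
 (a 4<|a 3<|a 0<|a 0<|a 0<|a 4<|a 3<|b));
 (let b:=(a 0<|a 0<|a 3<|a 4<|a 1<|a 2<|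
 a 3<|b);
 (a 0<|a 0<|a 0<|a 4<|a 0<|a 0<|b))));
 (let b:=(let b:=(let b:=(a 0<|a 0<|a 4<|a 3<|a 2<|a 4<|a 3<|b);
 (a 3<|a 0<|a 0<|a 0<|a 4<|a 0<|a 0<|b));
 (let b:=(a 0<|a 0<|a 3<|a 4<|a 3<|a 2<|a 4<|b);
 (a 4<|a 1<|a 2<|a 1<|
 a 3<|a 4<|a 0<|b)));
 (let b:=(let b:=(a 0<|a 0<|a 0<|a 0<|a 0<|a 0<|a 0<|b);
 (a 0<|a 0<|a 4<|a 0<|a 0<|a 4<|a 1<|b));
 (let b:=(a 0<|a 0<|a 4<|a 1<|a 2<|a 3<|a 4<|b);
 (a 2<|a 1<|a 4<|a 0<|a 0<|a 4<|b)))));
 (let b:=(let b:=(let b:=(let b:=(a 1<|a 0<|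
 a 0<|a 0<|a 0<|a 0<|a 3<|b);
 (a 4<|a 0<|a 0<|a 3<|a 2<|a 0<|a 4<|b));
 (let b:=(a 1<|a 2<|a 3<|a 0<|a 0<|a 3<|a 0<|b);
 (a 1<|a 0<|a 0<|a 0<|a 0<|a 0<|a 4<|b)));
 (let b:=(let b:=(a 0<|a 3<|a 0<|a 0<|a 0<|a 3<|a 4<|b);
 (a 0<|
 a 0<|a 0<|a 4<|a 1<|a 4<|a 1<|b));
 (let b:=(a 2<|a 1<|a 0<|a 4<|a 1<|a 4<|a 0<|b);
 (a 0<|a 0<|a 0<|a 4<|a 1<|a 3<|b))));
 (let b:=(let b:=(let b:=(a 1<|a 4<|a 1<|a 0<|a 0<|a 0<|a 0<|b);
 (a 0<|a 0<|a 3<|a 0<|a 0<|a 0<|a 4<|b));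
 (let b:=(a 3<|a 0<|a 0<|a 0<|a 4<|a 1<|a 3<|b);
 (a 0<|a 3<|a 2<|a 1<|a 4<|a 1<|
 a 0<|b)));
 (let b:=(let b:=(a 4<|a 0<|a 0<|a 4<|a 0<|a 0<|a 0<|b);
 (a 3<|a 0<|a 4<|a 0<|a 0<|a 3<|a 2<|b));
 (let b:=(a 0<|a 4<|a 1<|a 2<|a 4<|a 0<|a 0<|b);
 (a 0<|a 0<|a 4<|a 3<|a 0<|a 0<|b))))));
 (let b:=(let b:=(let b:=(let b:=(let b:=(a 0<|a 0<|a 4<|a 1<|
 a 3<|a 2<|a 1<|b);
 (a 0<|a 0<|a 4<|a 0<|a 0<|a 0<|a 0<|b));
 (let b:=(a 0<|a 0<|a 3<|a 4<|a 1<|a 2<|a 4<|b);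
 (a 4<|a 3<|a 2<|a 0<|a 4<|a 0<|a 0<|b)));
 (let b:=(let b:=(a 1<|a 3<|a 4<|a 1<|a 0<|a 0<|a 0<|b);
 (a 3<|a 4<|a 0<|
 a 0<|a 0<|a 0<|a 4<|b));
 (let b:=(a 0<|a 0<|a 4<|a 3<|a 0<|a 0<|a 0<|b);
 (a 3<|a 0<|a 4<|a 1<|a 3<|a 4<|b))));
 (let b:=(let b:=(let b:=(a 0<|a 0<|a 0<|a 3<|a 2<|a 1<|a 2<|b);
 (a 0<|a 0<|a 3<|a 0<|a 0<|a 0<|a 0<|b));
 (let b:=(a 0<|
 a 4<|a 0<|a 0<|a 4<|a 1<|a 4<|b);
 (a 3<|a 4<|a 1<|a 2<|a 3<|a 4<|a 0<|b)));
 (let b:=(let b:=(a 4<|a 1<|a 0<|a 0<|a 0<|a 0<|a 0<|b);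
 (a 3<|a 2<|a 4<|a 1<|a 0<|a 0<|a 0<|b));
 (let b:=(a 1<|a 0<|a 0<|a 0<|a 0<|a 0<|a 4<|b);
 (a 0<|a 4<|a 0<|a 0<|a 3<|a 4<|b)))));
 (let b:=(let b:=(let b:=(let b:=(a 0<|a 4<|a 0<|a 0<|a 3<|a 4<|
 a 0<|b);
 (a 3<|a 4<|a 1<|a 2<|a 3<|a 4<|a 0<|b));
 (let b:=(a 0<|a 0<|a 4<|a 0<|a 0<|a 0<|a 0<|b);
 (a 0<|a 0<|a 0<|a 4<|a 3<|a 2<|a 4<|b)));
 (let b:=(let b:=(a 3<|a 2<|a 4<|a 0<|a 0<|a 4<|a 0<|b);
 (a 3<|a 4<|a 0<|a 0<|a 0<|
 a 3<|a 4<|b));
 (let b:=(a 0<|a 0<|a 0<|a 4<|a 1<|a 2<|a 1<|b);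
 (a 4<|a 1<|a 4<|a 0<|a 0<|a 0<|b))));
 (let b:=(let b:=(let b:=(a 1<|a 4<|a 0<|a 0<|a 4<|a 0<|a 0<|b);
 (a 0<|a 0<|a 0<|a 0<|a 4<|a 3<|a 2<|b));
 (let b:=(a 0<|a 4<|a 3<|
 a 0<|a 0<|a 0<|a 4<|b);
 (a 4<|a 3<|a 2<|a 1<|a 4<|a 0<|b)));
 (let b:=(let b:=(a 4<|a 1<|a 0<|a 0<|a 0<|a 0<|a 0<|b);
 (a 4<|a 0<|a 0<|a 0<|a 0<|a 4<|a 3<|b));
 (let b:=(a 2<|a 1<|a 2<|a 3<|a 0<|a 4<|a 3<|b);
 (c 10<|c 1<|c 2<|c 1<|c 2<|c 3<|b))))))))
/-- keys -/
def kz0 : List ℕ := (beta% delta% lq26f5db1ca5 fun a c d =>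
 (let b:=(let b:=(let b:=(let b:=(let b:=(a 1002542<|a 525633<|a 835763<|a 597390<|a 795022<|
 a 607217<|a 816026<|d);
 (a 951602<|a 417726<|a 833787<|a 403450<|a 655916<|a 479036<|a 517829<|b));
 (let b:=(a 307639<|a 558486<|a 820387<|a 381679<|a 879016<|a 982181<|
 a 726211<|b);
 (a 53862<|a 330726<|a 113141<|a 243322<|a 109251<|a 641031<|a 908940<|b)));
 (let b:=(let b:=(a 229927<|a 958039<|a 71557<|a 979130<|a 21854<|a 731264<|a 599651<|
 b);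
 (a 589075<|
 a 155347<|a 352336<|a 775481<|a 546427<|a 385412<|a 338617<|b));
 (let b:=(a 180182<|a 128268<|a 427022<|a 373232<|a 672327<|a 256775<|a 365065<|b);
 (a 43987<|a 855523<|
 a 473686<|a 393497<|a 216269<|a 452238<|a 768425<|b))));
 (let b:=(let b:=(let b:=(a 533756<|a 636919<|a 149584<|a 922430<|a 1023966<|a 870507<|a 44948<|b);
 (a 552878<|a 645249<|a 732646<|
 a 635645<|a 412760<|a 372007<|a 174680<|b));
 (let b:=(a 431980<|a 303692<|a 12934<|a 74976<|a 792903<|a 667279<|a 925558<|b);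
 (a 341319<|a 497468<|a 350206<|a 612393<|
 a 103315<|a 776782<|a 657072<|b)));
 (let b:=(let b:=(a 343984<|a 756746<|a 800351<|a 37646<|a 224624<|a 717926<|a 939271<|b);
 (a 84907<|a 295830<|a 575344<|a 865430<|a 742059<|
 a 5687<|a 841077<|b));
 (let b:=(a 663438<|a 679468<|a 889826<|a 399870<|a 1010302<|a 839839<|a 408442<|b);
 (a 409055<|a 410059<|a 286144<|a 480544<|a 139057<|a 198647<|
 a 936174<|b)))));
 (let b:=(let b:=(let b:=(let b:=(a 845394<|a 539220<|a 256749<|a 311825<|a 45163<|a 807639<|a 888375<|b);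
 (a 933128<|a 590459<|a 911234<|a 201583<|a 546972<|a 707584<|a 510462<|
 b));
 (let b:=(a 884137<|
 a 865110<|a 777900<|a 496815<|a 775177<|a 963691<|a 1006128<|b);
 (a 607488<|a 109714<|a 124223<|a 732457<|a 957405<|a 860441<|a 831299<|b)));
 (let b:=(let b:=(a 320279<|a 985344<|
 a 366426<|a 380547<|a 849968<|a 91229<|a 246040<|b);
 (a 794741<|a 766753<|a 187227<|a 268174<|a 834566<|a 922098<|a 273561<|b));
 (let b:=(a 730943<|a 494728<|a 155847<|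
 a 734672<|a 767851<|a 270551<|a 301079<|b);
 (a 156457<|a 435001<|a 741115<|a 865847<|a 642282<|a 297665<|a 253248<|b))));
 (let b:=(let b:=(let b:=(a 402135<|a 702043<|a 546054<|a 393526<|
 a 776131<|a 927049<|a 590196<|b);
 (a 21772<|a 417219<|a 992633<|a 841012<|a 360354<|a 880707<|a 712884<|b));
 (let b:=(a 242388<|a 165607<|a 960964<|a 943526<|a 488675<|
 a 604530<|a 934698<|b);
 (a 83755<|a 150310<|a 891841<|a 837918<|a 442191<|a 484608<|a 553469<|b)));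
 (let b:=(let b:=(a 1048448<|a 533789<|a 744727<|a 797259<|a 992612<|a 550439<|
 a 230297<|b);
 (a 420927<|a 815894<|a 761709<|a 850975<|a 739111<|a 834928<|a 863404<|b));
 (let b:=(a 385599<|a 493598<|a 521985<|a 949899<|a 133275<|a 766350<|a 886414<|
 b);
 (c 0<|c 441714<|c 892296<|c 517136<|c 710016<|c 916883<|c 804707<|b)))))))

/-- path -/
def pa1 : List ℕ := [0, 1, 0, 3, 0, 3, 2, 1]
/-- program -/
def pg1 : List ℕ := (beta% delta% lq26f5db1ca5 fun a c d =>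
 (let b:=(let b:=(let b:=(let b:=(let b:=(let b:=(a 4<|a 1<|a 2<|a 4<|a 0<|a 0<|a 4<|d);
 (a 0<|a 0<|a 0<|a 0<|a 3<|a 2<|a 1<|b));
 (let b:=(a 4<|a 1<|a 2<|a 0<|a 4<|a 0<|a 0<|
 b);
 (a 3<|a 2<|a 4<|a 1<|a 0<|a 0<|a 0<|b)));
 (let b:=(let b:=(a 2<|a 0<|a 4<|a 0<|a 0<|a 0<|a 0<|b);
 (a 4<|a 3<|a 0<|a 0<|a 0<|a 4<|a 3<|b));
 (let b:=(a 0<|a 0<|a 3<|a 2<|a 4<|a 0<|a 0<|b);
 (a 0<|a 0<|a 4<|a 3<|a 2<|a 0<|
 a 0<|b))));
 (let b:=(let b:=(let b:=(a 0<|a 0<|a 4<|a 1<|a 2<|a 3<|a 2<|b);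
 (a 1<|a 0<|a 0<|a 0<|a 4<|a 0<|a 0<|b));
 (let b:=(a 3<|a 2<|a 1<|a 4<|a 0<|a 0<|a 4<|b);
 (a 0<|a 4<|a 0<|a 0<|a 0<|a 0<|a 4<|b)));
 (let b:=(let b:=(a 0<|a 0<|a 4<|a 3<|a 2<|
 a 4<|a 0<|b);
 (a 0<|a 3<|a 2<|a 1<|a 4<|a 3<|a 0<|b));
 (let b:=(a 0<|a 0<|a 0<|a 0<|a 4<|a 0<|a 0<|b);
 (a 3<|a 0<|a 0<|a 0<|a 4<|a 3<|a 4<|b)))));
 (let b:=(let b:=(let b:=(let b:=(a 1<|a 2<|a 1<|a 3<|a 2<|a 1<|a 4<|b);
 (a 0<|a 0<|a 0<|a 0<|
 a 0<|a 0<|a 4<|b));
 (let b:=(a 3<|a 2<|a 0<|a 0<|a 0<|a 3<|a 0<|b);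
 (a 0<|a 3<|a 0<|a 0<|a 0<|a 4<|a 1<|b)));
 (let b:=(let b:=(a 4<|a 3<|a 0<|a 0<|a 0<|a 4<|a 1<|b);
 (a 0<|a 0<|a 0<|a 4<|a 1<|a 2<|a 3<|b));
 (let b:=(a 0<|a 0<|a 3<|
 a 4<|a 1<|a 0<|a 0<|b);
 (a 3<|a 0<|a 0<|a 0<|a 3<|a 0<|a 4<|b))));
 (let b:=(let b:=(let b:=(a 0<|a 4<|a 1<|a 2<|a 4<|a 1<|a 0<|b);
 (a 1<|a 0<|a 3<|a 4<|a 0<|a 0<|a 0<|b));
 (let b:=(a 0<|a 0<|a 0<|a 3<|a 2<|a 1<|a 4<|b);
 (a 0<|a 0<|
 a 0<|a 4<|a 1<|a 0<|a 0<|b)));
 (let b:=(let b:=(a 0<|a 0<|a 0<|a 3<|a 2<|a 4<|a 3<|b);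
 (a 3<|a 2<|a 0<|a 4<|a 1<|a 0<|a 0<|b));
 (let b:=(a 0<|a 4<|a 3<|a 0<|a 0<|a 0<|a 4<|b);
 (a 0<|a 4<|a 0<|a 0<|a 3<|a 2<|b))))));
 (let b:=(let b:=(let b:=(let b:=(let b:=(a 0<|a 4<|a 1<|a 2<|a 3<|a 2<|a 0<|b);
 (a 0<|a 4<|a 1<|a 0<|a 0<|a 0<|a 0<|
 b));
 (let b:=(a 2<|a 1<|a 4<|a 0<|a 0<|a 4<|a 0<|b);
 (a 0<|a 4<|a 3<|a 0<|a 0<|a 0<|a 3<|b)));
 (let b:=(let b:=(a 0<|a 0<|a 4<|a 1<|a 3<|a 4<|a 0<|b);
 (a 0<|a 3<|a 2<|a 0<|a 4<|a 0<|a 0<|b));
 (let b:=(a 4<|a 0<|a 0<|a 4<|a 1<|a 4<|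
 a 0<|b);
 (a 0<|a 0<|a 4<|a 1<|a 3<|a 2<|a 1<|b))));
 (let b:=(let b:=(let b:=(a 4<|a 1<|a 0<|a 0<|a 0<|a 0<|a 0<|b);
 (a 0<|a 0<|a 0<|a 0<|a 0<|a 4<|a 1<|b));
 (let b:=(a 0<|a 4<|a 1<|a 0<|a 3<|a 4<|a 1<|b);
 (a 0<|a 0<|a 3<|a 2<|a 1<|
 a 4<|a 0<|b)));
 (let b:=(let b:=(a 0<|a 3<|a 2<|a 0<|a 4<|a 0<|a 0<|b);
 (a 0<|a 0<|a 4<|a 0<|a 0<|a 4<|a 0<|b));
 (let b:=(a 0<|a 4<|a 0<|a 0<|a 3<|a 2<|a 4<|b);
 (a 0<|a 0<|a 0<|a 4<|a 1<|a 2<|a 3<|b)))));
 (let b:=(let b:=(let b:=(let b:=(a 3<|a 2<|a 4<|a 0<|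
 a 0<|a 4<|a 0<|b);
 (a 4<|a 0<|a 0<|a 4<|a 0<|a 0<|a 4<|b));
 (let b:=(a 0<|a 0<|a 4<|a 1<|a 3<|a 2<|a 1<|b);
 (a 2<|a 3<|a 0<|a 0<|a 0<|a 0<|a 0<|b)));
 (let b:=(let b:=(a 3<|a 0<|a 0<|a 0<|a 3<|a 4<|a 1<|b);
 (a 4<|a 1<|a 3<|
 a 4<|a 0<|a 0<|a 4<|b));
 (let b:=(a 0<|a 3<|a 4<|a 0<|a 0<|a 0<|a 0<|b);
 (a 0<|a 4<|a 3<|a 4<|a 0<|a 0<|a 0<|b))));
 (let b:=(let b:=(let b:=(a 4<|a 1<|a 3<|a 4<|a 3<|a 0<|a 0<|b);
 (a 0<|a 3<|a 2<|a 1<|a 2<|a 3<|a 0<|b));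
 (let b:=(a 3<|a 0<|
 a 0<|a 0<|a 0<|a 0<|a 0<|b);
 (a 4<|a 1<|a 3<|a 0<|a 4<|a 0<|a 0<|b)));
 (let b:=(let b:=(a 3<|a 0<|a 0<|a 0<|a 4<|a 0<|a 0<|b);
 (a 0<|a 3<|a 4<|a 1<|a 2<|a 3<|a 4<|b));
 (let b:=(a 0<|a 4<|a 1<|a 0<|a 0<|a 0<|a 0<|b);
 (c 4<|c 1<|c 0<|c 3<|c 0<|c 0<|b))))))))
/-- keys -/
def kz1 : List ℕ := (beta% delta% lq26f5db1ca5 fun a c d =>
 (let b:=(let b:=(let b:=(let b:=(let b:=(a 53395<|a 101980<|a 257916<|a 281285<|
 a 743884<|a 162516<|a 598597<|d);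
 (a 45357<|a 126091<|a 192237<|a 95113<|a 362444<|a 423011<|a 622974<|b));
 (let b:=(a 247629<|a 820029<|a 781041<|a 187470<|a 255778<|
 a 287128<|a 353816<|b);
 (a 877652<|a 1003841<|a 1030032<|a 146104<|a 230973<|a 329447<|a 708795<|b)));
 (let b:=(let b:=(a 592457<|a 1045089<|a 984172<|a 21020<|a 277646<|a 806000<|
 a 604448<|b);
 (a 392983<|a 58857<|a 955403<|a 508666<|a 662596<|a 341051<|a 496124<|b));
 (let b:=(a 56019<|a 502703<|a 50742<|a 241689<|a 104249<|a 658440<|a 701271<|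
 b);
 (a 653755<|
 a 618591<|a 202862<|a 130378<|a 393684<|a 441835<|a 232928<|b))));
 (let b:=(let b:=(let b:=(a 387072<|a 74760<|a 944884<|a 933562<|a 420752<|a 291207<|a 405545<|b);
 (a 139156<|a 1013172<|
 a 776989<|a 1010491<|a 881670<|a 37101<|a 889519<|b));
 (let b:=(a 983192<|a 875569<|a 979045<|a 19123<|a 215997<|a 184030<|a 881570<|b);
 (a 394614<|a 863790<|a 764048<|
 a 723255<|a 768171<|a 978235<|a 18625<|b)));
 (let b:=(let b:=(a 817693<|a 790012<|a 863207<|a 24008<|a 430814<|a 344386<|a 79071<|b);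
 (a 332386<|a 437904<|a 728283<|a 392987<|
 a 1023866<|a 204137<|a 1045331<|b));
 (let b:=(a 128366<|a 1030857<|a 335085<|a 813792<|a 12397<|a 875304<|a 641135<|b);
 (a 642567<|a 878698<|a 507949<|a 217857<|a 776281<|
 a 496863<|a 330323<|b)))));
 (let b:=(let b:=(let b:=(let b:=(a 163629<|a 275417<|a 948169<|a 353745<|a 387512<|a 612369<|a 5671<|b);
 (a 358783<|a 869454<|a 154905<|a 826508<|a 177894<|a 533678<|
 a 761449<|b));
 (let b:=(a 833811<|a 811941<|a 42105<|a 159677<|a 252216<|a 231782<|a 795691<|b);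
 (a 202428<|a 927367<|a 372916<|a 698053<|a 386606<|a 970379<|a 478430<|
 b)));
 (let b:=(let b:=(a 907177<|
 a 66872<|a 901738<|a 926934<|a 756310<|a 1013357<|a 589564<|b);
 (a 1037741<|a 219895<|a 248390<|a 211347<|a 921283<|a 631089<|a 862319<|b));
 (let b:=(a 189477<|a 856556<|
 a 1026918<|a 673344<|a 605405<|a 307152<|a 424274<|b);
 (a 963757<|a 149848<|a 171134<|a 38853<|a 401134<|a 830247<|a 598896<|b))));
 (let b:=(let b:=(let b:=(a 56604<|a 921336<|a 162806<|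
 a 531684<|a 153779<|a 657478<|a 245088<|b);
 (a 292084<|a 778831<|a 538962<|a 998938<|a 529367<|a 138851<|a 471741<|b));
 (let b:=(a 565156<|a 712299<|a 711771<|a 960022<|
 a 428020<|a 417663<|a 365857<|b);
 (a 493057<|a 719482<|a 559295<|a 698223<|a 968646<|a 267765<|a 80602<|b)));
 (let b:=(let b:=(a 573361<|a 403672<|a 1018193<|a 637532<|a 1046219<|
 a 327881<|a 510737<|b);
 (a 740602<|a 322564<|a 757505<|a 971294<|a 675291<|a 332374<|a 914852<|b));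
 (let b:=(a 674044<|a 324952<|a 119277<|a 227861<|a 581616<|a 682975<|
 a 386185<|b);
 (c 379658<|c 836474<|c 958799<|c 322598<|c 776027<|c 436427<|c 370580<|b)))))))

/-- path -/
def pa2 : List ℕ := [0, 1, 3, 0, 2, 1]
/-- program -/
def pg2 : List ℕ := (beta% delta% lq26f5db1ca5 fun a c d =>
 (let b:=(let b:=(let b:=(let b:=(let b:=(let b:=(a 4<|a 3<|a 0<|a 0<|a 0<|a 3<|a 2<|d);
 (a 2<|
 a 4<|a 0<|a 0<|a 4<|a 0<|a 0<|b));
 (let b:=(a 2<|a 4<|a 3<|a 0<|a 0<|a 0<|a 3<|b);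
 (a 2<|a 0<|a 0<|a 0<|a 0<|a 4<|a 1<|b)));
 (let b:=(let b:=(a 0<|a 0<|a 4<|a 0<|a 0<|a 4<|a 3<|b);
 (a 4<|a 1<|a 2<|a 3<|a 2<|a 1<|a 4<|b));
 (let b:=(a 0<|a 0<|a 0<|a 0<|a 0<|a 0<|a 0<|b);
 (a 0<|a 0<|a 4<|a 0<|a 0<|a 4<|a 1<|
 b))));
 (let b:=(let b:=(let b:=(a 0<|a 3<|a 4<|a 1<|a 2<|a 3<|a 4<|b);
 (a 3<|a 2<|a 0<|a 4<|a 0<|a 0<|a 0<|b));
 (let b:=(a 3<|a 0<|a 0<|a 0<|a 0<|a 0<|a 4<|b);
 (a 0<|a 0<|a 0<|a 3<|a 4<|a 1<|a 4<|b)));
 (let b:=(let b:=(a 2<|a 3<|a 4<|a 0<|a 0<|a 4<|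
 a 3<|b);
 (a 4<|a 0<|a 0<|a 0<|a 0<|a 4<|a 1<|b));
 (let b:=(a 0<|a 4<|a 0<|a 0<|a 0<|a 0<|a 3<|b);
 (a 3<|a 0<|a 0<|a 0<|a 4<|a 3<|a 2<|b)))));
 (let b:=(let b:=(let b:=(let b:=(a 4<|a 1<|a 3<|a 0<|a 4<|a 0<|a 0<|b);
 (a 3<|a 4<|a 0<|a 0<|a 0<|
 a 0<|a 3<|b));
 (let b:=(a 3<|a 4<|a 0<|a 0<|a 0<|a 0<|a 4<|b);
 (a 3<|a 0<|a 4<|a 1<|a 2<|a 3<|a 4<|b)));
 (let b:=(let b:=(a 0<|a 0<|a 0<|a 3<|a 2<|a 1<|a 2<|b);
 (a 0<|a 4<|a 0<|a 0<|a 0<|a 0<|a 0<|b));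
 (let b:=(a 2<|a 0<|a 0<|a 0<|
 a 0<|a 3<|a 2<|b);
 (a 0<|a 3<|a 4<|a 0<|a 0<|a 4<|a 3<|b))));
 (let b:=(let b:=(let b:=(a 0<|a 0<|a 4<|a 1<|a 2<|a 4<|a 0<|b);
 (a 4<|a 0<|a 0<|a 3<|a 4<|a 0<|a 0<|b));
 (let b:=(a 0<|a 0<|a 0<|a 4<|a 1<|a 2<|a 0<|b);
 (a 3<|a 4<|a 3<|
 a 2<|a 0<|a 4<|a 0<|b)));
 (let b:=(let b:=(a 0<|a 0<|a 0<|a 0<|a 4<|a 1<|a 2<|b);
 (a 0<|a 0<|a 0<|a 3<|a 4<|a 1<|a 0<|b));
 (let b:=(a 1<|a 4<|a 0<|a 0<|a 3<|a 4<|a 0<|b);
 (a 0<|a 3<|a 0<|a 0<|a 0<|a 4<|b))))));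
 (let b:=(let b:=(let b:=(let b:=(let b:=(a 1<|
 a 0<|a 4<|a 0<|a 0<|a 4<|a 1<|b);
 (a 2<|a 0<|a 0<|a 0<|a 0<|a 3<|a 2<|b));
 (let b:=(a 0<|a 0<|a 4<|a 1<|a 2<|a 4<|a 1<|b);
 (a 4<|a 0<|a 0<|a 3<|a 4<|a 0<|a 0<|b)));
 (let b:=(let b:=(a 1<|a 2<|a 0<|a 3<|a 4<|a 0<|a 0<|b);
 (a 0<|a 0<|a 0<|a 3<|a 2<|a 1<|a 4<|b));
 (let b:=(a 0<|a 0<|a 0<|a 4<|a 1<|a 0<|a 0<|
 b);
 (a 0<|a 4<|a 1<|a 0<|a 0<|a 0<|a 3<|b))));
 (let b:=(let b:=(let b:=(a 4<|a 1<|a 2<|a 0<|a 3<|a 2<|a 0<|b);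
 (a 0<|a 0<|a 0<|a 0<|a 0<|a 3<|a 2<|b));
 (let b:=(a 4<|a 3<|a 0<|a 0<|a 0<|a 4<|a 1<|b);
 (a 0<|a 0<|a 0<|a 0<|a 4<|a 3<|
 a 2<|b)));
 (let b:=(let b:=(a 4<|a 0<|a 0<|a 3<|a 2<|a 0<|a 4<|b);
 (a 1<|a 2<|a 0<|a 3<|a 2<|a 0<|a 0<|b));
 (let b:=(a 0<|a 3<|a 2<|a 4<|a 0<|a 0<|a 4<|b);
 (a 0<|a 0<|a 4<|a 0<|a 0<|a 0<|b)))));
 (let b:=(let b:=(let b:=(let b:=(a 0<|a 0<|a 0<|a 4<|
 a 3<|a 2<|a 4<|b);
 (a 1<|a 2<|a 3<|a 2<|a 0<|a 4<|a 3<|b));
 (let b:=(a 0<|a 0<|a 0<|a 0<|a 0<|a 0<|a 4<|b);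
 (a 0<|a 0<|a 4<|a 1<|a 2<|a 0<|a 4<|b)));
 (let b:=(let b:=(a 3<|a 0<|a 0<|a 0<|a 4<|a 1<|a 0<|b);
 (a 4<|a 0<|a 0<|
 a 3<|a 2<|a 1<|a 4<|b));
 (let b:=(a 4<|a 0<|a 0<|a 3<|a 0<|a 0<|a 0<|b);
 (a 4<|a 0<|a 0<|a 4<|a 1<|a 2<|a 0<|b))));
 (let b:=(let b:=(let b:=(a 0<|a 3<|a 2<|a 1<|a 4<|a 0<|a 0<|b);
 (a 1<|a 3<|a 0<|a 0<|a 3<|a 0<|a 0<|b));
 (let b:=(a 0<|a 4<|
 a 3<|a 0<|a 0<|a 0<|a 4<|b);
 (a 4<|a 1<|a 2<|a 3<|a 2<|a 4<|a 0<|b)));
 (let b:=(let b:=(a 4<|a 0<|a 0<|a 0<|a 0<|a 0<|a 0<|b);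
 (a 4<|a 0<|a 0<|a 4<|a 1<|a 2<|a 0<|b));
 (let b:=(a 0<|a 0<|a 4<|a 0<|a 0<|a 3<|a 2<|b);
 (c 4<|c 1<|c 2<|c 4<|c 3<|c 0<|b))))))))
/-- keys -/
def kz2 : List ℕ := (beta% delta% lq26f5db1ca5 fun a c d =>
 (let b:=(let b:=(let b:=(let b:=(let b:=(a 484703<|a 876535<|a 931673<|a 233712<|a 545518<|a 877934<|
 a 1025347<|d);
 (a 306204<|a 181470<|a 302622<|a 1<|a 651289<|a 557153<|a 681768<|b));
 (let b:=(a 802610<|a 123435<|a 974247<|a 717110<|a 79408<|a 171616<|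
 a 965629<|b);
 (a 83011<|a 502518<|a 770143<|a 3107<|a 554486<|a 49663<|a 986314<|b)));
 (let b:=(let b:=(a 648853<|a 420358<|a 1026299<|a 233044<|a 847386<|a 632563<|
 a 228793<|b);
 (a 766627<|a 700168<|a 519299<|a 963727<|a 130599<|a 910179<|a 589315<|b));
 (let b:=(a 261100<|a 508774<|a 929086<|a 606943<|a 490479<|a 116561<|a 856153<|
 b);
 (a 628088<|
 a 642606<|a 646184<|a 800717<|a 757304<|a 144887<|a 817538<|b))));
 (let b:=(let b:=(let b:=(a 1039592<|a 12290<|a 271606<|a 155892<|a 589962<|a 569887<|a 274206<|b);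
 (a 441791<|a 524225<|
 a 245579<|a 21779<|a 113866<|a 633970<|a 535798<|b));
 (let b:=(a 668710<|a 11606<|a 583763<|a 325097<|a 982390<|a 487304<|a 235787<|b);
 (a 530912<|a 207694<|a 856198<|
 a 385703<|a 337871<|a 537417<|a 908026<|b)));
 (let b:=(let b:=(a 49747<|a 985354<|a 92606<|a 907893<|a 85521<|a 600011<|a 398971<|b);
 (a 1043842<|a 1034831<|a 275023<|a 452652<|
 a 877072<|a 284697<|a 650240<|b));
 (let b:=(a 48707<|a 893072<|a 66493<|a 655071<|a 303891<|a 932407<|a 68020<|b);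
 (a 347554<|a 249432<|a 790197<|a 210465<|a 400302<|
 a 341162<|a 223664<|b)))));
 (let b:=(let b:=(let b:=(let b:=(a 964576<|a 577885<|a 52240<|a 1046389<|a 1000835<|a 462080<|a 1004468<|b);
 (a 955862<|a 613685<|a 875474<|a 847469<|a 1040765<|a 277770<|
 a 915203<|b));
 (let b:=(a 1040992<|a 686554<|a 77024<|a 510811<|a 344235<|a 197699<|a 596771<|b);
 (a 677756<|a 522024<|a 743789<|a 857173<|a 213276<|a 907582<|a 809833<|
 b)));
 (let b:=(let b:=(a 1002178<|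
 a 788011<|a 456414<|a 170090<|a 977487<|a 1014012<|a 428303<|b);
 (a 1016064<|a 153863<|a 499817<|a 205206<|a 506952<|a 277778<|a 912246<|b));
 (let b:=(a 501756<|a 515531<|
 a 133822<|a 277665<|a 248900<|a 1040877<|a 414531<|b);
 (a 333992<|a 181042<|a 426267<|a 574708<|a 211575<|a 584296<|a 848680<|b))));
 (let b:=(let b:=(let b:=(a 955207<|a 170633<|a 36810<|
 a 210311<|a 548688<|a 108280<|a 574968<|b);
 (a 736246<|a 827235<|a 910981<|a 436257<|a 316226<|a 935694<|a 185835<|b));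
 (let b:=(a 861236<|a 905388<|a 1035823<|a 103764<|
 a 833053<|a 344931<|a 1044876<|b);
 (a 91393<|a 59517<|a 660863<|a 439488<|a 372646<|a 513221<|a 208155<|b)));
 (let b:=(let b:=(a 697743<|a 712966<|a 850210<|a 1030912<|a 328391<|
 a 449131<|a 657933<|b);
 (a 33358<|a 215149<|a 651322<|a 690221<|a 88563<|a 618697<|a 585689<|b));
 (let b:=(a 878929<|a 939703<|a 277212<|a 880519<|a 351448<|a 910606<|
 a 379141<|b);
 (c 105750<|c 102829<|c 857402<|c 667047<|c 221617<|c 821361<|c 779912<|b)))))))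

/-- path -/
def pa3 : List ℕ := [0, 2, 1, 3, 0, 1, 3, 2]
/-- program -/
def pg3 : List ℕ := (beta% delta% lq26f5db1ca5 fun a c d =>
 (let b:=(let b:=(let b:=(let b:=(let b:=(let b:=(a 4<|a 0<|a 0<|a 0<|a 0<|a 3<|a 4<|d);
 (a 0<|a 0<|a 3<|a 2<|a 4<|a 0<|a 0<|b));
 (let b:=(a 0<|a 0<|a 4<|a 1<|a 2<|
 a 0<|a 3<|b);
 (a 4<|a 0<|a 0<|a 3<|a 4<|a 3<|a 0<|b)));
 (let b:=(let b:=(a 0<|a 0<|a 0<|a 0<|a 4<|a 1<|a 2<|b);
 (a 4<|a 0<|a 0<|a 3<|a 4<|a 1<|a 0<|b));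
 (let b:=(a 0<|a 3<|a 4<|a 1<|a 0<|a 0<|a 0<|b);
 (a 2<|a 1<|a 4<|a 1<|
 a 2<|a 4<|a 0<|b))));
 (let b:=(let b:=(let b:=(a 0<|a 0<|a 0<|a 0<|a 0<|a 0<|a 3<|b);
 (a 4<|a 1<|a 2<|a 0<|a 4<|a 1<|a 0<|b));
 (let b:=(a 0<|a 0<|a 0<|a 3<|a 0<|a 0<|a 0<|b);
 (a 0<|a 3<|a 2<|a 4<|a 1<|a 3<|a 2<|b)));
 (let b:=(let b:=(a 1<|a 4<|a 0<|
 a 0<|a 0<|a 0<|a 0<|b);
 (a 0<|a 0<|a 4<|a 3<|a 2<|a 0<|a 4<|b));
 (let b:=(a 0<|a 3<|a 2<|a 0<|a 4<|a 0<|a 0<|b);
 (a 3<|a 0<|a 0<|a 3<|a 2<|a 0<|a 0<|b)))));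
 (let b:=(let b:=(let b:=(let b:=(a 0<|a 3<|a 2<|a 0<|a 4<|a 1<|a 2<|b);
 (a 4<|a 0<|
 a 0<|a 4<|a 3<|a 0<|a 0<|b));
 (let b:=(a 0<|a 4<|a 1<|a 2<|a 3<|a 2<|a 0<|b);
 (a 0<|a 4<|a 1<|a 0<|a 0<|a 0<|a 0<|b)));
 (let b:=(let b:=(a 0<|a 4<|a 1<|a 0<|a 3<|a 0<|a 0<|b);
 (a 3<|a 2<|a 1<|a 4<|a 3<|a 0<|a 0<|b));
 (let b:=(a 2<|
 a 0<|a 4<|a 0<|a 0<|a 0<|a 0<|b);
 (a 4<|a 0<|a 0<|a 4<|a 1<|a 0<|a 3<|b))));
 (let b:=(let b:=(let b:=(a 0<|a 0<|a 3<|a 2<|a 4<|a 0<|a 0<|b);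
 (a 4<|a 1<|a 3<|a 0<|a 0<|a 3<|a 0<|b));
 (let b:=(a 0<|a 0<|a 0<|a 0<|a 4<|a 1<|a 2<|b);
 (a 2<|a 4<|a 0<|a 0<|a 4<|a 1<|a 0<|b)));
 (let b:=(let b:=(a 0<|a 4<|a 1<|a 0<|a 0<|a 0<|a 3<|
 b);
 (a 2<|a 3<|a 0<|a 4<|a 0<|a 0<|a 3<|b));
 (let b:=(a 2<|a 1<|a 4<|a 0<|a 0<|a 4<|a 1<|b);
 (a 1<|a 0<|a 0<|a 0<|a 0<|a 0<|a 3<|b))))));
 (let b:=(let b:=(let b:=(let b:=(let b:=(a 0<|a 3<|a 2<|a 4<|a 0<|a 0<|a 4<|b);
 (a 0<|a 0<|a 0<|a 4<|a 3<|a 0<|
 a 0<|b));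
 (let b:=(a 0<|a 0<|a 3<|a 2<|a 0<|a 4<|a 3<|b);
 (a 3<|a 2<|a 0<|a 4<|a 0<|a 0<|a 4<|b)));
 (let b:=(let b:=(a 0<|a 0<|a 0<|a 0<|a 4<|a 1<|a 2<|b);
 (a 2<|a 4<|a 0<|a 0<|a 4<|a 1<|a 0<|b));
 (let b:=(a 4<|a 0<|a 0<|a 0<|a 0<|
 a 4<|a 3<|b);
 (a 2<|a 1<|a 4<|a 0<|a 0<|a 4<|a 3<|b))));
 (let b:=(let b:=(let b:=(a 0<|a 0<|a 0<|a 4<|a 1<|a 2<|a 3<|b);
 (a 0<|a 0<|a 3<|a 0<|a 0<|a 0<|a 0<|b));
 (let b:=(a 2<|a 4<|a 0<|a 0<|a 3<|a 0<|a 4<|b);
 (a 0<|a 3<|a 0<|a 0<|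
 a 0<|a 4<|a 1<|b)));
 (let b:=(let b:=(a 4<|a 3<|a 0<|a 0<|a 0<|a 4<|a 1<|b);
 (a 0<|a 0<|a 0<|a 4<|a 1<|a 2<|a 3<|b));
 (let b:=(a 0<|a 0<|a 3<|a 4<|a 1<|a 0<|a 0<|b);
 (a 0<|a 0<|a 4<|a 1<|a 0<|a 3<|a 0<|b)))));
 (let b:=(let b:=(let b:=(let b:=(a 2<|a 1<|a 0<|
 a 4<|a 0<|a 0<|a 4<|b);
 (a 4<|a 1<|a 2<|a 4<|a 0<|a 0<|a 3<|b));
 (let b:=(a 0<|a 3<|a 4<|a 0<|a 0<|a 0<|a 0<|b);
 (a 3<|a 2<|a 1<|a 4<|a 1<|a 4<|a 0<|b)));
 (let b:=(let b:=(a 0<|a 0<|a 4<|a 0<|a 0<|a 0<|a 0<|b);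
 (a 0<|a 0<|
 a 3<|a 2<|a 4<|a 3<|a 0<|b));
 (let b:=(a 0<|a 0<|a 4<|a 1<|a 0<|a 0<|a 0<|b);
 (a 0<|a 0<|a 0<|a 4<|a 3<|a 2<|a 4<|b))));
 (let b:=(let b:=(let b:=(a 0<|a 4<|a 1<|a 3<|a 0<|a 0<|a 3<|b);
 (a 0<|a 0<|a 0<|a 3<|a 2<|a 4<|a 0<|b));
 (let b:=(a 2<|
 a 3<|a 0<|a 4<|a 3<|a 2<|a 0<|b);
 (a 4<|a 0<|a 0<|a 0<|a 0<|a 4<|a 1<|b)));
 (let b:=(let b:=(a 0<|a 0<|a 3<|a 2<|a 4<|a 0<|a 0<|b);
 (a 4<|a 1<|a 3<|a 4<|a 0<|a 0<|a 4<|b));
 (let b:=(a 1<|a 4<|a 0<|a 0<|a 4<|a 0<|a 0<|b);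
 (c 4<|c 0<|c 0<|c 0<|c 0<|c 3<|c 2<|b))))))))
/-- keys -/
def kz3 : List ℕ := (beta% delta% lq26f5db1ca5 fun a c d =>
 (let b:=(let b:=(let b:=(let b:=(let b:=(a 301501<|a 948935<|a 18818<|a 162182<|
 a 872713<|a 538063<|a 986370<|d);
 (a 555202<|a 721104<|a 891040<|a 724214<|a 623633<|a 198033<|a 119172<|b));
 (let b:=(a 170125<|a 588254<|a 771930<|a 374949<|a 480821<|
 a 250652<|a 4213<|b);
 (a 813866<|a 46955<|a 885569<|a 295204<|a 1011936<|a 221556<|a 503650<|b)));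
 (let b:=(let b:=(a 56613<|a 978256<|a 657183<|a 493569<|a 300794<|a 867115<|
 a 377244<|b);
 (a 922641<|a 784534<|a 540779<|a 630443<|a 194920<|a 431568<|a 649138<|b));
 (let b:=(a 350136<|a 484013<|a 405827<|a 908455<|a 95450<|a 409215<|a 273905<|
 b);
 (a 242880<|
 a 825953<|a 379390<|a 896044<|a 975830<|a 313557<|a 987116<|b))));
 (let b:=(let b:=(let b:=(a 547264<|a 329198<|a 931925<|a 1016033<|a 41379<|a 897099<|a 301578<|b);
 (a 311568<|a 511348<|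
 a 238095<|a 520223<|a 641695<|a 46019<|a 69446<|b));
 (let b:=(a 337963<|a 418331<|a 713164<|a 411897<|a 640135<|a 181043<|a 417439<|b);
 (a 311439<|a 295969<|a 929014<|
 a 804645<|a 1044924<|a 247604<|a 980865<|b)));
 (let b:=(let b:=(a 430164<|a 203050<|a 872598<|a 164959<|a 527235<|a 718013<|a 243402<|b);
 (a 219064<|a 257683<|a 345337<|a 660023<|
 a 1008056<|a 278546<|a 26995<|b));
 (let b:=(a 542429<|a 27560<|a 264553<|a 830806<|a 329495<|a 630030<|a 231353<|b);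
 (a 1030103<|a 441705<|a 218913<|a 915185<|a 920465<|
 a 791613<|a 298475<|b)))));
 (let b:=(let b:=(let b:=(let b:=(a 76203<|a 58351<|a 705922<|a 320317<|a 77322<|a 126993<|a 149325<|b);
 (a 909185<|a 834635<|a 1005860<|a 549655<|a 269929<|a 632742<|
 a 591377<|b));
 (let b:=(a 88097<|a 344459<|a 60840<|a 417355<|a 24594<|a 271401<|a 603227<|b);
 (a 169996<|a 479263<|a 564371<|a 335660<|a 982736<|a 855962<|a 142911<|
 b)));
 (let b:=(let b:=(a 721707<|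
 a 1006144<|a 859964<|a 411441<|a 352394<|a 503256<|a 720307<|b);
 (a 192022<|a 110483<|a 810072<|a 288380<|a 555753<|a 775732<|a 564164<|b));
 (let b:=(a 926466<|a 401150<|
 a 480312<|a 222815<|a 359353<|a 566260<|a 561522<|b);
 (a 870331<|a 970229<|a 351009<|a 71886<|a 870856<|a 819051<|a 391625<|b))));
 (let b:=(let b:=(let b:=(a 172943<|a 393818<|a 1044300<|
 a 913917<|a 642853<|a 377850<|a 707858<|b);
 (a 234920<|a 256992<|a 107035<|a 251876<|a 929916<|a 102393<|a 494018<|b));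
 (let b:=(a 460351<|a 875400<|a 155630<|a 26897<|
 a 1043144<|a 994548<|a 12175<|b);
 (a 396639<|a 69100<|a 750722<|a 517554<|a 777681<|a 928831<|a 747174<|b)));
 (let b:=(let b:=(a 249267<|a 98724<|a 66938<|a 890709<|a 402920<|
 a 899930<|a 901969<|b);
 (a 1029207<|a 808737<|a 163968<|a 704942<|a 501389<|a 668803<|a 978243<|b));
 (let b:=(a 372323<|a 442830<|a 159508<|a 1022233<|a 653448<|a 278747<|
 a 313975<|b);
 (c 549972<|c 1020435<|c 638556<|c 620460<|c 198334<|c 50292<|c 281448<|b)))))))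

/-- path -/
def pa4 : List ℕ := [0, 2, 3, 2, 1, 3, 2, 3]
/-- program -/
def pg4 : List ℕ := (beta% delta% lq26f5db1ca5 fun a c d =>
 (let b:=(let b:=(let b:=(let b:=(let b:=(let b:=(a 0<|a 0<|a 0<|a 0<|a 4<|a 1<|a 2<|d);
 (a 4<|a 1<|a 0<|a 0<|a 0<|a 3<|a 4<|b));
 (let b:=(a 2<|a 4<|a 0<|a 0<|a 4<|
 a 0<|a 0<|b);
 (a 3<|a 2<|a 4<|a 1<|a 2<|a 0<|a 3<|b)));
 (let b:=(let b:=(a 4<|a 0<|a 0<|a 0<|a 0<|a 0<|a 0<|b);
 (a 4<|a 0<|a 0<|a 4<|a 1<|a 2<|a 0<|b));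
 (let b:=(a 0<|a 0<|a 0<|a 0<|a 4<|a 3<|a 2<|b);
 (a 4<|a 0<|a 0<|a 3<|
 a 2<|a 0<|a 4<|b))));
 (let b:=(let b:=(let b:=(a 4<|a 0<|a 0<|a 3<|a 2<|a 0<|a 0<|b);
 (a 0<|a 0<|a 4<|a 1<|a 2<|a 3<|a 0<|b));
 (let b:=(a 0<|a 0<|a 3<|a 2<|a 4<|a 3<|a 0<|b);
 (a 4<|a 3<|a 2<|a 0<|a 4<|a 0<|a 0<|b)));
 (let b:=(let b:=(a 0<|a 0<|a 4<|
 a 3<|a 0<|a 0<|a 0<|b);
 (a 0<|a 4<|a 1<|a 2<|a 3<|a 2<|a 4<|b));
 (let b:=(a 0<|a 4<|a 0<|a 0<|a 0<|a 0<|a 0<|b);
 (a 0<|a 0<|a 0<|a 0<|a 4<|a 1<|a 2<|b)))));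
 (let b:=(let b:=(let b:=(let b:=(a 0<|a 0<|a 4<|a 1<|a 0<|a 3<|a 4<|b);
 (a 0<|a 3<|
 a 2<|a 1<|a 4<|a 3<|a 0<|b));
 (let b:=(a 0<|a 4<|a 1<|a 0<|a 0<|a 0<|a 0<|b);
 (a 0<|a 0<|a 0<|a 3<|a 2<|a 4<|a 0<|b)));
 (let b:=(let b:=(a 0<|a 4<|a 1<|a 2<|a 0<|a 4<|a 3<|b);
 (a 4<|a 0<|a 0<|a 4<|a 0<|a 0<|a 0<|b));
 (let b:=(a 4<|
 a 1<|a 2<|a 0<|a 0<|a 3<|a 2<|b);
 (a 2<|a 0<|a 0<|a 3<|a 0<|a 0<|a 0<|b))));
 (let b:=(let b:=(let b:=(a 2<|a 1<|a 4<|a 0<|a 0<|a 4<|a 1<|b);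
 (a 0<|a 4<|a 0<|a 0<|a 0<|a 0<|a 3<|b));
 (let b:=(a 3<|a 0<|a 4<|a 0<|a 0<|a 3<|a 2<|b);
 (a 0<|a 0<|a 0<|a 4<|a 1<|a 2<|a 0<|b)));
 (let b:=(let b:=(a 4<|a 0<|a 0<|a 4<|a 3<|a 4<|a 0<|
 b);
 (a 0<|a 0<|a 4<|a 1<|a 2<|a 3<|a 2<|b));
 (let b:=(a 4<|a 1<|a 2<|a 0<|a 0<|a 0<|a 0<|b);
 (a 0<|a 3<|a 4<|a 0<|a 0<|a 0<|a 0<|b))))));
 (let b:=(let b:=(let b:=(let b:=(let b:=(a 0<|a 0<|a 0<|a 3<|a 2<|a 4<|a 1<|b);
 (a 0<|a 4<|a 1<|a 4<|a 3<|a 0<|
 a 0<|b));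
 (let b:=(a 0<|a 4<|a 3<|a 0<|a 0<|a 0<|a 3<|b);
 (a 0<|a 4<|a 1<|a 2<|a 3<|a 4<|a 0<|b)));
 (let b:=(let b:=(a 0<|a 0<|a 0<|a 4<|a 0<|a 0<|a 0<|b);
 (a 2<|a 1<|a 4<|a 1<|a 2<|a 4<|a 3<|b));
 (let b:=(a 0<|a 0<|a 0<|a 0<|a 0<|
 a 0<|a 3<|b);
 (a 0<|a 0<|a 4<|a 1<|a 2<|a 0<|a 4<|b))));
 (let b:=(let b:=(let b:=(a 4<|a 1<|a 3<|a 0<|a 0<|a 3<|a 0<|b);
 (a 0<|a 0<|a 0<|a 0<|a 0<|a 3<|a 2<|b));
 (let b:=(a 0<|a 4<|a 3<|a 2<|a 0<|a 4<|a 1<|b);
 (a 3<|a 2<|a 0<|a 4<|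
 a 0<|a 0<|a 0<|b)));
 (let b:=(let b:=(a 3<|a 4<|a 0<|a 0<|a 0<|a 0<|a 4<|b);
 (a 3<|a 0<|a 0<|a 0<|a 3<|a 2<|a 4<|b));
 (let b:=(a 0<|a 4<|a 3<|a 0<|a 0<|a 0<|a 4<|b);
 (a 2<|a 3<|a 2<|a 4<|a 3<|a 0<|a 0<|b)))));
 (let b:=(let b:=(let b:=(let b:=(a 0<|a 0<|a 0<|
 a 0<|a 0<|a 4<|a 1<|b);
 (a 4<|a 3<|a 0<|a 0<|a 0<|a 4<|a 1<|b));
 (let b:=(a 0<|a 0<|a 4<|a 3<|a 2<|a 1<|a 0<|b);
 (a 2<|a 4<|a 0<|a 0<|a 4<|a 0<|a 0<|b)));
 (let b:=(let b:=(a 4<|a 3<|a 0<|a 0<|a 0<|a 4<|a 3<|b);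
 (a 4<|a 0<|
 a 0<|a 0<|a 3<|a 2<|a 1<|b));
 (let b:=(a 4<|a 3<|a 4<|a 0<|a 0<|a 0<|a 0<|b);
 (a 2<|a 1<|a 4<|a 3<|a 0<|a 0<|a 0<|b))));
 (let b:=(let b:=(let b:=(a 0<|a 0<|a 4<|a 1<|a 2<|a 1<|a 3<|b);
 (a 4<|a 0<|a 0<|a 0<|a 0<|a 0<|a 0<|b));
 (let b:=(a 0<|
 a 4<|a 0<|a 0<|a 3<|a 2<|a 0<|b);
 (a 2<|a 4<|a 0<|a 0<|a 3<|a 2<|a 0<|b)));
 (let b:=(let b:=(a 0<|a 3<|a 0<|a 0<|a 0<|a 4<|a 1<|b);
 (a 1<|a 2<|a 0<|a 4<|a 3<|a 0<|a 0<|b));
 (let b:=(a 1<|a 2<|a 3<|a 4<|a 0<|a 0<|a 4<|b);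
 (c 1<|c 0<|c 0<|c 0<|c 0<|c 0<|c 4<|b))))))))
/-- keys -/
def kz4 : List ℕ := (beta% delta% lq26f5db1ca5 fun a c d =>
 (let b:=(let b:=(let b:=(let b:=(let b:=(a 44147<|a 1019986<|a 706144<|a 436905<|a 724683<|
 a 77902<|a 324086<|d);
 (a 87362<|a 902317<|a 244512<|a 286436<|a 322245<|a 915760<|a 1043138<|b));
 (let b:=(a 30628<|a 401207<|a 809102<|a 513537<|a 496139<|a 672808<|
 a 745178<|b);
 (a 67981<|a 445833<|a 248778<|a 734083<|a 115701<|a 45965<|a 969123<|b)));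
 (let b:=(let b:=(a 449401<|a 613187<|a 604854<|a 1014732<|a 240533<|a 740826<|a 51575<|
 b);
 (a 884810<|
 a 6325<|a 604139<|a 279441<|a 759518<|a 1025410<|a 492127<|b));
 (let b:=(a 853661<|a 585299<|a 388132<|a 1037964<|a 835106<|a 141758<|a 661027<|b);
 (a 439990<|a 644982<|
 a 694893<|a 976334<|a 746170<|a 144425<|a 248976<|b))));
 (let b:=(let b:=(let b:=(a 494029<|a 664672<|a 96023<|a 205199<|a 538636<|a 1004487<|a 137501<|b);
 (a 450423<|a 289050<|a 808963<|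
 a 766269<|a 737737<|a 60477<|a 252725<|b));
 (let b:=(a 930986<|a 337387<|a 153106<|a 1044339<|a 43186<|a 596200<|a 612471<|b);
 (a 911631<|a 813885<|a 557000<|a 21666<|
 a 239985<|a 775515<|a 701507<|b)));
 (let b:=(let b:=(a 845135<|a 379409<|a 36254<|a 403693<|a 544045<|a 790666<|a 528295<|b);
 (a 479088<|a 185030<|a 668462<|a 761204<|a 420781<|
 a 230743<|a 600178<|b));
 (let b:=(a 211440<|a 216668<|a 395190<|a 837724<|a 702870<|a 924837<|a 651047<|b);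
 (a 649645<|a 122311<|a 333179<|a 445174<|a 994931<|a 483566<|
 a 897779<|b)))));
 (let b:=(let b:=(let b:=(let b:=(a 377907<|a 320746<|a 375512<|a 334808<|a 303990<|a 576901<|a 843374<|b);
 (a 472111<|a 743131<|a 682901<|a 52088<|a 565917<|a 186<|a 868114<|
 b));
 (let b:=(a 822712<|a 978576<|a 451310<|a 648913<|a 1006000<|a 654540<|a 85668<|b);
 (a 354050<|a 927187<|a 864401<|a 434348<|a 283760<|a 872533<|a 1022266<|
 b)));
 (let b:=(let b:=(a 165711<|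
 a 485810<|a 924279<|a 683692<|a 139834<|a 993409<|a 1011079<|b);
 (a 822107<|a 660338<|a 954740<|a 749972<|a 847161<|a 924814<|a 858241<|b));
 (let b:=(a 288990<|a 74349<|
 a 1006607<|a 336999<|a 141433<|a 819932<|a 1029210<|b);
 (a 301777<|a 951110<|a 303120<|a 1016698<|a 364516<|a 1046300<|a 735228<|b))));
 (let b:=(let b:=(let b:=(a 317261<|a 951556<|a 980540<|
 a 386863<|a 709030<|a 30400<|a 614704<|b);
 (a 161996<|a 868180<|a 462441<|a 389738<|a 1009862<|a 62517<|a 958943<|b));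
 (let b:=(a 475162<|a 132163<|a 784067<|a 395645<|
 a 287349<|a 554321<|a 198794<|b);
 (a 953028<|a 601225<|a 263012<|a 1006785<|a 282132<|a 955301<|a 686929<|b)));
 (let b:=(let b:=(a 593825<|a 199976<|a 741687<|a 13985<|a 351901<|
 a 678327<|a 684011<|b);
 (a 159594<|a 959931<|a 202461<|a 683644<|a 101295<|a 974608<|a 971860<|b));
 (let b:=(a 742586<|a 209636<|a 319398<|a 212596<|a 269758<|a 991731<|
 a 588812<|b);
 (c 954043<|c 883586<|c 228351<|c 421821<|c 911820<|c 1026837<|c 222327<|b)))))))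

/-- path -/
def pa5 : List ℕ := [0, 3, 0, 3, 2, 3, 0, 1]
/-- program -/
def pg5 : List ℕ := (beta% delta% lq26f5db1ca5 fun a c d =>
 (let b:=(let b:=(let b:=(let b:=(let b:=(let b:=(a 0<|a 4<|a 1<|a 2<|a 4<|a 3<|a 2<|d);
 (a 0<|a 4<|
 a 3<|a 4<|a 0<|a 0<|a 0<|b));
 (let b:=(a 0<|a 4<|a 1<|a 3<|a 2<|a 1<|a 0<|b);
 (a 0<|a 4<|a 0<|a 0<|a 0<|a 0<|a 0<|b)));
 (let b:=(let b:=(a 0<|a 3<|a 4<|a 1<|a 2<|a 4<|a 0<|b);
 (a 3<|a 2<|a 0<|a 4<|a 0<|a 0<|a 0<|b));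
 (let b:=(a 1<|
 a 4<|a 0<|a 0<|a 0<|a 0<|a 4<|b);
 (a 0<|a 0<|a 0<|a 4<|a 1<|a 3<|a 4<|b))));
 (let b:=(let b:=(let b:=(a 0<|a 0<|a 0<|a 0<|a 3<|a 4<|a 0<|b);
 (a 0<|a 0<|a 4<|a 3<|a 2<|a 0<|a 4<|b));
 (let b:=(a 2<|a 3<|a 0<|a 4<|a 1<|a 3<|a 4<|b);
 (a 0<|a 0<|a 0<|a 0<|a 3<|a 2<|a 1<|b)));
 (let b:=(let b:=(a 0<|a 3<|a 4<|a 0<|a 0<|a 0<|a 0<|
 b);
 (a 0<|a 4<|a 1<|a 4<|a 3<|a 0<|a 0<|b));
 (let b:=(a 4<|a 3<|a 0<|a 0<|a 0<|a 4<|a 0<|b);
 (a 0<|a 3<|a 4<|a 1<|a 2<|a 3<|b)))));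
 (let b:=(let b:=(let b:=(let b:=(a 0<|a 4<|a 1<|a 0<|a 0<|a 0<|a 0<|b);
 (a 4<|a 3<|a 2<|a 4<|a 1<|
 a 0<|a 0<|b));
 (let b:=(a 4<|a 1<|a 0<|a 0<|a 0<|a 0<|a 0<|b);
 (a 4<|a 0<|a 0<|a 4<|a 0<|a 0<|a 3<|b)));
 (let b:=(let b:=(a 4<|a 0<|a 0<|a 4<|a 0<|a 0<|a 3<|b);
 (a 0<|a 0<|a 3<|a 4<|a 1<|a 2<|a 3<|b));
 (let b:=(a 2<|a 4<|a 0<|a 0<|
 a 4<|a 0<|a 0<|b);
 (a 4<|a 0<|a 0<|a 0<|a 0<|a 4<|a 3<|b))));
 (let b:=(let b:=(let b:=(a 3<|a 4<|a 3<|a 2<|a 4<|a 0<|a 0<|b);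
 (a 2<|a 1<|a 3<|a 4<|a 0<|a 0<|a 0<|b));
 (let b:=(a 0<|a 0<|a 0<|a 0<|a 0<|a 4<|a 1<|b);
 (a 0<|a 4<|a 1<|
 a 4<|a 3<|a 0<|a 0<|b)));
 (let b:=(let b:=(a 2<|a 1<|a 4<|a 0<|a 0<|a 4<|a 0<|b);
 (a 4<|a 0<|a 0<|a 0<|a 0<|a 4<|a 3<|b));
 (let b:=(a 0<|a 0<|a 4<|a 3<|a 0<|a 0<|a 0<|b);
 (a 0<|a 4<|a 3<|a 2<|a 1<|a 4<|b))))));
 (let b:=(let b:=(let b:=(let b:=(let b:=(a 3<|
 a 4<|a 1<|a 0<|a 0<|a 0<|a 0<|b);
 (a 3<|a 4<|a 0<|a 0<|a 0<|a 0<|a 4<|b));
 (let b:=(a 3<|a 2<|a 1<|a 2<|a 3<|a 0<|a 4<|b);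
 (a 0<|a 0<|a 0<|a 0<|a 2<|a 1<|a 2<|b)));
 (let b:=(let b:=(a 0<|a 0<|a 4<|a 0<|a 0<|a 0<|a 0<|b);
 (a 0<|a 0<|a 0<|a 0<|a 3<|a 2<|a 4<|b));
 (let b:=(a 1<|a 0<|a 0<|a 0<|a 4<|a 3<|a 2<|
 b);
 (a 0<|a 0<|a 0<|a 3<|a 2<|a 0<|a 4<|b))));
 (let b:=(let b:=(let b:=(a 4<|a 3<|a 0<|a 0<|a 0<|a 4<|a 3<|b);
 (a 0<|a 0<|a 0<|a 4<|a 1<|a 2<|a 3<|b));
 (let b:=(a 0<|a 0<|a 3<|a 2<|a 0<|a 4<|a 0<|b);
 (a 0<|a 0<|a 4<|a 3<|a 2<|a 0<|
 a 0<|b)));
 (let b:=(let b:=(a 0<|a 4<|a 1<|a 2<|a 3<|a 0<|a 4<|b);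
 (a 1<|a 2<|a 3<|a 4<|a 3<|a 0<|a 0<|b));
 (let b:=(a 0<|a 0<|a 0<|a 0<|a 0<|a 0<|a 4<|b);
 (a 1<|a 2<|a 3<|a 0<|a 0<|a 4<|b)))));
 (let b:=(let b:=(let b:=(let b:=(a 4<|a 0<|a 0<|a 0<|
 a 0<|a 3<|a 4<|b);
 (a 3<|a 2<|a 4<|a 3<|a 0<|a 0<|a 0<|b));
 (let b:=(a 0<|a 0<|a 3<|a 0<|a 4<|a 0<|a 0<|b);
 (a 0<|a 0<|a 0<|a 4<|a 1<|a 2<|a 4<|b)));
 (let b:=(let b:=(a 3<|a 2<|a 4<|a 0<|a 0<|a 4<|a 0<|b);
 (a 0<|a 0<|a 4<|
 a 1<|a 3<|a 0<|a 0<|b));
 (let b:=(a 3<|a 2<|a 1<|a 4<|a 0<|a 0<|a 4<|b);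
 (a 2<|a 0<|a 0<|a 3<|a 0<|a 0<|a 0<|b))));
 (let b:=(let b:=(let b:=(a 0<|a 0<|a 4<|a 1<|a 2<|a 4<|a 1<|b);
 (a 4<|a 1<|a 2<|a 0<|a 0<|a 0<|a 0<|b));
 (let b:=(a 3<|a 4<|
 a 0<|a 0<|a 0<|a 0<|a 3<|b);
 (a 3<|a 4<|a 1<|a 0<|a 0<|a 0<|a 4<|b)));
 (let b:=(let b:=(a 1<|a 2<|a 3<|a 0<|a 4<|a 0<|a 0<|b);
 (a 0<|a 0<|a 0<|a 3<|a 2<|a 1<|a 4<|b));
 (let b:=(a 3<|a 0<|a 0<|a 0<|a 0<|a 0<|a 0<|b);
 (c 3<|c 0<|c 0<|c 4<|c 1<|c 4<|b))))))))
/-- keys -/
def kz5 : List ℕ := (beta% delta% lq26f5db1ca5 fun a c d =>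
 (let b:=(let b:=(let b:=(let b:=(let b:=(a 588790<|a 400945<|a 491564<|a 287059<|
 a 232014<|a 127984<|a 1026733<|d);
 (a 874948<|a 1022214<|a 713962<|a 583016<|a 175285<|a 150453<|a 1047968<|b));
 (let b:=(a 486225<|a 686791<|a 590445<|a 830100<|a 289652<|
 a 870626<|a 683713<|b);
 (a 403278<|a 134525<|a 195151<|a 191345<|a 309553<|a 1037859<|a 607894<|b)));
 (let b:=(let b:=(a 653955<|a 18982<|a 448227<|a 466766<|a 544660<|a 965145<|
 a 479792<|b);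
 (a 319010<|a 626255<|a 652582<|a 37590<|a 860709<|a 137526<|a 293461<|b));
 (let b:=(a 617202<|a 767486<|a 279799<|a 1018095<|a 574356<|a 968849<|a 754095<|
 b);
 (a 596290<|
 a 835494<|a 881480<|a 895213<|a 418650<|a 339359<|a 902489<|b))));
 (let b:=(let b:=(let b:=(a 176542<|a 707457<|a 67266<|a 602935<|a 667320<|a 656407<|a 29254<|b);
 (a 941179<|a 107469<|
 a 741946<|a 846117<|a 778112<|a 500402<|a 159621<|b));
 (let b:=(a 335015<|a 1041597<|a 944230<|a 737187<|a 60281<|a 859470<|a 573489<|b);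
 (a 517728<|a 27038<|a 371587<|
 a 554340<|a 364989<|a 843319<|a 425077<|b)));
 (let b:=(let b:=(a 636657<|a 707430<|a 730583<|a 701422<|a 956345<|a 674165<|a 571167<|b);
 (a 179840<|a 883774<|a 89717<|a 454008<|
 a 667966<|a 663506<|a 235028<|b));
 (let b:=(a 394401<|a 394461<|a 440073<|a 655771<|a 210531<|a 480063<|a 106474<|b);
 (a 1030162<|a 709655<|a 1029936<|a 636469<|a 242181<|
 a 144794<|a 652787<|b)))));
 (let b:=(let b:=(let b:=(let b:=(a 236711<|a 317443<|a 196130<|a 482196<|a 874832<|a 231879<|a 494524<|b);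
 (a 273253<|a 185826<|a 850836<|a 159745<|a 319525<|a 265670<|
 a 81522<|b));
 (let b:=(a 128832<|a 679254<|a 423818<|a 669139<|a 225038<|a 957884<|a 17947<|b);
 (a 710025<|a 252773<|a 731397<|a 129503<|a 206820<|a 456114<|a 603590<|
 b)));
 (let b:=(let b:=(a 966727<|
 a 35628<|a 372791<|a 862860<|a 841283<|a 767554<|a 532406<|b);
 (a 924918<|a 856735<|a 909894<|a 245649<|a 16906<|a 640904<|a 832465<|b));
 (let b:=(a 476679<|a 660635<|
 a 743175<|a 683962<|a 141030<|a 326525<|a 386475<|b);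
 (a 543025<|a 168044<|a 183225<|a 479700<|a 850943<|a 604642<|a 857196<|b))));
 (let b:=(let b:=(let b:=(a 953757<|a 786363<|a 105712<|
 a 296918<|a 774192<|a 325711<|a 438594<|b);
 (a 709015<|a 135571<|a 60036<|a 643297<|a 1038345<|a 805463<|a 278426<|b));
 (let b:=(a 876292<|a 246961<|a 634801<|a 942587<|
 a 938583<|a 241342<|a 44778<|b);
 (a 536689<|a 626012<|a 552502<|a 366215<|a 554584<|a 140339<|a 103129<|b)));
 (let b:=(let b:=(a 232609<|a 632011<|a 956828<|a 998906<|a 1010140<|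
 a 293657<|a 874730<|b);
 (a 411819<|a 68022<|a 930681<|a 800530<|a 157576<|a 48295<|a 562065<|b));
 (let b:=(a 989052<|a 867944<|a 239469<|a 932485<|a 666038<|a 279040<|
 a 356573<|b);
 (c 222746<|c 223428<|c 526561<|c 933060<|c 840515<|c 409244<|c 288256<|b)))))))

/-- path -/
def pa6 : List ℕ := [1, 0, 2, 1, 3, 0, 3, 0]
/-- program -/
def pg6 : List ℕ := (beta% delta% lq26f5db1ca5 fun a c d =>
 (let b:=(let b:=(let b:=(let b:=(let b:=(let b:=(a 0<|a 4<|a 1<|a 3<|a 2<|a 1<|a 4<|d);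
 (a 3<|a 0<|a 0<|a 0<|a 0<|a 0<|a 0<|b));
 (let b:=(a 2<|a 0<|a 3<|a 0<|a 4<|
 a 0<|a 0<|b);
 (a 0<|a 0<|a 0<|a 4<|a 1<|a 4<|a 1<|b)));
 (let b:=(let b:=(a 0<|a 0<|a 3<|a 4<|a 1<|a 0<|a 0<|b);
 (a 4<|a 1<|a 3<|a 0<|a 4<|a 1<|a 0<|b));
 (let b:=(a 0<|a 3<|a 2<|a 1<|a 4<|a 0<|a 0<|b);
 (a 3<|a 2<|a 0<|a 4<|
 a 0<|a 0<|a 0<|b))));
 (let b:=(let b:=(let b:=(a 4<|a 3<|a 2<|a 0<|a 0<|a 0<|a 0<|b);
 (a 2<|a 4<|a 0<|a 0<|a 4<|a 0<|a 0<|b));
 (let b:=(a 3<|a 2<|a 0<|a 0<|a 0<|a 0<|a 3<|b);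
 (a 0<|a 4<|a 1<|a 2<|a 3<|a 0<|a 4<|b)));
 (let b:=(let b:=(a 4<|a 0<|a 0<|
 a 4<|a 0<|a 0<|a 0<|b);
 (a 0<|a 4<|a 0<|a 0<|a 4<|a 3<|a 2<|b));
 (let b:=(a 4<|a 1<|a 3<|a 2<|a 1<|a 4<|a 0<|b);
 (a 4<|a 0<|a 0<|a 0<|a 0<|a 0<|a 0<|b)))));
 (let b:=(let b:=(let b:=(let b:=(a 3<|a 4<|a 0<|a 0<|a 4<|a 0<|a 0<|b);
 (a 0<|a 0<|
 a 0<|a 3<|a 4<|a 1<|a 2<|b));
 (let b:=(a 1<|a 3<|a 4<|a 0<|a 0<|a 4<|a 3<|b);
 (a 3<|a 4<|a 0<|a 0<|a 0<|a 0<|a 4<|b)));
 (let b:=(let b:=(a 4<|a 3<|a 4<|a 0<|a 0<|a 0<|a 0<|b);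
 (a 1<|a 3<|a 4<|a 3<|a 0<|a 0<|a 0<|b));
 (let b:=(a 3<|
 a 2<|a 1<|a 2<|a 3<|a 0<|a 4<|b);
 (a 0<|a 0<|a 0<|a 0<|a 0<|a 0<|a 0<|b))));
 (let b:=(let b:=(let b:=(a 0<|a 0<|a 3<|a 2<|a 0<|a 4<|a 0<|b);
 (a 0<|a 0<|a 4<|a 1<|a 3<|a 0<|a 4<|b));
 (let b:=(a 3<|a 4<|a 3<|a 0<|a 0<|a 0<|a 4<|b);
 (a 0<|a 0<|a 0<|a 3<|a 4<|a 1<|a 2<|b)));
 (let b:=(let b:=(a 0<|a 0<|a 0<|a 4<|a 1<|a 0<|a 0<|
 b);
 (a 2<|a 4<|a 1<|a 0<|a 3<|a 4<|a 0<|b));
 (let b:=(a 0<|a 0<|a 0<|a 0<|a 0<|a 4<|a 3<|b);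
 (a 3<|a 4<|a 1<|a 2<|a 0<|a 4<|a 0<|b))))));
 (let b:=(let b:=(let b:=(let b:=(let b:=(a 2<|a 0<|a 4<|a 0<|a 0<|a 0<|a 0<|b);
 (a 0<|a 3<|a 0<|a 0<|a 0<|a 4<|
 a 3<|b));
 (let b:=(a 0<|a 0<|a 0<|a 0<|a 3<|a 4<|a 1<|b);
 (a 0<|a 0<|a 4<|a 3<|a 2<|a 0<|a 4<|b)));
 (let b:=(let b:=(a 2<|a 3<|a 4<|a 3<|a 4<|a 0<|a 0<|b);
 (a 0<|a 0<|a 0<|a 0<|a 3<|a 4<|a 1<|b));
 (let b:=(a 2<|a 4<|a 3<|a 0<|a 0<|
 a 0<|a 4<|b);
 (a 4<|a 0<|a 0<|a 0<|a 0<|a 4<|a 3<|b))));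
 (let b:=(let b:=(let b:=(a 3<|a 2<|a 4<|a 3<|a 0<|a 0<|a 0<|b);
 (a 3<|a 4<|a 0<|a 0<|a 0<|a 3<|a 4<|b));
 (let b:=(a 0<|a 0<|a 0<|a 4<|a 1<|a 2<|a 1<|b);
 (a 0<|a 0<|a 3<|a 0<|
 a 0<|a 0<|a 0<|b)));
 (let b:=(let b:=(a 0<|a 4<|a 0<|a 0<|a 4<|a 1<|a 2<|b);
 (a 0<|a 4<|a 1<|a 2<|a 3<|a 4<|a 0<|b));
 (let b:=(a 2<|a 1<|a 4<|a 0<|a 0<|a 4<|a 0<|b);
 (a 1<|a 0<|a 0<|a 0<|a 0<|a 0<|a 3<|b)))));
 (let b:=(let b:=(let b:=(let b:=(a 0<|a 0<|a 0<|
 a 3<|a 2<|a 0<|a 4<|b);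
 (a 4<|a 0<|a 0<|a 3<|a 0<|a 4<|a 3<|b));
 (let b:=(a 0<|a 0<|a 4<|a 1<|a 2<|a 3<|a 0<|b);
 (a 0<|a 3<|a 4<|a 1<|a 0<|a 0<|a 0<|b)));
 (let b:=(let b:=(a 1<|a 4<|a 1<|a 0<|a 3<|a 0<|a 0<|b);
 (a 1<|a 4<|
 a 0<|a 0<|a 0<|a 0<|a 4<|b));
 (let b:=(a 4<|a 1<|a 3<|a 2<|a 1<|a 0<|a 4<|b);
 (a 0<|a 0<|a 0<|a 0<|a 0<|a 0<|a 0<|b))));
 (let b:=(let b:=(let b:=(a 1<|a 3<|a 0<|a 4<|a 0<|a 0<|a 3<|b);
 (a 3<|a 0<|a 0<|a 0<|a 4<|a 1<|a 4<|b));
 (let b:=(a 3<|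
 a 4<|a 0<|a 0<|a 4<|a 0<|a 0<|b);
 (a 0<|a 3<|a 0<|a 0<|a 0<|a 4<|a 1<|b)));
 (let b:=(let b:=(a 3<|a 2<|a 1<|a 4<|a 1<|a 4<|a 0<|b);
 (a 0<|a 0<|a 4<|a 0<|a 0<|a 0<|a 0<|b));
 (let b:=(a 0<|a 0<|a 0<|a 0<|a 3<|a 2<|a 4<|b);
 (c 3<|c 0<|c 4<|c 3<|c 2<|c 0<|c 4<|b))))))))
/-- keys -/
def kz6 : List ℕ := (beta% delta% lq26f5db1ca5 fun a c d =>
 (let b:=(let b:=(let b:=(let b:=(let b:=(a 282404<|a 964157<|a 374503<|a 884975<|
 a 527164<|a 55394<|a 287264<|d);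
 (a 364380<|a 180042<|a 1010798<|a 804249<|a 702059<|a 1013441<|a 480344<|b));
 (let b:=(a 590597<|a 51761<|a 582292<|a 673200<|a 583857<|
 a 784925<|a 1028041<|b);
 (a 209516<|a 712922<|a 873373<|a 316137<|a 727262<|a 276861<|a 734647<|b)));
 (let b:=(let b:=(a 824122<|a 565555<|a 268541<|a 859234<|a 39371<|a 779281<|
 a 615608<|b);
 (a 851142<|a 559008<|a 989156<|a 1962<|a 311669<|a 550416<|a 311339<|b));
 (let b:=(a 960013<|a 498908<|a 63584<|a 941041<|a 548046<|a 346926<|a 204049<|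
 b);
 (a 824798<|
 a 937757<|a 366929<|a 1047494<|a 690485<|a 843910<|a 1018614<|b))));
 (let b:=(let b:=(let b:=(a 979073<|a 520106<|a 298701<|a 934183<|a 1028206<|a 100724<|a 536813<|b);
 (a 271948<|a 125417<|
 a 514788<|a 762149<|a 796837<|a 820365<|a 532645<|b));
 (let b:=(a 729959<|a 567128<|a 404447<|a 356503<|a 759780<|a 309258<|a 342839<|b);
 (a 796468<|a 315046<|a 245053<|
 a 153960<|a 115739<|a 973581<|a 783394<|b)));
 (let b:=(let b:=(a 988807<|a 968727<|a 451210<|a 412716<|a 481019<|a 406918<|a 462570<|b);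
 (a 240759<|a 651760<|a 494723<|a 771858<|
 a 848739<|a 349935<|a 833485<|b));
 (let b:=(a 778013<|a 688827<|a 270154<|a 640174<|a 799674<|a 540979<|a 159842<|b);
 (a 369266<|a 128831<|a 926208<|a 217717<|a 869090<|
 a 281858<|a 598435<|b)))));
 (let b:=(let b:=(let b:=(let b:=(a 537940<|a 778151<|a 98180<|a 175303<|a 912174<|a 818846<|a 375153<|b);
 (a 900557<|a 515586<|a 401633<|a 839591<|a 952255<|a 560120<|
 a 706849<|b));
 (let b:=(a 461997<|a 17599<|a 57996<|a 324577<|a 750561<|a 281632<|a 592049<|b);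
 (a 43019<|a 609364<|a 845711<|a 519398<|a 203513<|a 158059<|a 381144<|
 b)));
 (let b:=(let b:=(a 34377<|
 a 419920<|a 588873<|a 231136<|a 692467<|a 1013867<|a 689509<|b);
 (a 825047<|a 1043193<|a 511872<|a 408463<|a 224243<|a 81754<|a 100799<|b));
 (let b:=(a 556317<|a 920581<|
 a 224318<|a 667673<|a 313277<|a 842876<|a 793899<|b);
 (a 122157<|a 54392<|a 193766<|a 460544<|a 906827<|a 244560<|a 673052<|b))));
 (let b:=(let b:=(let b:=(a 998424<|a 728787<|a 228298<|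
 a 367527<|a 897185<|a 92951<|a 686132<|b);
 (a 891149<|a 146664<|a 939100<|a 525691<|a 731866<|a 1015226<|a 58028<|b));
 (let b:=(a 516857<|a 363385<|a 949580<|a 820606<|
 a 413382<|a 735224<|a 322337<|b);
 (a 978121<|a 143983<|a 257679<|a 158257<|a 815709<|a 945750<|a 769010<|b)));
 (let b:=(let b:=(a 139593<|a 79358<|a 818119<|a 994489<|a 539508<|
 a 705287<|a 569397<|b);
 (a 338025<|a 727855<|a 1014502<|a 418239<|a 3895<|a 950450<|a 143092<|b));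
 (let b:=(a 431055<|a 1047838<|a 201559<|a 646440<|a 293656<|a 934313<|
 a 380386<|b);
 (c 606944<|c 555907<|c 224518<|c 688100<|c 1027822<|c 489890<|c 60891<|b)))))))

/-- path -/
def pa7 : List ℕ := [1, 2, 3, 0, 2, 1]
/-- program -/
def pg7 : List ℕ := (beta% delta% lq26f5db1ca5 fun a c d =>
 (let b:=(let b:=(let b:=(let b:=(let b:=(let b:=(a 3<|a 0<|a 0<|a 0<|a 4<|a 1<|a 4<|d);
 (a 0<|a 3<|
 a 2<|a 1<|a 4<|a 1<|a 0<|b));
 (let b:=(a 2<|a 0<|a 0<|a 0<|a 0<|a 4<|a 0<|b);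
 (a 1<|a 2<|a 0<|a 4<|a 0<|a 0<|a 3<|b)));
 (let b:=(let b:=(a 1<|a 0<|a 3<|a 0<|a 0<|a 0<|a 4<|b);
 (a 3<|a 2<|a 1<|a 4<|a 0<|a 0<|a 4<|b));
 (let b:=(a 0<|
 a 3<|a 4<|a 0<|a 0<|a 0<|a 0<|b);
 (a 0<|a 0<|a 0<|a 4<|a 1<|a 3<|a 0<|b))));
 (let b:=(let b:=(let b:=(a 4<|a 0<|a 0<|a 4<|a 3<|a 4<|a 0<|b);
 (a 0<|a 0<|a 4<|a 1<|a 2<|a 3<|a 2<|b));
 (let b:=(a 0<|a 0<|a 4<|a 0<|a 0<|a 0<|a 0<|b);
 (a 0<|a 0<|a 0<|a 4<|a 1<|a 2<|a 4<|b)));
 (let b:=(let b:=(a 2<|a 4<|a 1<|a 3<|a 0<|a 0<|a 3<|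
 b);
 (a 0<|a 0<|a 0<|a 4<|a 0<|a 0<|a 3<|b));
 (let b:=(a 0<|a 0<|a 4<|a 1<|a 2<|a 4<|a 3<|b);
 (a 4<|a 0<|a 0<|a 4<|a 0<|a 0<|b)))));
 (let b:=(let b:=(let b:=(let b:=(a 0<|a 3<|a 2<|a 1<|a 4<|a 1<|a 2<|b);
 (a 0<|a 4<|a 0<|a 0<|a 0<|
 a 0<|a 0<|b));
 (let b:=(a 0<|a 0<|a 4<|a 1<|a 2<|a 3<|a 0<|b);
 (a 3<|a 2<|a 0<|a 0<|a 0<|a 3<|a 0<|b)));
 (let b:=(let b:=(a 0<|a 0<|a 0<|a 3<|a 2<|a 4<|a 1<|b);
 (a 0<|a 4<|a 3<|a 2<|a 0<|a 4<|a 0<|b));
 (let b:=(a 0<|a 0<|a 0<|a 4<|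
 a 3<|a 0<|a 0<|b);
 (a 0<|a 0<|a 0<|a 3<|a 2<|a 4<|a 3<|b))));
 (let b:=(let b:=(let b:=(a 2<|a 0<|a 0<|a 4<|a 3<|a 2<|a 0<|b);
 (a 0<|a 0<|a 0<|a 4<|a 1<|a 2<|a 3<|b));
 (let b:=(a 0<|a 0<|a 0<|a 4<|a 1<|a 0<|a 0<|b);
 (a 4<|a 0<|a 0<|
 a 4<|a 1<|a 0<|a 3<|b)));
 (let b:=(let b:=(a 0<|a 0<|a 0<|a 4<|a 3<|a 2<|a 1<|b);
 (a 3<|a 2<|a 4<|a 0<|a 0<|a 4<|a 0<|b));
 (let b:=(a 1<|a 4<|a 3<|a 0<|a 0<|a 0<|a 4<|b);
 (a 4<|a 0<|a 0<|a 0<|a 3<|a 2<|b))))));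
 (let b:=(let b:=(let b:=(let b:=(let b:=(a 4<|
 a 3<|a 4<|a 0<|a 0<|a 0<|a 0<|b);
 (a 4<|a 3<|a 4<|a 0<|a 0<|a 0<|a 0<|b));
 (let b:=(a 4<|a 1<|a 2<|a 1<|a 3<|a 2<|a 1<|b);
 (a 0<|a 0<|a 0<|a 0<|a 0<|a 0<|a 0<|b)));
 (let b:=(let b:=(a 0<|a 0<|a 3<|a 2<|a 0<|a 4<|a 0<|b);
 (a 0<|a 4<|a 1<|a 0<|a 0<|a 0<|a 4<|b));
 (let b:=(a 0<|a 4<|a 1<|a 2<|a 0<|a 3<|a 2<|
 b);
 (a 3<|a 2<|a 0<|a 4<|a 0<|a 0<|a 0<|b))));
 (let b:=(let b:=(let b:=(a 3<|a 0<|a 0<|a 0<|a 4<|a 1<|a 0<|b);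
 (a 0<|a 0<|a 4<|a 1<|a 2<|a 3<|a 4<|b));
 (let b:=(a 2<|a 0<|a 4<|a 0<|a 0<|a 0<|a 0<|b);
 (a 0<|a 0<|a 0<|a 0<|a 3<|a 4<|
 a 1<|b)));
 (let b:=(let b:=(a 2<|a 0<|a 3<|a 0<|a 0<|a 3<|a 2<|b);
 (a 4<|a 1<|a 0<|a 0<|a 0<|a 4<|a 1<|b));
 (let b:=(a 0<|a 0<|a 3<|a 0<|a 0<|a 0<|a 3<|b);
 (a 4<|a 1<|a 2<|a 4<|a 1<|a 2<|b)))));
 (let b:=(let b:=(let b:=(let b:=(a 0<|a 3<|a 4<|a 0<|
 a 0<|a 0<|a 0<|b);
 (a 3<|a 2<|a 1<|a 4<|a 1<|a 4<|a 0<|b));
 (let b:=(a 4<|a 1<|a 0<|a 0<|a 0<|a 0<|a 0<|b);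
 (a 3<|a 2<|a 4<|a 3<|a 0<|a 0<|a 0<|b)));
 (let b:=(let b:=(a 4<|a 1<|a 0<|a 0<|a 0<|a 0<|a 0<|b);
 (a 0<|a 4<|a 3<|
 a 2<|a 4<|a 0<|a 0<|b));
 (let b:=(a 3<|a 2<|a 0<|a 4<|a 3<|a 0<|a 0<|b);
 (a 4<|a 3<|a 2<|a 0<|a 0<|a 0<|a 0<|b))));
 (let b:=(let b:=(let b:=(a 2<|a 3<|a 2<|a 0<|a 4<|a 0<|a 0<|b);
 (a 0<|a 0<|a 0<|a 0<|a 0<|a 4<|a 1<|b));
 (let b:=(a 0<|a 0<|
 a 4<|a 0<|a 0<|a 4<|a 1<|b);
 (a 0<|a 0<|a 0<|a 3<|a 2<|a 1<|a 4<|b)));
 (let b:=(let b:=(a 4<|a 0<|a 0<|a 4<|a 1<|a 0<|a 3<|b);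
 (a 0<|a 0<|a 0<|a 0<|a 4<|a 1<|a 3<|b));
 (let b:=(a 0<|a 3<|a 2<|a 4<|a 0<|a 0<|a 4<|b);
 (c 4<|c 1<|c 4<|c 1<|c 0<|c 0<|b))))))))
/-- keys -/
def kz7 : List ℕ := (beta% delta% lq26f5db1ca5 fun a c d =>
 (let b:=(let b:=(let b:=(let b:=(let b:=(a 205661<|a 149390<|a 717945<|a 174465<|a 395135<|a 124876<|
 a 802235<|d);
 (a 995260<|a 344447<|a 736308<|a 673574<|a 258799<|a 317989<|a 621099<|b));
 (let b:=(a 503492<|a 230207<|a 330019<|a 509988<|a 595723<|a 744033<|a 1011095<|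
 b);
 (a 313161<|
 a 169285<|a 350716<|a 617431<|a 432373<|a 526915<|a 1014959<|b)));
 (let b:=(let b:=(a 817246<|a 361828<|a 800111<|a 319095<|a 584976<|a 114705<|a 417689<|b);
 (a 661921<|a 629444<|
 a 103145<|a 863600<|a 910911<|a 796643<|a 119841<|b));
 (let b:=(a 594506<|a 232866<|a 752762<|a 487317<|a 90499<|a 71912<|a 941180<|b);
 (a 301821<|a 699552<|a 875566<|
 a 125457<|a 530455<|a 267084<|a 784316<|b))));
 (let b:=(let b:=(let b:=(a 1037520<|a 780739<|a 979886<|a 343583<|a 239949<|a 343813<|a 403102<|b);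
 (a 299737<|a 556873<|a 428562<|a 382661<|
 a 852565<|a 998811<|a 567432<|b));
 (let b:=(a 972276<|a 309766<|a 890058<|a 689968<|a 40298<|a 374145<|a 835057<|b);
 (a 513958<|a 869660<|a 799705<|a 457221<|a 576442<|
 a 393032<|a 576389<|b)));
 (let b:=(let b:=(a 400633<|a 130926<|a 57524<|a 859425<|a 338077<|a 335329<|a 942753<|b);
 (a 544523<|a 407074<|a 766389<|a 335581<|a 125746<|a 85424<|
 a 684397<|b));
 (let b:=(a 691414<|a 823104<|a 666527<|a 1023738<|a 1018543<|a 615123<|a 52683<|b);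
 (a 774243<|a 809256<|a 966336<|a 817642<|a 624067<|a 279250<|a 184288<|
 b)))));
 (let b:=(let b:=(let b:=(let b:=(a 461378<|
 a 302635<|a 265305<|a 745815<|a 446385<|a 294261<|a 269402<|b);
 (a 1023357<|a 365312<|a 450577<|a 235820<|a 953228<|a 431904<|a 636472<|b));
 (let b:=(a 202200<|a 340899<|
 a 542373<|a 949884<|a 160733<|a 248170<|a 575893<|b);
 (a 546748<|a 721979<|a 561554<|a 900908<|a 76831<|a 759871<|a 454908<|b)));
 (let b:=(let b:=(a 230506<|a 182682<|a 755999<|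
 a 996722<|a 136331<|a 217119<|a 841386<|b);
 (a 32667<|a 296428<|a 755170<|a 686688<|a 27496<|a 52634<|a 982433<|b));
 (let b:=(a 763398<|a 756796<|a 455757<|
 a 283542<|a 784541<|a 4102<|a 704547<|b);
 (a 999214<|a 557165<|a 675701<|a 1048090<|a 849270<|a 989731<|a 592133<|b))));
 (let b:=(let b:=(let b:=(a 78440<|a 666377<|a 797639<|a 1043711<|
 a 788953<|a 1013208<|a 778904<|b);
 (a 158474<|a 806753<|a 224858<|a 255084<|a 495516<|a 83151<|a 530276<|b));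
 (let b:=(a 183435<|a 859485<|a 144231<|a 671718<|a 596110<|
 a 642091<|a 476289<|b);
 (a 538643<|a 15265<|a 985995<|a 856063<|a 665009<|a 189204<|a 184584<|b)));
 (let b:=(let b:=(a 733287<|a 231226<|a 755968<|a 1026857<|a 971945<|a 964310<|
 a 76338<|b);
 (a 1029474<|a 442416<|a 222748<|a 652527<|a 837260<|a 673985<|a 559932<|b));
 (let b:=(a 735754<|a 331415<|a 13630<|a 292380<|a 665000<|a 583137<|a 857472<|
 b);
 (c 318932<|c 34168<|c 831995<|c 353942<|c 423317<|c 400190<|c 47508<|b)))))))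

/-- path -/
def pa8 : List ℕ := [1, 3, 0, 2, 3, 2, 1, 3, 0, 3]
/-- program -/
def pg8 : List ℕ := (beta% delta% lq26f5db1ca5 fun a c d =>
 (let b:=(let b:=(let b:=(let b:=(let b:=(let b:=(a 4<|a 0<|a 0<|a 3<|a 2<|a 4<|a 3<|d);
 (a 0<|a 4<|a 1<|a 3<|a 4<|a 0<|a 0<|b));
 (let b:=(a 2<|a 1<|a 4<|a 0<|a 0<|
 a 4<|a 0<|b);
 (a 0<|a 4<|a 0<|a 0<|a 0<|a 0<|a 3<|b)));
 (let b:=(let b:=(a 4<|a 3<|a 0<|a 0<|a 0<|a 3<|a 2<|b);
 (a 2<|a 4<|a 0<|a 0<|a 4<|a 0<|a 0<|b));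
 (let b:=(a 2<|a 4<|a 3<|a 0<|a 0<|a 0<|a 3<|b);
 (a 4<|a 0<|a 0<|a 0<|
 a 0<|a 4<|a 1<|b))));
 (let b:=(let b:=(let b:=(a 0<|a 4<|a 3<|a 2<|a 4<|a 0<|a 0<|b);
 (a 2<|a 1<|a 4<|a 0<|a 0<|a 4<|a 0<|b));
 (let b:=(a 0<|a 0<|a 0<|a 4<|a 1<|a 2<|a 3<|b);
 (a 1<|a 0<|a 3<|a 0<|a 0<|a 0<|a 0<|b)));
 (let b:=(let b:=(a 4<|a 0<|a 0<|
 a 4<|a 0<|a 0<|a 4<|b);
 (a 0<|a 0<|a 3<|a 4<|a 1<|a 2<|a 3<|b));
 (let b:=(a 4<|a 3<|a 2<|a 0<|a 4<|a 0<|a 0<|b);
 (a 4<|a 3<|a 0<|a 0<|a 0<|a 0<|a 0<|b)))));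
 (let b:=(let b:=(let b:=(let b:=(a 3<|a 0<|a 0<|a 0<|a 3<|a 4<|a 1<|b);
 (a 1<|a 2<|
 a 3<|a 4<|a 0<|a 0<|a 4<|b));
 (let b:=(a 3<|a 4<|a 0<|a 0<|a 0<|a 0<|a 4<|b);
 (a 2<|a 0<|a 4<|a 0<|a 0<|a 0<|a 0<|b)));
 (let b:=(let b:=(a 0<|a 3<|a 0<|a 0<|a 0<|a 4<|a 3<|b);
 (a 3<|a 4<|a 1<|a 3<|a 0<|a 4<|a 0<|b));
 (let b:=(a 4<|
 a 3<|a 4<|a 0<|a 0<|a 0<|a 0<|b);
 (a 4<|a 3<|a 4<|a 0<|a 0<|a 0<|a 0<|b))));
 (let b:=(let b:=(let b:=(a 2<|a 3<|a 0<|a 4<|a 1<|a 2<|a 3<|b);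
 (a 0<|a 0<|a 0<|a 0<|a 3<|a 2<|a 1<|b));
 (let b:=(a 0<|a 0<|a 4<|a 0<|a 0<|a 0<|a 0<|b);
 (a 0<|a 0<|a 0<|a 0<|a 3<|a 2<|a 4<|b)));
 (let b:=(let b:=(a 3<|a 4<|a 0<|a 0<|a 4<|a 3<|a 2<|
 b);
 (a 1<|a 2<|a 4<|a 3<|a 0<|a 0<|a 0<|b));
 (let b:=(a 3<|a 4<|a 0<|a 0<|a 0<|a 0<|a 4<|b);
 (a 4<|a 1<|a 2<|a 0<|a 4<|a 0<|a 0<|b))))));
 (let b:=(let b:=(let b:=(let b:=(let b:=(a 2<|a 0<|a 4<|a 0<|a 0<|a 0<|a 0<|b);
 (a 0<|a 4<|a 1<|a 2<|a 3<|a 4<|
 a 3<|b));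
 (let b:=(a 1<|a 0<|a 0<|a 0<|a 0<|a 0<|a 0<|b);
 (a 4<|a 1<|a 2<|a 3<|a 0<|a 0<|a 4<|b)));
 (let b:=(let b:=(a 3<|a 4<|a 0<|a 0<|a 0<|a 0<|a 3<|b);
 (a 0<|a 0<|a 4<|a 1<|a 4<|a 0<|a 0<|b));
 (let b:=(a 4<|a 0<|a 0<|a 3<|a 2<|
 a 0<|a 0<|b);
 (a 4<|a 0<|a 0<|a 4<|a 1<|a 3<|a 0<|b))));
 (let b:=(let b:=(let b:=(a 0<|a 3<|a 2<|a 1<|a 4<|a 0<|a 0<|b);
 (a 2<|a 4<|a 1<|a 2<|a 0<|a 0<|a 0<|b));
 (let b:=(a 0<|a 0<|a 0<|a 0<|a 0<|a 4<|a 1<|b);
 (a 0<|a 0<|a 3<|a 4<|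
 a 1<|a 2<|a 0<|b)));
 (let b:=(let b:=(a 3<|a 4<|a 1<|a 0<|a 0<|a 0<|a 4<|b);
 (a 3<|a 2<|a 1<|a 4<|a 1<|a 2<|a 0<|b));
 (let b:=(a 4<|a 1<|a 0<|a 0<|a 0<|a 0<|a 0<|b);
 (a 0<|a 3<|a 4<|a 0<|a 0<|a 0<|a 0<|b)))));
 (let b:=(let b:=(let b:=(let b:=(a 4<|a 0<|a 0<|
 a 4<|a 1<|a 0<|a 0<|b);
 (a 4<|a 1<|a 2<|a 0<|a 3<|a 2<|a 0<|b));
 (let b:=(a 0<|a 0<|a 0<|a 0<|a 0<|a 3<|a 2<|b);
 (a 4<|a 3<|a 0<|a 0<|a 0<|a 4<|a 1<|b)));
 (let b:=(let b:=(a 0<|a 0<|a 0<|a 0<|a 4<|a 3<|a 2<|b);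
 (a 0<|a 3<|
 a 2<|a 0<|a 4<|a 1<|a 0<|b));
 (let b:=(a 2<|a 0<|a 4<|a 0<|a 0<|a 4<|a 0<|b);
 (a 4<|a 1<|a 2<|a 3<|a 0<|a 0<|a 3<|b))));
 (let b:=(let b:=(let b:=(a 3<|a 2<|a 4<|a 3<|a 0<|a 0<|a 0<|b);
 (a 0<|a 0<|a 4<|a 0<|a 0<|a 0<|a 0<|b));
 (let b:=(a 0<|
 a 0<|a 0<|a 4<|a 3<|a 2<|a 4<|b);
 (a 0<|a 4<|a 3<|a 2<|a 0<|a 4<|a 0<|b)));
 (let b:=(let b:=(a 4<|a 1<|a 2<|a 3<|a 2<|a 4<|a 0<|b);
 (a 4<|a 0<|a 0<|a 0<|a 0<|a 0<|a 0<|b));
 (let b:=(a 0<|a 4<|a 1<|a 2<|a 4<|a 0<|a 0<|b);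
 (c 3<|c 0<|c 0<|c 0<|c 3<|c 0<|c 0<|b))))))))
/-- keys -/
def kz8 : List ℕ := (beta% delta% lq26f5db1ca5 fun a c d =>
 (let b:=(let b:=(let b:=(let b:=(let b:=(a 49626<|a 1023621<|a 411659<|a 785041<|a 654415<|
 a 98827<|a 732565<|d);
 (a 720231<|a 795687<|a 89053<|a 1039549<|a 267738<|a 966024<|a 516106<|b));
 (let b:=(a 780982<|a 240679<|a 900620<|a 100907<|a 735938<|a 329829<|
 a 479461<|b);
 (a 766848<|a 479538<|a 1042856<|a 464555<|a 288442<|a 2633<|a 402945<|b)));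
 (let b:=(let b:=(a 381025<|a 556566<|a 301873<|a 543241<|a 910181<|a 436425<|a 361174<|
 b);
 (a 850646<|
 a 17696<|a 213805<|a 307582<|a 251066<|a 1025516<|a 57588<|b));
 (let b:=(a 710367<|a 62817<|a 213263<|a 550734<|a 515231<|a 742421<|a 516627<|b);
 (a 331496<|a 33360<|
 a 870900<|a 254712<|a 440579<|a 461311<|a 624616<|b))));
 (let b:=(let b:=(let b:=(a 622116<|a 744571<|a 518043<|a 888436<|a 147254<|a 1029331<|a 609524<|b);
 (a 403085<|a 528680<|a 833112<|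
 a 350571<|a 529229<|a 410124<|a 31549<|b));
 (let b:=(a 815784<|a 1012389<|a 765721<|a 845108<|a 93748<|a 272445<|a 875512<|b);
 (a 499546<|a 369017<|a 421958<|a 917575<|
 a 489668<|a 799733<|a 950661<|b)));
 (let b:=(let b:=(a 709632<|a 915<|a 730508<|a 244563<|a 468792<|a 533119<|a 652956<|b);
 (a 617568<|a 496926<|a 572469<|a 562058<|a 32543<|
 a 485390<|a 324103<|b));
 (let b:=(a 842429<|a 164870<|a 869572<|a 428930<|a 801154<|a 68840<|a 699961<|b);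
 (a 504992<|a 128616<|a 271135<|a 269276<|a 1007902<|a 740851<|
 a 398250<|b)))));
 (let b:=(let b:=(let b:=(let b:=(a 603665<|a 517124<|a 11446<|a 220526<|a 75990<|a 108410<|a 272375<|b);
 (a 890686<|a 596705<|a 354243<|a 723885<|a 705135<|a 603249<|a 309002<|
 b));
 (let b:=(a 630186<|
 a 756748<|a 751939<|a 907697<|a 44309<|a 960927<|a 100273<|b);
 (a 430382<|a 893552<|a 201649<|a 453897<|a 210360<|a 819230<|a 925111<|b)));
 (let b:=(let b:=(a 710266<|a 401812<|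
 a 467634<|a 228974<|a 256934<|a 595417<|a 388387<|b);
 (a 459777<|a 606471<|a 896364<|a 831714<|a 968889<|a 69267<|a 338973<|b));
 (let b:=(a 406877<|a 945900<|a 73223<|
 a 279440<|a 977234<|a 851371<|a 1000828<|b);
 (a 1036792<|a 174529<|a 1002928<|a 56646<|a 1648<|a 307137<|a 551535<|b))));
 (let b:=(let b:=(let b:=(a 621324<|a 988207<|a 241473<|a 970830<|
 a 803248<|a 57672<|a 511000<|b);
 (a 93524<|a 199378<|a 371051<|a 893110<|a 180057<|a 846389<|a 253309<|b));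
 (let b:=(a 843326<|a 180646<|a 344507<|a 763368<|a 702792<|
 a 338042<|a 150817<|b);
 (a 70900<|a 999681<|a 664273<|a 1013489<|a 455539<|a 421789<|a 599824<|b)));
 (let b:=(let b:=(a 336881<|a 72371<|a 634985<|a 813852<|a 741158<|a 746245<|
 a 148227<|b);
 (a 876462<|a 475380<|a 207542<|a 508053<|a 609514<|a 324775<|a 749917<|b));
 (let b:=(a 837654<|a 747332<|a 184050<|a 798884<|a 104061<|a 551832<|a 121350<|
 b);
 (c 10789<|c 28012<|c 710429<|c 558130<|c 37851<|c 704307<|c 720152<|b)))))))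

/-- path -/
def pa9 : List ℕ := [2, 1, 3, 0, 2, 3, 2]
/-- program -/
def pg9 : List ℕ := (beta% delta% lq26f5db1ca5 fun a c d =>
 (let b:=(let b:=(let b:=(let b:=(let b:=(let b:=(let b:=(a 3<|a 2<|a 1<|a 4<|d);
 (a 0<|a 0<|a 0<|a 0<|b));
 (a 0<|a 0<|a 4<|a 1<|a 0<|a 0<|a 0<|b));
 (let b:=(a 0<|a 0<|a 0<|a 4<|a 1<|
 a 2<|a 3<|b);
 (a 2<|a 0<|a 0<|a 0<|a 3<|a 4<|a 0<|b)));
 (let b:=(let b:=(a 0<|a 0<|a 3<|a 2<|a 4<|a 1<|a 3<|b);
 (a 4<|a 1<|a 4<|a 0<|a 0<|a 0<|a 0<|b));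
 (let b:=(a 0<|a 4<|a 3<|a 2<|a 4<|a 0<|a 0<|b);
 (a 3<|a 2<|a 0<|a 4<|
 a 0<|a 0<|a 0<|b))));
 (let b:=(let b:=(let b:=(a 3<|a 2<|a 0<|a 4<|a 0<|a 0<|a 0<|b);
 (a 0<|a 4<|a 1<|a 2<|a 3<|a 0<|a 0<|b));
 (let b:=(a 4<|a 0<|a 0<|a 0<|a 0<|a 3<|a 2<|b);
 (a 0<|a 0<|a 0<|a 4<|a 3<|a 2<|a 0<|b)));
 (let b:=(let b:=(a 1<|a 2<|a 3<|
 a 2<|a 0<|a 4<|a 3<|b);
 (a 0<|a 0<|a 0<|a 0<|a 0<|a 0<|a 4<|b));
 (let b:=(a 0<|a 0<|a 4<|a 1<|a 2<|a 0<|a 4<|b);
 (a 4<|a 1<|a 4<|a 0<|a 0<|a 3<|a 0<|b)))));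
 (let b:=(let b:=(let b:=(let b:=(a 4<|a 1<|a 0<|a 3<|a 0<|a 0<|a 0<|b);
 (a 0<|a 0<|
 a 0<|a 0<|a 3<|a 2<|a 1<|b));
 (let b:=(a 0<|a 0<|a 0<|a 3<|a 2<|a 0<|a 4<|b);
 (a 0<|a 4<|a 1<|a 2<|a 0<|a 4<|a 3<|b)));
 (let b:=(let b:=(a 3<|a 2<|a 4<|a 0<|a 0<|a 4<|a 0<|b);
 (a 4<|a 0<|a 0<|a 3<|a 0<|a 0<|a 0<|b));
 (let b:=(a 2<|
 a 4<|a 1<|a 2<|a 0<|a 3<|a 0<|b);
 (a 0<|a 0<|a 0<|a 0<|a 0<|a 4<|a 1<|b))));
 (let b:=(let b:=(let b:=(a 0<|a 0<|a 0<|a 4<|a 1<|a 4<|a 0<|b);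
 (a 0<|a 0<|a 0<|a 3<|a 2<|a 4<|a 1<|b));
 (let b:=(a 0<|a 3<|a 0<|a 4<|a 1<|a 4<|a 0<|b);
 (a 4<|a 1<|a 2<|a 3<|a 0<|a 4<|a 0<|b)));
 (let b:=(let b:=(a 0<|a 3<|a 2<|a 1<|a 4<|a 0<|a 0<|
 b);
 (a 0<|a 4<|a 1<|a 0<|a 0<|a 0<|a 0<|b));
 (let b:=(a 0<|a 3<|a 2<|a 4<|a 3<|a 0<|a 0<|b);
 (a 0<|a 4<|a 1<|a 0<|a 0<|a 0<|a 0<|b))))));
 (let b:=(let b:=(let b:=(let b:=(let b:=(a 0<|a 0<|a 0<|a 0<|a 4<|a 3<|a 2<|b);
 (a 4<|a 3<|a 2<|a 0<|a 4<|a 1<|
 a 0<|b));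
 (let b:=(a 3<|a 0<|a 0<|a 0<|a 3<|a 2<|a 0<|b);
 (a 3<|a 2<|a 0<|a 4<|a 0<|a 0<|a 4<|b)));
 (let b:=(let b:=(a 0<|a 0<|a 0<|a 0<|a 4<|a 1<|a 2<|b);
 (a 0<|a 0<|a 4<|a 1<|a 4<|a 0<|a 0<|b));
 (let b:=(a 0<|a 0<|a 0<|a 4<|a 3<|
 a 2<|a 4<|b);
 (a 4<|a 0<|a 0<|a 4<|a 3<|a 4<|a 0<|b))));
 (let b:=(let b:=(let b:=(a 0<|a 4<|a 1<|a 2<|a 3<|a 2<|a 1<|b);
 (a 0<|a 0<|a 0<|a 0<|a 0<|a 0<|a 0<|b));
 (let b:=(a 4<|a 0<|a 0<|a 3<|a 2<|a 0<|a 4<|b);
 (a 1<|a 2<|a 4<|a 0<|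
 a 0<|a 3<|a 0<|b)));
 (let b:=(let b:=(a 3<|a 4<|a 0<|a 0<|a 0<|a 0<|a 4<|b);
 (a 0<|a 0<|a 0<|a 0<|a 4<|a 1<|a 0<|b));
 (let b:=(a 2<|a 3<|a 4<|a 3<|a 2<|a 0<|a 4<|b);
 (a 0<|a 0<|a 0<|a 0<|a 0<|a 4<|a 1<|b)))));
 (let b:=(let b:=(let b:=(let b:=(a 3<|a 4<|a 1<|
 a 2<|a 0<|a 4<|a 0<|b);
 (a 4<|a 1<|a 0<|a 3<|a 0<|a 0<|a 0<|b));
 (let b:=(a 4<|a 1<|a 4<|a 0<|a 0<|a 0<|a 0<|b);
 (a 3<|a 2<|a 1<|a 0<|a 4<|a 0<|a 0<|b)));
 (let b:=(let b:=(a 0<|a 4<|a 1<|a 2<|a 4<|a 0<|a 0<|b);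
 (a 0<|a 0<|
 a 3<|a 4<|a 0<|a 0<|a 0<|b));
 (let b:=(a 0<|a 3<|a 2<|a 1<|a 4<|a 1<|a 4<|b);
 (a 0<|a 0<|a 0<|a 4<|a 0<|a 0<|a 0<|b))));
 (let b:=(let b:=(let b:=(a 0<|a 3<|a 2<|a 4<|a 3<|a 4<|a 0<|b);
 (a 0<|a 4<|a 1<|a 0<|a 0<|a 0<|a 0<|b));
 (let b:=(a 0<|
 a 0<|a 4<|a 3<|a 2<|a 4<|a 0<|b);
 (a 4<|a 1<|a 3<|a 0<|a 0<|a 3<|a 0<|b)));
 (let b:=(let b:=(a 3<|a 2<|a 4<|a 3<|a 0<|a 0<|a 0<|b);
 (a 0<|a 0<|a 4<|a 0<|a 0<|a 0<|a 0<|b));
 (let b:=(a 2<|a 3<|a 0<|a 4<|a 3<|a 2<|a 4<|b);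
 (c 4<|c 0<|c 0<|c 0<|c 0<|c 4<|c 1<|b))))))))
/-- keys -/
def kz9 : List ℕ := (beta% delta% lq26f5db1ca5 fun a c d =>
 (let b:=(let b:=(let b:=(let b:=(let b:=(a 824232<|a 31<|a 969324<|a 432727<|a 765387<|a 862494<|
 a 421392<|d);
 (a 463924<|a 1017594<|a 666771<|a 697882<|a 686630<|a 649989<|a 22768<|b));
 (let b:=(a 903761<|a 251672<|a 662004<|a 364126<|a 910676<|a 595287<|
 a 464833<|b);
 (a 966527<|a 246226<|a 423486<|a 941596<|a 944992<|a 3935<|a 795925<|b)));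
 (let b:=(let b:=(a 1043595<|a 361383<|a 445283<|a 874134<|a 446522<|a 871942<|a 836477<|
 b);
 (a 472724<|
 a 435835<|a 1026320<|a 378594<|a 845870<|a 840506<|a 1037565<|b));
 (let b:=(a 615717<|a 885183<|a 904416<|a 316709<|a 871151<|a 514133<|a 153331<|b);
 (a 4857<|a 749529<|
 a 417041<|a 711854<|a 792905<|a 507632<|a 544908<|b))));
 (let b:=(let b:=(let b:=(a 355321<|a 568081<|a 88099<|a 938846<|a 280707<|a 288794<|a 763099<|b);
 (a 73054<|a 809718<|a 384720<|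
 a 560472<|a 105091<|a 777779<|a 488726<|b));
 (let b:=(a 782424<|a 28337<|a 1027834<|a 909923<|a 30218<|a 1022194<|a 527508<|b);
 (a 879025<|a 441655<|a 575190<|a 557344<|
 a 756087<|a 95978<|a 505490<|b)));
 (let b:=(let b:=(a 645428<|a 425534<|a 669215<|a 709524<|a 163780<|a 57822<|a 48977<|b);
 (a 928670<|a 572925<|a 698847<|a 784313<|a 899423<|
 a 917674<|a 357836<|b));
 (let b:=(a 746474<|a 351114<|a 652559<|a 100672<|a 908582<|a 703543<|a 752650<|b);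
 (a 970423<|a 1021087<|a 813459<|a 891706<|a 314925<|a 281750<|
 a 630875<|b)))));
 (let b:=(let b:=(let b:=(let b:=(a 568573<|a 486456<|a 202522<|a 372310<|a 44828<|a 377071<|a 526845<|b);
 (a 792052<|a 926311<|a 56635<|a 423125<|a 68436<|a 346971<|a 257870<|
 b));
 (let b:=(a 219163<|
 a 317600<|a 945998<|a 944967<|a 35176<|a 493187<|a 776107<|b);
 (a 578634<|a 286928<|a 505837<|a 871061<|a 116907<|a 769345<|a 640376<|b)));
 (let b:=(let b:=(a 808878<|a 415285<|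
 a 150170<|a 820564<|a 1023131<|a 194434<|a 214062<|b);
 (a 884120<|a 1007134<|a 697268<|a 446064<|a 863718<|a 331257<|a 283223<|b));
 (let b:=(a 973144<|a 833570<|a 803982<|
 a 688494<|a 169232<|a 166604<|a 917301<|b);
 (a 307429<|a 877632<|a 822869<|a 417859<|a 707317<|a 248018<|a 655328<|b))));
 (let b:=(let b:=(let b:=(a 1033969<|a 845996<|a 286135<|a 484762<|
 a 918719<|a 787335<|a 279656<|b);
 (a 648845<|a 606099<|a 781279<|a 274286<|a 460545<|a 233115<|a 14386<|b));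
 (let b:=(a 440400<|a 204965<|a 487077<|a 502975<|a 298370<|
 a 559237<|a 992452<|b);
 (a 754609<|a 813256<|a 250153<|a 1028205<|a 672890<|a 636265<|a 214043<|b)));
 (let b:=(let b:=(a 336936<|a 771339<|a 691615<|a 759919<|a 814610<|a 184860<|
 a 282353<|b);
 (a 150551<|a 155809<|a 364748<|a 511083<|a 695262<|a 709420<|a 873169<|b));
 (let b:=(a 19297<|a 30057<|a 953863<|a 777667<|a 494907<|a 356236<|a 531968<|
 b);
 (c 344742<|c 875033<|c 396002<|c 253958<|c 416500<|c 175427<|c 105468<|b)))))))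

/-- path -/
def pa10 : List ℕ := [2, 3, 2, 1, 0, 3]
/-- program -/
def pg10 : List ℕ := (beta% delta% lq26f5db1ca5 fun a c d =>
 (let b:=(let b:=(let b:=(let b:=(let b:=(let b:=(a 0<|a 0<|a 0<|a 4<|a 1<|a 2<|a 4<|d);
 (a 1<|a 2<|
 a 0<|a 0<|a 3<|a 4<|a 0<|b));
 (let b:=(a 3<|a 2<|a 1<|a 4<|a 0<|a 0<|a 4<|b);
 (a 2<|a 0<|a 4<|a 0<|a 0<|a 0<|a 0<|b)));
 (let b:=(let b:=(a 0<|a 3<|a 0<|a 4<|a 0<|a 0<|a 3<|b);
 (a 0<|a 0<|a 0<|a 0<|a 4<|a 1<|a 2<|b));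
 (let b:=(a 2<|
 a 4<|a 0<|a 0<|a 4<|a 3<|a 4<|b);
 (a 0<|a 0<|a 0<|a 4<|a 1<|a 2<|a 3<|b))));
 (let b:=(let b:=(let b:=(a 4<|a 0<|a 0<|a 4<|a 0<|a 0<|a 0<|b);
 (a 0<|a 0<|a 0<|a 0<|a 4<|a 1<|a 2<|b));
 (let b:=(a 0<|a 0<|a 4<|a 0<|a 0<|a 3<|a 4<|b);
 (a 2<|a 4<|a 1<|a 2<|a 0<|a 3<|a 2<|b)));
 (let b:=(let b:=(a 0<|a 0<|a 0<|a 0<|a 0<|a 0<|a 3<|
 b);
 (a 4<|a 1<|a 4<|a 3<|a 2<|a 0<|a 4<|b));
 (let b:=(a 4<|a 3<|a 0<|a 0<|a 0<|a 3<|a 0<|b);
 (a 1<|a 2<|a 3<|a 4<|a 0<|a 0<|b)))));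
 (let b:=(let b:=(let b:=(let b:=(a 0<|a 4<|a 0<|a 0<|a 0<|a 0<|a 4<|b);
 (a 4<|a 1<|a 2<|a 4<|a 3<|
 a 0<|a 0<|b));
 (let b:=(a 0<|a 0<|a 0<|a 0<|a 3<|a 2<|a 1<|b);
 (a 2<|a 3<|a 0<|a 0<|a 4<|a 0<|a 0<|b)));
 (let b:=(let b:=(a 4<|a 0<|a 0<|a 0<|a 0<|a 4<|a 1<|b);
 (a 2<|a 0<|a 4<|a 0<|a 0<|a 0<|a 3<|b));
 (let b:=(a 0<|a 0<|a 3<|a 2<|
 a 4<|a 1<|a 3<|b);
 (a 0<|a 0<|a 4<|a 1<|a 0<|a 0<|a 0<|b))));
 (let b:=(let b:=(let b:=(a 3<|a 2<|a 4<|a 1<|a 2<|a 0<|a 0<|b);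
 (a 1<|a 0<|a 0<|a 0<|a 0<|a 0<|a 4<|b));
 (let b:=(a 0<|a 0<|a 4<|a 3<|a 2<|a 0<|a 4<|b);
 (a 4<|a 3<|a 4<|
 a 1<|a 0<|a 0<|a 0<|b)));
 (let b:=(let b:=(a 4<|a 0<|a 0<|a 0<|a 0<|a 3<|a 2<|b);
 (a 0<|a 0<|a 0<|a 4<|a 3<|a 2<|a 0<|b));
 (let b:=(a 0<|a 4<|a 3<|a 2<|a 1<|a 0<|a 0<|b);
 (a 2<|a 0<|a 4<|a 0<|a 0<|a 0<|b))))));
 (let b:=(let b:=(let b:=(let b:=(let b:=(a 4<|
 a 1<|a 2<|a 3<|a 2<|a 4<|a 3<|b);
 (a 0<|a 0<|a 0<|a 0<|a 0<|a 0<|a 0<|b));
 (let b:=(a 0<|a 0<|a 0<|a 4<|a 1<|a 4<|a 3<|b);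
 (a 0<|a 4<|a 1<|a 0<|a 3<|a 4<|a 0<|b)));
 (let b:=(let b:=(a 0<|a 4<|a 3<|a 2<|a 1<|a 4<|a 0<|b);
 (a 4<|a 0<|a 0<|a 4<|a 0<|a 0<|a 0<|b));
 (let b:=(a 3<|a 0<|a 0<|a 0<|a 4<|a 3<|a 2<|
 b);
 (a 0<|a 0<|a 0<|a 3<|a 2<|a 1<|a 4<|b))));
 (let b:=(let b:=(let b:=(a 3<|a 4<|a 0<|a 0<|a 0<|a 0<|a 4<|b);
 (a 3<|a 4<|a 0<|a 0<|a 0<|a 0<|a 4<|b));
 (let b:=(a 1<|a 2<|a 1<|a 3<|a 2<|a 1<|a 4<|b);
 (a 0<|a 0<|a 0<|a 0<|a 0<|a 0<|
 a 4<|b)));
 (let b:=(let b:=(a 2<|a 4<|a 0<|a 0<|a 4<|a 0<|a 0<|b);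
 (a 0<|a 4<|a 3<|a 0<|a 0<|a 0<|a 3<|b));
 (let b:=(a 3<|a 2<|a 0<|a 4<|a 1<|a 0<|a 0<|b);
 (a 4<|a 1<|a 2<|a 4<|a 0<|a 0<|b)))));
 (let b:=(let b:=(let b:=(let b:=(a 2<|a 0<|a 4<|a 0<|
 a 0<|a 0<|a 0<|b);
 (a 0<|a 4<|a 3<|a 0<|a 0<|a 0<|a 3<|b));
 (let b:=(a 3<|a 0<|a 0<|a 0<|a 4<|a 1<|a 2<|b);
 (a 0<|a 0<|a 4<|a 1<|a 2<|a 3<|a 4<|b)));
 (let b:=(let b:=(a 2<|a 0<|a 4<|a 0<|a 0<|a 0<|a 0<|b);
 (a 0<|a 0<|a 0<|
 a 0<|a 3<|a 4<|a 1<|b));
 (let b:=(a 2<|a 4<|a 3<|a 0<|a 0<|a 0<|a 4<|b);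
 (a 0<|a 0<|a 0<|a 4<|a 0<|a 0<|a 3<|b))));
 (let b:=(let b:=(let b:=(a 2<|a 4<|a 0<|a 0<|a 3<|a 4<|a 1<|b);
 (a 0<|a 3<|a 0<|a 0<|a 0<|a 4<|a 1<|b));
 (let b:=(a 3<|a 0<|
 a 0<|a 0<|a 3<|a 4<|a 1<|b);
 (a 1<|a 2<|a 4<|a 1<|a 2<|a 0<|a 0<|b)));
 (let b:=(let b:=(a 1<|a 0<|a 0<|a 0<|a 0<|a 0<|a 4<|b);
 (a 4<|a 0<|a 0<|a 0<|a 0<|a 3<|a 4<|b));
 (let b:=(a 4<|a 1<|a 0<|a 0<|a 0<|a 4<|a 3<|b);
 (c 1<|c 2<|c 4<|c 0<|c 0<|c 3<|b))))))))
/-- keys -/
def kz10 : List ℕ := (beta% delta% lq26f5db1ca5 fun a c d =>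
 (let b:=(let b:=(let b:=(let b:=(let b:=(a 339213<|a 868703<|a 39720<|a 668354<|a 877827<|a 157418<|
 a 174308<|d);
 (a 1002393<|a 1003063<|a 600979<|a 113105<|a 757070<|a 935899<|a 496381<|b));
 (let b:=(a 372129<|a 669235<|a 274651<|a 816620<|a 536552<|a 582935<|a 946535<|
 b);
 (a 927686<|
 a 985192<|a 977341<|a 1011304<|a 58724<|a 323677<|a 850949<|b)));
 (let b:=(let b:=(a 743857<|a 709953<|a 186329<|a 908600<|a 468140<|a 568078<|a 365949<|b);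
 (a 518795<|a 998781<|
 a 545008<|a 327627<|a 392608<|a 361135<|a 847077<|b));
 (let b:=(a 368623<|a 304858<|a 247990<|a 590330<|a 617617<|a 629314<|a 906505<|b);
 (a 207810<|a 515301<|a 341648<|
 a 597753<|a 228687<|a 15395<|a 455557<|b))));
 (let b:=(let b:=(let b:=(a 990322<|a 875718<|a 1044699<|a 506699<|a 185729<|a 585287<|a 431414<|b);
 (a 161701<|a 21899<|a 226102<|a 1038196<|
 a 926178<|a 426227<|a 199844<|b));
 (let b:=(a 457923<|a 451728<|a 832418<|a 1031340<|a 292293<|a 761818<|a 1009887<|b);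
 (a 276841<|a 680533<|a 403413<|a 248880<|a 517195<|
 a 811047<|a 62121<|b)));
 (let b:=(let b:=(a 1023969<|a 44345<|a 57067<|a 684401<|a 759001<|a 356134<|a 565382<|b);
 (a 754504<|a 74359<|a 967030<|a 412512<|a 170782<|a 629091<|
 a 1011021<|b));
 (let b:=(a 477923<|a 90416<|a 151181<|a 333091<|a 991499<|a 896483<|a 966294<|b);
 (a 556224<|a 715735<|a 51259<|a 651817<|a 354167<|a 803304<|a 857395<|
 b)))));
 (let b:=(let b:=(let b:=(let b:=(a 917179<|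
 a 969678<|a 436343<|a 440845<|a 447108<|a 7989<|a 281851<|b);
 (a 920495<|a 716025<|a 776697<|a 920634<|a 929830<|a 567863<|a 542556<|b));
 (let b:=(a 7305<|
 a 18750<|a 371049<|a 434936<|a 1612<|a 5952<|a 815619<|b);
 (a 430656<|a 103335<|a 105918<|a 482468<|a 529696<|a 129291<|a 642936<|b)));
 (let b:=(let b:=(a 360041<|a 559502<|
 a 190821<|a 913549<|a 842937<|a 651750<|a 257387<|b);
 (a 471996<|a 625215<|a 138501<|a 1016439<|a 585574<|a 590100<|a 73158<|b));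
 (let b:=(a 305234<|a 67044<|a 682310<|
 a 451650<|a 133914<|a 963223<|a 426362<|b);
 (a 740120<|a 806521<|a 340734<|a 779268<|a 1012944<|a 531681<|a 381862<|b))));
 (let b:=(let b:=(let b:=(a 561933<|a 907889<|a 899124<|a 557745<|
 a 304999<|a 649847<|a 184833<|b);
 (a 594943<|a 568859<|a 995537<|a 710839<|a 473506<|a 389719<|a 48341<|b));
 (let b:=(a 468666<|a 130079<|a 93805<|a 491600<|a 76286<|
 a 805057<|a 64765<|b);
 (a 148244<|a 64187<|a 1009817<|a 444318<|a 52157<|a 29779<|a 27622<|b)));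
 (let b:=(let b:=(a 172043<|a 796839<|a 421721<|a 838119<|a 119819<|
 a 98420<|a 781477<|b);
 (a 964396<|a 639066<|a 884365<|a 618108<|a 966894<|a 451049<|a 575601<|b));
 (let b:=(a 175333<|a 532056<|a 425822<|a 633928<|a 778297<|a 100211<|
 a 902829<|b);
 (c 402905<|c 894518<|c 146521<|c 926853<|c 811739<|c 447151<|c 583597<|b)))))))

/-- path -/
def pa11 : List ℕ := [3, 0, 2, 3, 0, 2, 3, 0]
/-- program -/
def pg11 : List ℕ := (beta% delta% lq26f5db1ca5 fun a c d =>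
 (let b:=(let b:=(let b:=(let b:=(let b:=(let b:=(let b:=(a 0<|a 0<|a 0<|a 4<|d);
 (a 4<|a 1<|a 0<|a 3<|b));
 (a 4<|a 0<|a 0<|a 0<|a 0<|a 3<|a 2<|b));
 (let b:=(a 0<|a 0<|a 0<|a 4<|a 3<|
 a 2<|a 0<|b);
 (a 0<|a 4<|a 1<|a 2<|a 0<|a 0<|a 3<|b)));
 (let b:=(let b:=(a 4<|a 3<|a 0<|a 0<|a 0<|a 3<|a 2<|b);
 (a 2<|a 3<|a 4<|a 3<|a 0<|a 0<|a 0<|b));
 (let b:=(a 4<|a 0<|a 0<|a 0<|a 0<|a 4<|a 1<|b);
 (a 0<|a 0<|a 3<|a 2<|
 a 4<|a 0<|a 0<|b))));
 (let b:=(let b:=(let b:=(a 0<|a 0<|a 4<|a 3<|a 2<|a 0<|a 0<|b);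
 (a 0<|a 4<|a 1<|a 2<|a 3<|a 0<|a 4<|b));
 (let b:=(a 3<|a 2<|a 0<|a 4<|a 0<|a 0<|a 0<|b);
 (a 0<|a 0<|a 4<|a 1<|a 2<|a 3<|a 4<|b)));
 (let b:=(let b:=(a 0<|a 3<|a 0<|
 a 0<|a 0<|a 0<|a 0<|b);
 (a 0<|a 0<|a 0<|a 4<|a 1<|a 2<|a 0<|b));
 (let b:=(a 4<|a 1<|a 2<|a 3<|a 0<|a 4<|a 3<|b);
 (a 0<|a 4<|a 0<|a 0<|a 0<|a 0<|a 3<|b)))));
 (let b:=(let b:=(let b:=(let b:=(a 0<|a 3<|a 2<|a 4<|a 3<|a 0<|a 0<|b);
 (a 0<|a 0<|
 a 0<|a 4<|a 3<|a 0<|a 0<|b));
 (let b:=(a 3<|a 0<|a 0<|a 0<|a 3<|a 4<|a 1<|b);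
 (a 0<|a 0<|a 0<|a 4<|a 1<|a 2<|a 4<|b)));
 (let b:=(let b:=(a 3<|a 2<|a 4<|a 0<|a 0<|a 4<|a 0<|b);
 (a 3<|a 4<|a 0<|a 0<|a 4<|a 0<|a 0<|b));
 (let b:=(a 0<|
 a 0<|a 4<|a 0<|a 0<|a 4<|a 1<|b);
 (a 0<|a 0<|a 0<|a 3<|a 2<|a 1<|a 4<|b))));
 (let b:=(let b:=(let b:=(a 0<|a 3<|a 0<|a 4<|a 0<|a 0<|a 3<|b);
 (a 0<|a 4<|a 1<|a 2<|a 4<|a 1<|a 2<|b));
 (let b:=(a 0<|a 4<|a 0<|a 0<|a 0<|a 0<|a 0<|b);
 (a 0<|a 0<|a 0<|a 3<|a 4<|a 1<|a 2<|b)));
 (let b:=(let b:=(a 0<|a 0<|a 0<|a 4<|a 3<|a 4<|a 0<|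
 b);
 (a 0<|a 0<|a 3<|a 4<|a 1<|a 4<|a 0<|b));
 (let b:=(a 1<|a 4<|a 1<|a 2<|a 3<|a 0<|a 4<|b);
 (a 0<|a 0<|a 0<|a 0<|a 0<|a 3<|a 2<|b))))));
 (let b:=(let b:=(let b:=(let b:=(let b:=(a 1<|a 4<|a 3<|a 0<|a 0<|a 0<|a 0<|b);
 (a 2<|a 3<|a 4<|a 0<|a 0<|a 0<|
 a 4<|b));
 (let b:=(a 0<|a 0<|a 0<|a 0<|a 0<|a 4<|a 1<|b);
 (a 0<|a 0<|a 0<|a 0<|a 3<|a 4<|a 1<|b)));
 (let b:=(let b:=(a 0<|a 4<|a 0<|a 0<|a 4<|a 1<|a 4<|b);
 (a 1<|a 2<|a 0<|a 3<|a 2<|a 4<|a 0<|b));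
 (let b:=(a 0<|a 0<|a 0<|a 0<|a 3<|
 a 2<|a 4<|b);
 (a 4<|a 1<|a 2<|a 0<|a 4<|a 0<|a 0<|b))));
 (let b:=(let b:=(let b:=(a 3<|a 2<|a 4<|a 3<|a 0<|a 0<|a 0<|b);
 (a 1<|a 0<|a 0<|a 0<|a 0<|a 0<|a 4<|b));
 (let b:=(a 2<|a 4<|a 3<|a 0<|a 0<|a 0<|a 4<|b);
 (a 4<|a 0<|a 0<|a 4<|
 a 0<|a 0<|a 3<|b)));
 (let b:=(let b:=(a 3<|a 2<|a 4<|a 1<|a 0<|a 0<|a 0<|b);
 (a 3<|a 4<|a 0<|a 0<|a 4<|a 0<|a 0<|b));
 (let b:=(a 0<|a 0<|a 0<|a 0<|a 4<|a 1<|a 2<|b);
 (a 0<|a 0<|a 3<|a 2<|a 4<|a 3<|a 4<|b)))));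
 (let b:=(let b:=(let b:=(let b:=(a 4<|a 1<|a 4<|
 a 0<|a 0<|a 0<|a 0<|b);
 (a 0<|a 4<|a 3<|a 2<|a 4<|a 0<|a 0<|b));
 (let b:=(a 3<|a 2<|a 0<|a 4<|a 0<|a 0<|a 0<|b);
 (a 2<|a 4<|a 3<|a 0<|a 0<|a 0<|a 4<|b)));
 (let b:=(let b:=(a 0<|a 0<|a 0<|a 4<|a 1<|a 2<|a 3<|b);
 (a 1<|a 2<|
 a 0<|a 0<|a 0<|a 0<|a 0<|b));
 (let b:=(a 0<|a 4<|a 1<|a 0<|a 0<|a 0<|a 4<|b);
 (a 0<|a 0<|a 0<|a 4<|a 1<|a 2<|a 3<|b))));
 (let b:=(let b:=(let b:=(a 3<|a 0<|a 0<|a 0<|a 3<|a 4<|a 0<|b);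
 (a 3<|a 0<|a 0<|a 0<|a 4<|a 1<|a 4<|b));
 (let b:=(a 0<|
 a 3<|a 2<|a 1<|a 4<|a 1<|a 0<|b);
 (a 0<|a 4<|a 1<|a 0<|a 0<|a 0<|a 0<|b)));
 (let b:=(let b:=(a 0<|a 0<|a 0<|a 3<|a 2<|a 4<|a 0<|b);
 (a 1<|a 2<|a 4<|a 0<|a 0<|a 4<|a 3<|b));
 (let b:=(a 0<|a 4<|a 0<|a 0<|a 0<|a 0<|a 4<|b);
 (c 4<|c 0<|c 0<|c 3<|c 2<|c 4<|c 0<|b))))))))
/-- keys -/
def kz11 : List ℕ := (beta% delta% lq26f5db1ca5 fun a c d =>
 (let b:=(let b:=(let b:=(let b:=(let b:=(a 819770<|a 754765<|a 545348<|a 38380<|a 127111<|a 149050<|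
 a 747486<|d);
 (a 340149<|a 921654<|a 422522<|a 621371<|a 704875<|a 37666<|a 346542<|b));
 (let b:=(a 907590<|a 112015<|a 186544<|a 315925<|a 601891<|a 673904<|a 432265<|
 b);
 (a 1006444<|
 a 1033416<|a 831477<|a 694762<|a 1017208<|a 333939<|a 979839<|b)));
 (let b:=(let b:=(a 163335<|a 392866<|a 57146<|a 61093<|a 301825<|a 961554<|a 1003585<|b);
 (a 428703<|a 555886<|
 a 361402<|a 68980<|a 964371<|a 541466<|a 523811<|b));
 (let b:=(a 732497<|a 1021831<|a 770762<|a 480856<|a 792285<|a 801168<|a 31940<|b);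
 (a 193082<|a 372735<|a 863551<|
 a 545017<|a 899143<|a 656512<|a 322808<|b))));
 (let b:=(let b:=(let b:=(a 202390<|a 874292<|a 772984<|a 64366<|a 915056<|a 684110<|a 15021<|b);
 (a 507103<|a 107592<|a 202457<|a 573700<|
 a 416132<|a 142097<|a 1034114<|b));
 (let b:=(a 904845<|a 433422<|a 210904<|a 84275<|a 833924<|a 633491<|a 936066<|b);
 (a 155743<|a 9827<|a 636698<|a 282574<|a 730570<|
 a 546458<|a 381197<|b)));
 (let b:=(let b:=(a 1012840<|a 282766<|a 1033099<|a 474391<|a 190763<|a 953708<|a 545086<|b);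
 (a 197354<|a 561758<|a 504441<|a 165807<|a 834920<|a 604673<|
 a 546313<|b));
 (let b:=(a 501400<|a 701142<|a 674687<|a 825770<|a 403076<|a 866718<|a 234732<|b);
 (a 577508<|a 263724<|a 309618<|a 527634<|a 746479<|a 311968<|a 786640<|
 b)))));
 (let b:=(let b:=(let b:=(let b:=(a 205237<|
 a 744023<|a 1016063<|a 501175<|a 405664<|a 891523<|a 718698<|b);
 (a 245692<|a 713489<|a 162218<|a 304586<|a 64639<|a 443189<|a 31570<|b));
 (let b:=(a 318154<|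
 a 93501<|a 955038<|a 4607<|a 236494<|a 93879<|a 858107<|b);
 (a 147006<|a 490107<|a 252576<|a 467701<|a 810125<|a 254403<|a 196616<|b)));
 (let b:=(let b:=(a 920144<|a 811050<|
 a 987195<|a 168443<|a 407937<|a 686125<|a 795528<|b);
 (a 589586<|a 495360<|a 15195<|a 959625<|a 602433<|a 389921<|a 548888<|b));
 (let b:=(a 151803<|a 824227<|a 134749<|
 a 982629<|a 675097<|a 298243<|a 484317<|b);
 (a 90697<|a 481096<|a 919336<|a 755869<|a 142786<|a 977045<|a 402257<|b))));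
 (let b:=(let b:=(let b:=(a 63183<|a 931709<|a 629235<|a 986499<|
 a 990438<|a 189868<|a 866819<|b);
 (a 96255<|a 409375<|a 602478<|a 704813<|a 783555<|a 55059<|a 250866<|b));
 (let b:=(a 648476<|a 858487<|a 53995<|a 252454<|a 366830<|
 a 694016<|a 834376<|b);
 (a 614415<|a 273586<|a 313692<|a 708583<|a 873110<|a 589687<|a 679863<|b)));
 (let b:=(let b:=(a 12800<|a 112434<|a 486434<|a 79018<|a 153098<|a 132894<|
 a 155335<|b);
 (a 509773<|a 619954<|a 606935<|a 461527<|a 485688<|a 74229<|a 834476<|b));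
 (let b:=(a 423791<|a 679886<|a 2981<|a 451457<|a 350839<|a 965357<|a 526577<|
 b);
 (c 339728<|c 184906<|c 909663<|c 325315<|c 507826<|c 842871<|c 292041<|b)))))))

/-- program -/
def ph : List ℕ := (beta% delta% lq26f5db1ca5 fun a c d =>
 (let b:=(let b:=(let b:=(let b:=(let b:=(let b:=(let b:=(a 3<|a 0<|a 0<|a 2<|a 3<|d);
 (a 1<|a 2<|a 3<|a 0<|a 0<|b));
 (let b:=(a 0<|a 0<|a 0<|a 2<|a 3<|b);
 (a 0<|a 3<|
 a 2<|a 3<|a 0<|b)));
 (let b:=(let b:=(a 2<|a 3<|a 0<|a 0<|a 0<|b);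
 (a 2<|a 0<|a 3<|a 0<|a 0<|b));
 (let b:=(a 3<|a 1<|a 2<|a 3<|a 1<|b);
 (a 0<|a 0<|a 0<|a 0<|a 2<|b))));
 (let b:=(let b:=(let b:=(a 3<|a 0<|a 0<|a 0<|a 0<|b);
 (a 2<|a 3<|a 2<|a 3<|a 1<|b));
 (let b:=(a 0<|
 a 0<|a 0<|a 0<|a 3<|b);
 (a 0<|a 2<|a 3<|a 0<|a 0<|b)));
 (let b:=(let b:=(a 1<|a 2<|a 3<|a 0<|a 0<|b);
 (a 0<|a 0<|a 0<|a 2<|a 3<|b));
 (let b:=(a 2<|a 3<|a 0<|a 0<|a 0<|b);
 (a 0<|a 3<|a 2<|a 3<|b)))));
 (let b:=(let b:=(let b:=(let b:=(a 1<|a 2<|a 3<|a 1<|a 2<|b);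
 (a 0<|a 0<|a 0<|a 2<|a 3<|b));
 (let b:=(a 0<|a 0<|a 0<|a 0<|
 a 0<|b);
 (a 3<|a 1<|a 3<|a 0<|a 0<|b)));
 (let b:=(let b:=(a 0<|a 0<|a 0<|a 0<|a 2<|b);
 (a 0<|a 0<|a 3<|a 2<|a 3<|b));
 (let b:=(a 2<|a 3<|a 1<|a 2<|a 3<|b);
 (a 0<|a 0<|a 3<|a 0<|a 0<|b))));
 (let b:=(let b:=(let b:=(a 2<|a 3<|a 1<|a 2<|a 3<|b);
 (a 0<|a 0<|a 0<|
 a 0<|a 3<|b));
 (let b:=(a 3<|a 0<|a 0<|a 0<|a 0<|b);
 (a 0<|a 3<|a 0<|a 0<|a 2<|b)));
 (let b:=(let b:=(a 3<|a 1<|a 2<|a 3<|a 0<|b);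
 (a 0<|a 0<|a 0<|a 0<|a 2<|b));
 (let b:=(a 0<|a 0<|a 3<|a 2<|a 3<|b);
 (a 2<|a 3<|a 0<|a 0<|b))))));
 (let b:=(let b:=(let b:=(let b:=(let b:=(a 1<|
 a 2<|a 3<|a 1<|a 0<|b);
 (a 0<|a 0<|a 0<|a 2<|a 3<|b));
 (let b:=(a 2<|a 3<|a 0<|a 0<|a 0<|b);
 (a 0<|a 0<|a 3<|a 2<|a 3<|b)));
 (let b:=(let b:=(a 2<|a 3<|a 1<|a 2<|a 3<|b);
 (a 0<|a 0<|a 0<|a 3<|a 1<|b));
 (let b:=(a 0<|a 0<|a 0<|a 0<|a 0<|b);
 (a 0<|a 2<|a 3<|a 0<|a 0<|b))));
 (let b:=(let b:=(let b:=(a 3<|a 0<|a 0<|a 3<|a 0<|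
 b);
 (a 0<|a 2<|a 3<|a 1<|a 2<|b));
 (let b:=(a 2<|a 3<|a 0<|a 0<|a 0<|b);
 (a 0<|a 0<|a 0<|a 0<|a 3<|b)));
 (let b:=(let b:=(a 3<|a 0<|a 0<|a 2<|a 3<|b);
 (a 2<|a 3<|a 1<|a 2<|a 0<|b));
 (let b:=(a 0<|a 0<|a 2<|a 3<|a 1<|b);
 (a 0<|a 0<|a 0<|
 a 0<|b)))));
 (let b:=(let b:=(let b:=(let b:=(a 3<|a 1<|a 3<|a 0<|a 0<|b);
 (a 0<|a 3<|a 2<|a 3<|a 2<|b));
 (let b:=(a 0<|a 0<|a 0<|a 0<|a 0<|b);
 (a 0<|a 0<|a 0<|a 2<|a 3<|b)));
 (let b:=(let b:=(a 2<|a 3<|a 1<|a 2<|a 3<|b);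
 (a 3<|a 2<|a 0<|a 0<|a 0<|b));
 (let b:=(a 2<|a 3<|
 a 1<|a 2<|a 0<|b);
 (a 0<|a 2<|a 3<|a 1<|b))));
 (let b:=(let b:=(let b:=(a 0<|a 0<|a 0<|a 0<|a 0<|b);
 (a 3<|a 1<|a 0<|a 0<|a 0<|b));
 (let b:=(a 0<|a 0<|a 0<|a 0<|a 2<|b);
 (a 2<|a 0<|a 3<|a 2<|a 3<|b)));
 (let b:=(let b:=(a 0<|a 0<|a 2<|a 3<|a 1<|b);
 (a 2<|a 3<|a 0<|a 0<|a 3<|b));
 (let b:=(a 0<|a 3<|a 2<|a 3<|a 1<|
 b);
 (a 0<|a 0<|a 0<|a 0<|b)))))));
 (let b:=(let b:=(let b:=(let b:=(let b:=(let b:=(a 2<|a 3<|a 0<|a 0<|a 0<|b);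
 (a 2<|a 3<|a 0<|a 0<|a 0<|b));
 (let b:=(a 0<|a 0<|a 2<|a 3<|a 1<|b);
 (a 2<|a 3<|a 0<|a 0<|a 0<|b)));
 (let b:=(let b:=(a 2<|a 3<|a 1<|a 2<|a 3<|b);
 (a 0<|a 0<|a 0<|
 a 0<|a 0<|b));
 (let b:=(a 2<|a 3<|a 2<|a 3<|a 0<|b);
 (a 3<|a 1<|a 2<|a 0<|a 3<|b))));
 (let b:=(let b:=(let b:=(a 0<|a 2<|a 3<|a 1<|a 2<|b);
 (a 0<|a 0<|a 0<|a 0<|a 0<|b));
 (let b:=(a 3<|a 0<|a 0<|a 0<|a 0<|b);
 (a 0<|a 3<|a 0<|a 0<|a 2<|b)));
 (let b:=(let b:=(a 3<|a 1<|
 a 2<|a 3<|a 0<|b);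
 (a 0<|a 0<|a 0<|a 0<|a 2<|b));
 (let b:=(a 0<|a 0<|a 3<|a 2<|a 3<|b);
 (a 2<|a 3<|a 0<|a 0<|b)))));
 (let b:=(let b:=(let b:=(let b:=(a 3<|a 1<|a 3<|a 0<|a 0<|b);
 (a 0<|a 2<|a 3<|a 1<|a 2<|b));
 (let b:=(a 0<|a 0<|a 0<|a 0<|a 0<|b);
 (a 3<|a 2<|a 3<|a 2<|a 3<|b)));
 (let b:=(let b:=(a 0<|a 0<|a 0<|a 0<|a 0<|
 b);
 (a 2<|a 3<|a 2<|a 3<|a 0<|b));
 (let b:=(a 3<|a 2<|a 0<|a 0<|a 0<|b);
 (a 3<|a 1<|a 2<|a 3<|a 1<|b))));
 (let b:=(let b:=(let b:=(a 0<|a 0<|a 0<|a 0<|a 2<|b);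
 (a 0<|a 0<|a 0<|a 0<|a 0<|b));
 (let b:=(a 0<|a 0<|a 2<|a 3<|a 1<|b);
 (a 0<|a 2<|a 3<|a 1<|
 a 2<|b)));
 (let b:=(let b:=(a 1<|a 2<|a 0<|a 3<|a 0<|b);
 (a 0<|a 0<|a 3<|a 2<|a 3<|b));
 (let b:=(a 0<|a 0<|a 0<|a 0<|a 0<|b);
 (a 0<|a 2<|a 3<|a 0<|b))))));
 (let b:=(let b:=(let b:=(let b:=(let b:=(a 1<|a 2<|a 3<|a 0<|a 0<|b);
 (a 0<|a 0<|a 0<|a 2<|a 3<|b));
 (let b:=(a 2<|a 3<|
 a 1<|a 2<|a 3<|b);
 (a 0<|a 0<|a 0<|a 0<|a 0<|b)));
 (let b:=(let b:=(a 0<|a 3<|a 2<|a 3<|a 2<|b);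
 (a 1<|a 2<|a 3<|a 1<|a 2<|b));
 (let b:=(a 0<|a 0<|a 0<|a 0<|a 3<|b);
 (a 0<|a 0<|a 0<|a 0<|a 0<|b))));
 (let b:=(let b:=(let b:=(a 0<|a 0<|a 2<|a 3<|a 0<|b);
 (a 2<|
 a 3<|a 0<|a 0<|a 3<|b));
 (let b:=(a 0<|a 0<|a 2<|a 3<|a 1<|b);
 (a 0<|a 0<|a 3<|a 2<|a 0<|b)));
 (let b:=(let b:=(a 0<|a 2<|a 3<|a 0<|a 0<|b);
 (a 2<|a 3<|a 1<|a 3<|a 0<|b));
 (let b:=(a 0<|a 0<|a 2<|a 3<|a 1<|b);
 (a 0<|a 0<|a 0<|a 0<|b)))));
 (let b:=(let b:=(let b:=(let b:=(a 3<|a 2<|a 3<|a 2<|a 3<|b);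
 (a 0<|a 0<|a 0<|a 0<|
 a 0<|b));
 (let b:=(a 2<|a 3<|a 2<|a 3<|a 0<|b);
 (a 3<|a 1<|a 3<|a 0<|a 0<|b)));
 (let b:=(let b:=(a 0<|a 2<|a 3<|a 1<|a 2<|b);
 (a 0<|a 0<|a 0<|a 0<|a 0<|b));
 (let b:=(a 0<|a 2<|a 3<|a 0<|a 0<|b);
 (a 0<|a 2<|a 3<|a 1<|b))));
 (let b:=(let b:=(let b:=(a 1<|a 2<|
 a 0<|a 3<|a 0<|b);
 (a 0<|a 0<|a 3<|a 2<|a 3<|b));
 (let b:=(a 0<|a 0<|a 0<|a 0<|a 0<|b);
 (a 2<|a 3<|a 2<|a 3<|a 0<|b)));
 (let b:=(let b:=(a 0<|a 0<|a 0<|a 2<|a 3<|b);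
 (a 2<|a 3<|a 2<|a 0<|a 0<|b));
 (let b:=(a 1<|a 2<|a 3<|a 1<|a 3<|b);
 (c 10<|c 1<|c 2<|c 3<|b)))))))))
/-- keys -/
def kh : List ℕ := (beta% delta% lq26f5db1ca5 fun a c d =>
 (let b:=(let b:=(let b:=(let b:=(let b:=(let b:=(a 13532<|a 8453<|a 9866<|a 13242<|a 2068<|d);
 (a 1247<|a 6382<|a 8289<|a 8846<|a 8672<|b));
 (let b:=(a 11808<|a 4582<|a 9180<|a 9099<|a 12830<|b);
 (a 5900<|a 9430<|a 2856<|
 a 2269<|a 8885<|b)));
 (let b:=(let b:=(a 3023<|a 10012<|a 9533<|a 15818<|a 3398<|b);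
 (a 7368<|a 12674<|a 5490<|a 12083<|a 7437<|b));
 (let b:=(a 15213<|a 14607<|
 a 14348<|a 12035<|a 12974<|b);
 (a 14728<|a 76<|a 2432<|a 15566<|a 6164<|b))));
 (let b:=(let b:=(let b:=(a 11902<|a 5694<|a 4311<|a 13407<|a 2322<|b);
 (a 14421<|a 4621<|a 8220<|a 1786<|a 3900<|b));
 (let b:=(a 5726<|a 9840<|a 1326<|a 4265<|a 12007<|
 b);
 (a 3155<|a 13332<|a 690<|a 7496<|a 7203<|b)));
 (let b:=(let b:=(a 13825<|a 4832<|a 6966<|a 8506<|a 10461<|b);
 (a 15364<|a 3385<|a 1751<|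
 a 2756<|a 14841<|b));
 (let b:=(a 10714<|a 6168<|a 9973<|a 2575<|a 3256<|b);
 (a 3196<|a 12743<|a 8474<|a 4714<|a 9580<|b)))));
 (let b:=(let b:=(let b:=(let b:=(a 9208<|
 a 13164<|a 8964<|a 10795<|a 3812<|b);
 (a 8402<|a 1237<|a 1545<|a 196<|a 13226<|b));
 (let b:=(a 1144<|a 14705<|a 12045<|a 11440<|a 9650<|b);
 (a 12599<|a 8773<|a 6216<|a 7455<|a 16311<|b)));
 (let b:=(let b:=(a 3480<|a 4493<|a 1316<|a 10255<|
 a 452<|b);
 (a 12764<|a 6371<|a 12662<|a 3027<|a 6964<|b));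
 (let b:=(a 1103<|a 11051<|a 15091<|a 139<|a 13925<|b);
 (a 3033<|a 2039<|
 a 5655<|a 7005<|a 11242<|b))));
 (let b:=(let b:=(let b:=(a 9408<|a 4640<|a 15780<|a 7419<|a 13651<|b);
 (a 13058<|a 15380<|a 3558<|a 8596<|a 15735<|b));
 (let b:=(a 6441<|
 a 14733<|a 11742<|a 2467<|a 10385<|b);
 (a 8044<|a 7387<|a 598<|a 2283<|a 9050<|b)));
 (let b:=(let b:=(a 13345<|a 1268<|a 15846<|a 10799<|a 1937<|b);
 (a 3220<|a 8824<|a 15141<|a 15761<|a 4879<|b));
 (let b:=(a 711<|a 4278<|a 7359<|a 8373<|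
 a 4703<|b);
 (a 7706<|a 12525<|a 12305<|a 6910<|a 2158<|b))))));
 (let b:=(let b:=(let b:=(let b:=(let b:=(a 10719<|a 8794<|a 14407<|a 1514<|a 6272<|b);
 (a 12610<|a 10897<|
 a 6093<|a 9706<|a 16152<|b));
 (let b:=(a 5405<|a 12954<|a 10184<|a 8584<|a 8299<|b);
 (a 7766<|a 14463<|a 7941<|a 3056<|a 6029<|b)));
 (let b:=(let b:=(a 88<|a 10177<|a 9148<|a 7896<|a 13300<|b);
 (a 5767<|a 11145<|a 6761<|a 13166<|a 6924<|
 b));
 (let b:=(a 13126<|a 2766<|a 4037<|a 14682<|a 7669<|b);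
 (a 12366<|a 4666<|a 149<|a 2485<|a 7207<|b))));
 (let b:=(let b:=(let b:=(a 1029<|a 1165<|a 5348<|
 a 4613<|a 5764<|b);
 (a 8357<|a 7430<|a 8712<|a 10630<|a 9279<|b));
 (let b:=(a 12603<|a 2953<|a 7733<|a 12143<|a 262<|b);
 (a 13174<|
 a 6112<|a 5662<|a 6571<|a 2072<|b)));
 (let b:=(let b:=(a 10687<|a 11840<|a 7613<|a 15886<|a 10338<|b);
 (a 12466<|a 10900<|a 11648<|a 12194<|a 13519<|b));
 (let b:=(a 8692<|a 13577<|a 9190<|a 14866<|a 1063<|b);
 (a 15945<|a 6831<|a 11646<|a 9236<|a 4338<|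
 b)))));
 (let b:=(let b:=(let b:=(let b:=(a 847<|a 9756<|a 644<|a 4528<|a 13344<|b);
 (a 410<|a 8894<|a 12178<|a 3144<|a 2115<|b));
 (let b:=(a 9627<|a 988<|a 1239<|
 a 6015<|a 3808<|b);
 (a 3100<|a 706<|a 4625<|a 2176<|a 11363<|b)));
 (let b:=(let b:=(a 12195<|a 16257<|a 3985<|a 12804<|a 13067<|b);
 (a 11071<|
 a 68<|a 15823<|a 11584<|a 2190<|b));
 (let b:=(a 9595<|a 7365<|a 9625<|a 13186<|a 5083<|b);
 (a 7547<|a 1694<|a 15583<|a 14596<|a 12336<|b))));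
 (let b:=(let b:=(let b:=(a 13646<|a 2529<|a 3902<|a 9695<|a 6560<|b);
 (a 1919<|a 95<|a 1025<|a 2016<|
 a 9658<|b));
 (let b:=(a 2286<|a 9174<|a 8292<|a 750<|a 14786<|b);
 (a 6962<|a 15051<|a 4597<|a 8457<|a 14880<|b)));
 (let b:=(let b:=(a 15009<|a 3182<|
 a 11625<|a 13738<|a 1618<|b);
 (a 10054<|a 6697<|a 11780<|a 2728<|a 9206<|b));
 (let b:=(a 1467<|a 2714<|a 10276<|a 14935<|a 13520<|b);
 (c 0<|c 4576<|c 4442<|c 13789<|c 16218<|b))))))))

end Cfsg.Agent.H111.JM.ZD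
end

private theorem dce_e575b184c856 : _root_.True := by
  try have : _root_.True := by simp only [_root_.Cfsg.Agent.H111.JM.Psl7.pr.eq_1]
  exact _root_.True.intro
end

section
prune_inst 0x7f00000000000000000000000000000000000000000000000000000000000000000000000000000000000000000000000000000000000000000000000000000000000000000000000000000000000000003fffffffffffffffffffffffffffbeffbdffffffff

-- part: H831/JM/Tup
section
set_option linter.all false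

/-!
# Systems of generators containing a Frobenius group of order 55 (helper831)

`Tup u f t vs xs`: `⟨u, f⟩` is a Frobenius group of order 55, `t` inverts `f`, `(u t)³ = 1`, the elements of `vs` are
square roots of `t` inducing `f ↦ f²` with `(u v)⁸ = 1`, the elements of `xs` commute with `f` and `t`, have order 2
or 3, and `(u x)¹¹ = 1`; all together they generate the group.
-/

set_option autoImplicit false

namespace Cfsg.Agent.H831.JM

universe v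

structure Tup {X : Type v} [Group X] (u f t : X) (vs xs : Set X) : Prop where
  u11 : u ^ 11 = 1
  u1 : u ≠ 1
  f5 : f ^ 5 = 1
  fu : f * u * f⁻¹ = u ^ 3
  t2 : t * t = 1
  tf : t * f * t⁻¹ = f⁻¹
  ut : (u * t) ^ 3 = 1
  hv : ∀ v ∈ vs, v * f * v⁻¹ = f ^ 2 ∧ v * v = t ∧ (u * v) ^ 8 = 1
  hx : ∀ x ∈ xs, x * f = f * x ∧ x * t = t * x ∧ x ≠ 1 ∧ (x ^ 2 = 1 ∨ x ^ 3 = 1) ∧ (u * x) ^ 11 = 1
  gen : Subgroup.closure ({u, f, t} ∪ vs ∪ xs) = ⊤

end Cfsg.Agent.H831.JM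
end

-- part: H382/JM/L52Gens
section
set_option linter.all false
open scoped Cfsg.Agent.FastGrp

/-!
# Generators of `L₅(2)` (helper382)

`a` of order 31, `b` of order 5 with `b⁻¹ a b = a ^ 2`, and `c` of order 3 commuting with `b` with `(a ^ 11 c) ^ 4 = 1`
generate the group.
-/

set_option autoImplicit false

namespace Cfsg.Agent.H382.JM.L52Gens

open Cfsg.Agent.Lib Cfsg.Agent.Lib.F2MatGroup

/-- the group -/
abbrev SL := Matrix.SpecialLinearGroup (Fin 5) (ZMod 2)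

/-- order 31 -/
def a : SL := ⟨!![0, 0, 0, 0, 1; 1, 0, 0, 0, 0; 0, 1, 0, 0, 1; 0, 0, 1, 0, 0; 0, 0, 0, 1, 0], by decide +kernel⟩
/-- order 5 -/
def b : SL := ⟨!![1, 1, 0, 1, 0; 0, 1, 1, 1, 0; 0, 0, 0, 0, 1; 0, 1, 0, 0, 0; 0, 1, 0, 1, 0], by decide +kernel⟩
/-- order 3 -/
def c : SL := ⟨!![1, 1, 0, 0, 1; 0, 1, 1, 0, 0; 0, 1, 0, 0, 0; 0, 1, 0, 1, 1; 0, 1, 1, 1, 0], by decide +kernel⟩

/-- the program -/
def slp : List (List ℕ) := [[0, 0, 0, 0, 0, 0, 0, 0, 0, 0, 0, 0, 0, 0, 0, 0, 0, 0, 0, 0, 0, 0, 0, 0, 0, 0, 0, 0, 0, 0],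
  [2, 2, 2, 2],
  [4, 4],
  [3, 5],
  [0, 0, 0, 0, 0, 0],
  [3, 0, 6],
  [6, 0, 5],
  [8, 0, 5],
  [5, 0, 10],
  [6, 4, 11],
  [9, 0, 10],
  [13, 0, 8],
  [12, 7, 11],
  [11, 0, 14],
  [11, 3, 16],
  [15, 0, 14],
  [16, 2, 15],
  [18, 0, 15],
  [18, 6, 17],
  [16, 6, 21],
  [19, 0, 20],
  [22, 0, 19],
  [21, 0, 22],
  [22, 17, 23],
  [25, 0, 22],
  [22, 0, 27],
  [26, 13, 25],
  [25, 0, 28],
  [28, 0, 27],
  [30, 0, 27],
  [27, 6, 32],
  [30, 0, 31],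
  [32, 22, 31],
  [34, 0, 31],
  [34, 0, 33],
  [35, 0, 34],
  [37, 31, 34],
  [37, 0, 36],
  [38, 0, 37],
  [41, 0, 36],
  [39, 0, 40],
  [41, 8, 40],
  [42, 0, 41],
  [45, 38, 40],
  [43, 0, 44],
  [43, 0, 46],
  [45, 0, 46],
  [49, 0, 44]]

/-- the positions of the transvections -/
def pos : List ℕ := [0, 39, 40, 36, 41, 34, 0, 32, 30, 29, 25, 31, 0, 22, 18, 16, 26, 12, 0, 7, 8, 17, 5, 0, 0]

/-- the codes of the generators -/
def codes : List ℕ := [8538160, 10568139, 15534291]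

/-- the code of a transvection -/
def tc (p : ℕ) : ℕ := F2Mat.one 5 + 2 ^ p

/-- the check -/
def chk (L : List ℕ) : Bool := (List.range 25).all fun p =>
  Nat.beq (p / 5) (p % 5) || Nat.beq (get (F2Mat.one 5) L (pos.getD p 0)) (tc p)

theorem check1 : run 5 slp codes chk = true := by decide +kernel

/-- the relations -/
def rels : List (List ℕ × List ℕ) := [
  (List.replicate 31 0, []), (List.replicate 5 1, []), ([0, 1], [1, 0, 0]), ([2, 2, 2], []), ([1, 2], [2, 1]),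
  ([0, 0, 0, 0, 0, 0, 0, 0, 0, 0, 0, 2, 0, 0, 0, 0, 0, 0, 0, 0, 0, 0, 0, 2,
    0, 0, 0, 0, 0, 0, 0, 0, 0, 0, 0, 2, 0, 0, 0, 0, 0, 0, 0, 0, 0, 0, 0, 2], [])]

/-- the non-relations -/
def nrels : List (List ℕ × List ℕ) := [([0], []), ([1], []), ([2], [])]

theorem check2 : check 5 codes [] rels nrels = true := by decide +kernel

/-- the map to the general linear group -/
abbrev ι : SL →* GL (Fin 5) (ZMod 2) := Matrix.SpecialLinearGroup.toGL

theorem ι_inj : Function.Injective ι := Matrix.SpecialLinearGroup.toGL_injective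

theorem codes_abc : List.Forall₂ (Codes 5) ([a, b, c].map ι) codes := by
  refine .cons ?_ (.cons ?_ (.cons ?_ .nil))
  · change (a : Matrix (Fin 5) (Fin 5) (ZMod 2)) = F2Mat.toMat 5 8538160
    decide +kernel
  · change (b : Matrix (Fin 5) (Fin 5) (ZMod 2)) = F2Mat.toMat 5 10568139
    decide +kernel
  · change (c : Matrix (Fin 5) (Fin 5) (ZMod 2)) = F2Mat.toMat 5 15534291
    decide +kernel

theorem sound2 : (∀ p ∈ rels, evG [a, b, c] p.1 = evG [a, b, c] p.2) ∧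
    (∀ p ∈ nrels, evG [a, b, c] p.1 ≠ evG [a, b, c] p.2) := by
  have h := check_sound (by norm_num) codes_abc check2
  rw [runG_nil] at h
  refine ⟨fun p hp => ?_, fun p hp he => ?_⟩
  · apply ι_inj
    rw [← evG_map, ← evG_map]
    exact h.1 p hp
  · apply h.2 p hp
    rw [evG_map, evG_map, he]

theorem tc_mat : ∀ i j : Fin 5, i ≠ j →
    F2Mat.toMat 5 (tc (5 * i + j)) = 1 + Matrix.single i j (1 : ZMod 2) := by decide +kernel

theorem transvection_mem (i j : Fin 5) (h : i ≠ j) (x : ZMod 2) :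
    (Matrix.SpecialLinearGroup.transvection h x : SL) ∈ Subgroup.closure {a, b, c} := by
  have hx : x = 0 ∨ x = 1 := by
    revert x; decide
  rcases hx with rfl | rfl
  · have : (Matrix.SpecialLinearGroup.transvection h 0 : SL) = 1 := by
      apply Subtype.ext
      show 1 + Matrix.single i j (0 : ZMod 2) = 1
      rw [Matrix.single_zero, add_zero]
    rw [this]
    exact Subgroup.one_mem _
  · obtain ⟨L', h', hk⟩ := run_sound codes_abc check1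
    have h1 := (List.all_eq_true.1 hk) (5 * i + j) (List.mem_range.2 (by omega))
    rw [Bool.or_eq_true] at h1
    rcases h1 with h1 | h1
    · exfalso
      have h2 := Nat.eq_of_beq_eq_true h1
      apply h
      apply Fin.ext
      omega
    · have h2 := Nat.eq_of_beq_eq_true h1
      have h3 := codes_get h' (pos.getD (5 * i + j) 0)
      rw [runG_map, getG_map, h2] at h3
      have h4 : (Matrix.SpecialLinearGroup.transvection h (1 : ZMod 2) : SL) =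
          getG (runG slp [a, b, c]) (pos.getD (5 * i + j) 0) := by
        apply ι_inj
        apply Units.ext
        unfold Codes at h3
        rw [h3, tc_mat i j h]
        rfl
      rw [h4]
      apply getG_mem
      apply runG_mem
      intro g hg
      simp only [List.mem_cons, List.not_mem_nil, or_false] at hg
      apply Subgroup.subset_closure
      exact hg

theorem closure_eq : Subgroup.closure {a, b, c} = ⊤ := by
  rw [eq_top_iff, ← Cfsg.Agent.LieClassical.SLGen.closure_transvections (ι := Fin 5) (F := ZMod 2), Subgroup.closure_le]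
  rintro _ ⟨i, j, h, x, rfl⟩
  exact transvection_mem i j h x

theorem ev_pow {G : Type*} [Group G] (L : List G) (i n : ℕ) : evG L (List.replicate n i) = getG L i ^ n := by
  induction n with
  | zero => rw [List.replicate_zero, evG_nil, pow_zero]
  | succ n ih => rw [List.replicate_succ, evG_cons, ih, pow_succ']

theorem ga : getG [a, b, c] 0 = a := rfl
theorem gb : getG [a, b, c] 1 = b := rfl
theorem gc : getG [a, b, c] 2 = c := rfl

theorem a_pow : a ^ 31 = 1 := by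
  have := sound2.1 (List.replicate 31 0, []) (by simp [rels])
  rwa [ev_pow, evG_nil, ga] at this

theorem b_pow : b ^ 5 = 1 := by
  have := sound2.1 (List.replicate 5 1, []) (by simp [rels])
  rwa [ev_pow, evG_nil, gb] at this

theorem a_b : a * b = b * a ^ 2 := by
  have := sound2.1 ([0, 1], [1, 0, 0]) (by simp [rels])
  simp only [evG_cons, evG_nil, mul_one, ga, gb] at this
  rw [pow_two]
  exact this

theorem c_pow : c ^ 3 = 1 := by
  have := sound2.1 ([2, 2, 2], []) (by simp [rels])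
  simp only [evG_cons, evG_nil, mul_one, gc] at this
  rw [pow_succ, pow_two, mul_assoc]
  exact this

theorem b_c : b * c = c * b := by
  have := sound2.1 ([1, 2], [2, 1]) (by simp [rels])
  simp only [evG_cons, evG_nil, mul_one, gb, gc] at this
  exact this

theorem ac_pow : (a ^ 11 * c) ^ 4 = 1 := by
  have := sound2.1 ([0, 0, 0, 0, 0, 0, 0, 0, 0, 0, 0, 2, 0, 0, 0, 0, 0, 0, 0, 0, 0, 0, 0, 2,
    0, 0, 0, 0, 0, 0, 0, 0, 0, 0, 0, 2, 0, 0, 0, 0, 0, 0, 0, 0, 0, 0, 0, 2], []) (by simp [rels])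
  simp only [evG_cons, evG_nil, mul_one, ga, gc] at this
  simp only [pow_succ, pow_zero, one_mul, mul_assoc]
  exact this

theorem a_ne : a ≠ 1 := by
  have := sound2.2 ([0], []) (by simp [nrels])
  simpa only [evG_cons, evG_nil, mul_one, ga] using this

theorem b_ne : b ≠ 1 := by
  have := sound2.2 ([1], []) (by simp [nrels])
  simpa only [evG_cons, evG_nil, mul_one, gb] using this

theorem c_ne : c ≠ 1 := by
  have := sound2.2 ([2], []) (by simp [nrels])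
  simpa only [evG_cons, evG_nil, mul_one, gc] using this

/-- **generators** of a group isomorphic to `L₅(2)` -/
theorem exists_gens {F : Type} [Field F] [Fintype F] (hF : Fintype.card F = 2) {S : Type*} [Group S]
    (e : S ≃* Matrix.ProjectiveSpecialLinearGroup (Fin 5) F) : ∃ a b c : S, a ^ 31 = 1 ∧ a ≠ 1 ∧ b ^ 5 = 1 ∧ b ≠ 1 ∧
      a * b = b * a ^ 2 ∧ c ^ 3 = 1 ∧ c ≠ 1 ∧ b * c = c * b ∧ (a ^ 11 * c) ^ 4 = 1 ∧
      Subgroup.closure {a, b, c} = ⊤ := by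
  let φ : SL ≃* S := (e.trans (Cfsg.Agent.H753.FiveTwo.pslEquiv hF)).symm
  have hne : ∀ x : SL, x ≠ 1 → φ x ≠ 1 := fun x hx h => hx (φ.injective (by rw [h, map_one]))
  refine ⟨φ a, φ b, φ c, ?_, hne a a_ne, ?_, hne b b_ne, ?_, ?_, hne c c_ne, ?_, ?_, ?_⟩
  · rw [← map_pow, a_pow, map_one]
  · rw [← map_pow, b_pow, map_one]
  · rw [← map_mul, a_b, map_mul, map_pow]
  · rw [← map_pow, c_pow, map_one]
  · rw [← map_mul, b_c, map_mul]
  · rw [← map_pow, ← map_mul, ← map_pow, ac_pow, map_one]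
  · have h1 := congrArg (Subgroup.map φ.toMonoidHom) closure_eq
    rw [MonoidHom.map_closure, ← MonoidHom.range_eq_map, MonoidHom.range_eq_top.2 φ.surjective] at h1
    rw [← h1]
    congr 1
    ext x
    simp [eq_comm]

end Cfsg.Agent.H382.JM.L52Gens

private theorem dce_cca15d2b5b8d : _root_.True := by
  try have : _root_.True := by simp only [_root_.Cfsg.Agent.H382.JM.L52Gens.nrels.eq_1]
  try have : _root_.True := by simp only [_root_.Cfsg.Agent.H382.JM.L52Gens.rels.eq_1]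
  exact _root_.True.intro
end
end
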