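import Cfsg.Agent.H856.JM.Comm_m3
import Cfsg.Agent.H878.JM.Elts_m3
import Cfsg.Agent.Blocks.Induced
import Cfsg.Agent.H866.InvolType
import Cfsg.Agent.KFacts.M24Two.Orders
import Cfsg.Agent.SporadicA.M24Trans
import Cfsg.Agent.H856.AutM22
import Cfsg.Agent.S5563
import Cfsg.Agent.S5564
import Cfsg.Agent.Lib.Cores
import Cfsg.Agent.H337.JankoOfIso
import Cfsg.Agent.KFacts.MulSpor.NoDbl
import Cfsg.Agent.H111.JM.TList_m3
import Cfsg.Agent.FastGrp
import Cfsg.Agent.Prune
set_option linter.all false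
prune_inst 0x7ffefdf9afb8bfffffff7e7ffffddffffbfcffffffdffbfbffedfbffafdf6b67fbe5fbafffec50ff9ed6e2be30f87b53fbfffeffef6bdd7ffffd5ff45ffbffdfffffbfad71d7bc3e1ffe6ffffbf17fae7f3fffffffffffffffffffffffffffffffffffffffff
open scoped Cfsg.Agent.FastGrp

-- part: H856/JM/Small
section
/-!
# The involutions extending the ten triples `(y0, v i, a)` (helper856)

`B_a3`, …, `B_a9c` : the elements `b` with `TY b`, `b * v = v * b`, `(a * b) ^ 3 = 1`;
`T_a5`, `T_a6`, `T_a7a`, `T_a9a` (and `T_a9b`, `T_a9c`) : the elements `t` with `TY t`, `t * v = v * t`, `t * a = a * t`.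
-/

set_option autoImplicit false
set_option maxRecDepth 100000

open Cfsg

namespace Cfsg.Agent.H856.JM.Small

open Cfsg.Agent.Lib Cfsg.Agent.Lib.F2Mat Cfsg.Agent.Lib.F2MatGroup
open Cfsg.Agent.J4.Rep112
open Cfsg.Agent.H858.VK
open Cfsg.Agent.H878.JM.Base Cfsg.Agent.H878.JM.Elts
open Cfsg.Agent.H111.JM.Eng Cfsg.Agent.H111.JM.Env Cfsg.Agent.H111.JM.TList
open Cfsg.Agent.H856.JM.CommData Cfsg.Agent.H856.JM.CommTest Cfsg.Agent.H856.JM.Comm

/-- codes of both environments from one run -/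
theorem run_both {k : List ℕ → List ℕ → Bool} (h : run 112 slpJ codes (fun L =>
    run 112 slpC L fun L1 => run 112 slpE L fun L2 => k L1 L2) = true) :
    ∃ L1 L2, List.Forall₂ (Codes 112) (LK.map rho) L1 ∧ List.Forall₂ (Codes 112) (LE.map rho) L2 ∧
      k L1 L2 = true := by
  obtain ⟨L, h1, h2⟩ := Cfsg.Agent.H878.JM.Base.run_env h
  obtain ⟨L1, h3, h4⟩ := run_sound h1 h2
  obtain ⟨L2, h5, h6⟩ := run_sound h1 h4
  refine ⟨L1, L2, ?_, ?_, h6⟩
  · unfold LK
    rw [← runG_map]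
    exact h3
  · unfold Cfsg.Agent.H878.JM.Elts.LE
    rw [← runG_map]
    exact h5

/-- positions of the commuting elements in `LK`, position of `a` in `LE`, positions of the elements `b` in `LE` -/
def dB : List (List ℕ × ℕ × List ℕ) := [(ps3, 235, [221, 171, 163, 154, 150, 138]),
  (ps4, 228, [132, 119]),
  (ps5, 221, [117, 108, 101, 94, 86, 78, 66]),
  (ps6, 209, [54]),
  (ps7, 206, [31, 26, 18]),
  (ps7, 204, []),
  (ps8, 193, []),
  (ps9, 184, []),
  (ps9, 179, []),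
  (ps9, 193, [])]

/-- positions of the commuting elements in `LK`, position of `a` in `LE`, positions of the elements `t` in `LE` -/
def dT : List (List ℕ × ℕ × List ℕ) := [(ps5, 221, [65, 64]),
  (ps6, 209, [45, 36]),
  (ps7, 206, [17]),
  (ps9, 184, [4]),
  (ps9, 179, []),
  (ps9, 193, [])]

/-- the key of a matrix -/
def kk (M : ℕ) : ℕ := key 12159 24 M

/-- test for `(a * t) ^ 3 = 1` -/
def tB (A M : ℕ) (K : List ℕ) : Bool :=
  force (F2Mat.mul 112 A M) fun P => cond (Nat.beq (F2Mat.mul 112 P (F2Mat.mul 112 P P)) (F2Mat.one 112))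
    (mem (kk M) K) true

/-- test for `t * a = a * t` -/
def tT (A M : ℕ) (K : List ℕ) : Bool :=
  cond (Nat.beq (F2Mat.mul 112 M A) (F2Mat.mul 112 A M)) (mem (kk M) K) true

/-- all tests -/
def all (T : ℕ → ℕ → List ℕ → Bool) (D : List (List ℕ × ℕ × List ℕ)) (L1 L2 : List ℕ) : Bool :=
  D.all fun d => cond (d.2.2.all fun b => eqs 112 [([b, b], []), ([b, 282, b, 282], [])] L2)
    (force (get (F2Mat.one 112) L2 d.2.1) fun A => d.1.all fun k =>
      force (get (F2Mat.one 112) L1 k) fun M => T A M (d.2.2.map fun b => kk (get (F2Mat.one 112) L2 b))) false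

theorem chkB : run 112 slpJ codes (fun L => run 112 slpC L fun L1 => run 112 slpE L fun L2 =>
    cond (all tB dB L1 L2) (all tT dT L1 L2) false) = true := by
  delta all tB tT
  rw [Lib.F112.run_eq, Lib.F112.eqs_eq, Lib.F112.ml_eq]
  decide +kernel

theorem codes_getG {L : List Spor.J4} {L' : List ℕ} (h : List.Forall₂ (Codes 112) (L.map rho) L') (k : ℕ) :
    Codes 112 (rho (getG L k)) (get (F2Mat.one 112) L' k) := by
  have h1 := codes_get h k
  rwa [getG_map] at h1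

theorem all_sound {T : ℕ → ℕ → List ℕ → Bool} {D : List (List ℕ × ℕ × List ℕ)} {L1 L2 : List ℕ}
    (h2 : List.Forall₂ (Codes 112) (LE.map rho) L2)
    (h : all T D L1 L2 = true) {d : List ℕ × ℕ × List ℕ} (hd : d ∈ D) :
    (∀ b ∈ d.2.2, TY (getG LE b)) ∧ ∀ k ∈ d.1, T (get (F2Mat.one 112) L2 d.2.1) (get (F2Mat.one 112) L1 k)
      (d.2.2.map fun b => kk (get (F2Mat.one 112) L2 b)) = true := by
  unfold all at h
  rw [List.all_eq_true] at h
  obtain ⟨h3, h4⟩ := CommTest.cond_true (h d hd)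
  rw [List.all_eq_true] at h3
  rw [force_eq, List.all_eq_true] at h4
  refine ⟨fun b hb => ?_, fun k hk => ?_⟩
  · have h5 : ∀ q ∈ [([b, b], ([] : List ℕ)), ([b, 282, b, 282], [])], evG LE q.1 = evG LE q.2 := by
      intro q hq
      apply rho_injective
      rw [← evG_map, ← evG_map]
      exact eqs_sound h2 (h3 b hb) q hq
    have e1 := h5 ([b, b], []) (by simp)
    have e2 := h5 ([b, 282, b, 282], []) (by simp)
    simp only [evG_cons, evG_nil, mul_one, e_y0] at e1 e2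
    refine ⟨e1, ?_⟩
    have h8 : (getG LE b)⁻¹ = getG LE b := inv_eq_of_mul_eq_one_left e1
    rw [h8]
    have h9 : getG LE b * y0 * getG LE b * y0 = 1 := by
      rw [← e2]; simp only [mul_assoc]
    exact (inv_eq_of_mul_eq_one_left h9).symm
  · have h5 := h4 k hk
    rwa [force_eq] at h5

theorem key_mem {L2 : List ℕ} (h2 : List.Forall₂ (Codes 112) (LE.map rho) L2) {B : List ℕ}
    (hcard : Nat.card {t // TY t} ≤ 10296) {t : Spor.J4} (ht : TY t) (hB : ∀ b ∈ B, TY (getG LE b)) {M : ℕ}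
    (hM : Codes 112 (rho t) M) (h : mem (kk M) (B.map fun b => kk (get (F2Mat.one 112) L2 b)) = true) :
    t ∈ B.map (getG LE) := by
  obtain ⟨b, hb, hk⟩ := List.mem_map.1 (mem_sound h)
  refine List.mem_map.2 ⟨b, hb, ?_⟩
  exact key_inj hcard (hB b hb) ht ⟨_, codes_getG h2 b, rfl⟩ ⟨M, hM, hk.symm⟩

theorem soundB (hcard : Nat.card {t // TY t} ≤ 10296) {d : List ℕ × ℕ × List ℕ} (hd : d ∈ dB) {t : Spor.J4}
    (ht : TY t) (hl : t ∈ lst d.1) (h3 : (getG LE d.2.1 * t) ^ 3 = 1) : t ∈ d.2.2.map (getG LE) := by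
  obtain ⟨L1, L2, h1, h2, h⟩ := run_both chkB
  obtain ⟨hb, hk⟩ := all_sound h2 (CommTest.cond_true h).1 hd
  obtain ⟨k, hk1, hk2⟩ := List.mem_map.1 hl
  have h4 := hk k hk1
  have h5 := codes_getG h1 k
  rw [hk2] at h5
  have h6 := codes_getG h2 d.2.1
  unfold tB at h4
  rw [force_eq] at h4
  have h7 := h6.mul h5
  have h8 := h7.mul (h7.mul h7)
  rw [← map_mul, ← map_mul, ← map_mul] at h8
  have h9 : getG LE d.2.1 * t * (getG LE d.2.1 * t * (getG LE d.2.1 * t)) = 1 := by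
    rw [← h3, pow_succ, pow_two]
    simp only [mul_assoc]
  rw [h9, map_one] at h8
  have h10 : F2Mat.mul 112 (F2Mat.mul 112 (get (F2Mat.one 112) L2 d.2.1) (get (F2Mat.one 112) L1 k))
      (F2Mat.mul 112 (F2Mat.mul 112 (get (F2Mat.one 112) L2 d.2.1) (get (F2Mat.one 112) L1 k))
      (F2Mat.mul 112 (get (F2Mat.one 112) L2 d.2.1) (get (F2Mat.one 112) L1 k))) = F2Mat.one 112 := by
    refine toMat_inj (n := 112) (mul_lt (by norm_num) _ _) one_lt' ?_
    unfold Codes at h8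
    rw [← h8, toMat_one]
    rfl
  rw [h10, Nat.beq_refl] at h4
  exact key_mem h2 hcard ht hb h5 h4

theorem soundT (hcard : Nat.card {t // TY t} ≤ 10296) {d : List ℕ × ℕ × List ℕ} (hd : d ∈ dT) {t : Spor.J4}
    (ht : TY t) (hl : t ∈ lst d.1) (h3 : t * getG LE d.2.1 = getG LE d.2.1 * t) :
    t ∈ d.2.2.map (getG LE) := by
  obtain ⟨L1, L2, h1, h2, h⟩ := run_both chkB
  obtain ⟨hb, hk⟩ := all_sound h2 (CommTest.cond_true h).2 hd
  obtain ⟨k, hk1, hk2⟩ := List.mem_map.1 hl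
  have h4 := hk k hk1
  have h5 := codes_getG h1 k
  rw [hk2] at h5
  have h6 := codes_getG h2 d.2.1
  unfold tT at h4
  have h7 := h6.mul h5
  have h8 := h5.mul h6
  rw [← map_mul] at h7 h8
  rw [h3] at h8
  have h10 : F2Mat.mul 112 (get (F2Mat.one 112) L1 k) (get (F2Mat.one 112) L2 d.2.1) =
      F2Mat.mul 112 (get (F2Mat.one 112) L2 d.2.1) (get (F2Mat.one 112) L1 k) := by
    refine toMat_inj (n := 112) (mul_lt (by norm_num) _ _) (mul_lt (by norm_num) _ _) ?_
    unfold Codes at h7 h8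
    rw [← h8, ← h7]
  rw [h10, Nat.beq_refl] at h4
  exact key_mem h2 hcard ht hb h5 h4

theorem B_a3 (hcard : Nat.card {t // TY t} ≤ 10296) {t : Spor.J4} (ht : TY t) (hv : t * v3 = v3 * t)
    (h3 : (a3 * t) ^ 3 = 1) : t ∈ ([221, 171, 163, 154, 150, 138] : List ℕ).map (getG LE) :=
  soundB hcard (d := (ps3, 235, [221, 171, 163, 154, 150, 138])) (by simp [dB]) ht (comm3 hcard ht hv) h3

theorem B_a4 (hcard : Nat.card {t // TY t} ≤ 10296) {t : Spor.J4} (ht : TY t) (hv : t * v4 = v4 * t)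
    (h3 : (a4 * t) ^ 3 = 1) : t ∈ ([132, 119] : List ℕ).map (getG LE) :=
  soundB hcard (d := (ps4, 228, [132, 119])) (by simp [dB]) ht (comm4 hcard ht hv) h3

theorem B_a5 (hcard : Nat.card {t // TY t} ≤ 10296) {t : Spor.J4} (ht : TY t) (hv : t * v5 = v5 * t)
    (h3 : (a5 * t) ^ 3 = 1) : t ∈ ([117, 108, 101, 94, 86, 78, 66] : List ℕ).map (getG LE) :=
  soundB hcard (d := (ps5, 221, [117, 108, 101, 94, 86, 78, 66])) (by simp [dB]) ht (comm5 hcard ht hv) h3

theorem B_a6 (hcard : Nat.card {t // TY t} ≤ 10296) {t : Spor.J4} (ht : TY t) (hv : t * v6 = v6 * t)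
    (h3 : (a6 * t) ^ 3 = 1) : t ∈ ([54] : List ℕ).map (getG LE) :=
  soundB hcard (d := (ps6, 209, [54])) (by simp [dB]) ht (comm6 hcard ht hv) h3

theorem B_a7a (hcard : Nat.card {t // TY t} ≤ 10296) {t : Spor.J4} (ht : TY t) (hv : t * v7 = v7 * t)
    (h3 : (a7a * t) ^ 3 = 1) : t ∈ ([31, 26, 18] : List ℕ).map (getG LE) :=
  soundB hcard (d := (ps7, 206, [31, 26, 18])) (by simp [dB]) ht (comm7 hcard ht hv) h3

theorem B_a7b (hcard : Nat.card {t // TY t} ≤ 10296) {t : Spor.J4} (ht : TY t) (hv : t * v7 = v7 * t)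
    (h3 : (a7b * t) ^ 3 = 1) : t ∈ ([] : List ℕ).map (getG LE) :=
  soundB hcard (d := (ps7, 204, [])) (by simp [dB]) ht (comm7 hcard ht hv) h3

theorem B_a8 (hcard : Nat.card {t // TY t} ≤ 10296) {t : Spor.J4} (ht : TY t) (hv : t * v8 = v8 * t)
    (h3 : (a8 * t) ^ 3 = 1) : t ∈ ([] : List ℕ).map (getG LE) :=
  soundB hcard (d := (ps8, 193, [])) (by simp [dB]) ht (comm8 hcard ht hv) h3

theorem B_a9a (hcard : Nat.card {t // TY t} ≤ 10296) {t : Spor.J4} (ht : TY t) (hv : t * v9 = v9 * t)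
    (h3 : (a9a * t) ^ 3 = 1) : t ∈ ([] : List ℕ).map (getG LE) :=
  soundB hcard (d := (ps9, 184, [])) (by simp [dB]) ht (comm9 hcard ht hv) h3

theorem B_a9b (hcard : Nat.card {t // TY t} ≤ 10296) {t : Spor.J4} (ht : TY t) (hv : t * v9 = v9 * t)
    (h3 : (a9b * t) ^ 3 = 1) : t ∈ ([] : List ℕ).map (getG LE) :=
  soundB hcard (d := (ps9, 179, [])) (by simp [dB]) ht (comm9 hcard ht hv) h3

theorem B_a9c (hcard : Nat.card {t // TY t} ≤ 10296) {t : Spor.J4} (ht : TY t) (hv : t * v9 = v9 * t)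
    (h3 : (a9c * t) ^ 3 = 1) : t ∈ ([] : List ℕ).map (getG LE) :=
  soundB hcard (d := (ps9, 193, [])) (by simp [dB]) ht (comm9 hcard ht hv) h3

theorem T_a5 (hcard : Nat.card {t // TY t} ≤ 10296) {t : Spor.J4} (ht : TY t) (hv : t * v5 = v5 * t)
    (h3 : t * a5 = a5 * t) : t ∈ ([65, 64] : List ℕ).map (getG LE) :=
  soundT hcard (d := (ps5, 221, [65, 64])) (by simp [dT]) ht (comm5 hcard ht hv) h3

theorem T_a6 (hcard : Nat.card {t // TY t} ≤ 10296) {t : Spor.J4} (ht : TY t) (hv : t * v6 = v6 * t)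
    (h3 : t * a6 = a6 * t) : t ∈ ([45, 36] : List ℕ).map (getG LE) :=
  soundT hcard (d := (ps6, 209, [45, 36])) (by simp [dT]) ht (comm6 hcard ht hv) h3

theorem T_a7a (hcard : Nat.card {t // TY t} ≤ 10296) {t : Spor.J4} (ht : TY t) (hv : t * v7 = v7 * t)
    (h3 : t * a7a = a7a * t) : t ∈ ([17] : List ℕ).map (getG LE) :=
  soundT hcard (d := (ps7, 206, [17])) (by simp [dT]) ht (comm7 hcard ht hv) h3

theorem T_a9a (hcard : Nat.card {t // TY t} ≤ 10296) {t : Spor.J4} (ht : TY t) (hv : t * v9 = v9 * t)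
    (h3 : t * a9a = a9a * t) : t ∈ ([4] : List ℕ).map (getG LE) :=
  soundT hcard (d := (ps9, 184, [4])) (by simp [dT]) ht (comm9 hcard ht hv) h3

end Cfsg.Agent.H856.JM.Small
end

-- part: H856/JM/Conj
section
/-!
# Transport of generators, and the exclusion by a fixed row vector (helper856)
-/

set_option autoImplicit false

open Cfsg

namespace Cfsg.Agent.H856.JM

open Cfsg.Agent.H860.JM

section map

variable {G H : Type*} [Group G] [Group H] {f : G →* H}

theorem T4.map (hf : Function.Injective f) {y v : G} (h : T4 y v) : T4 (f y) (f v) where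
  y_ne := fun h1 => h.y_ne (hf (by rw [h1, map_one]))
  cube := by rw [← map_mul, ← map_mul, h.cube, map_one]
  v_ne := fun h1 => h.v_ne (hf (by rw [h1, map_one]))
  sq := by rw [← map_mul, h.sq, map_one]
  br := by rw [← map_mul, ← map_pow, h.br, map_one]

theorem T5.map (hf : Function.Injective f) {y v a : G} (h : T5 y v a) : T5 (f y) (f v) (f a) where
  toT4 := h.toT4.map hf
  a_ne := fun h1 => h.a_ne (hf (by rw [h1, map_one]))
  asq := by rw [← map_mul, h.asq, map_one]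
  ainv := by rw [← map_mul, ← map_inv, ← map_mul, h.ainv, map_inv]
  abr := by rw [← map_mul, ← map_pow, h.abr, map_one]

theorem T6.map (hf : Function.Injective f) {y v a b : G} (h : T6 y v a b) :
    T6 (f y) (f v) (f a) (f b) where
  toT5 := h.toT5.map hf
  b_ne := fun h1 => h.b_ne (hf (by rw [h1, map_one]))
  bsq := by rw [← map_mul, h.bsq, map_one]
  binv := by rw [← map_mul, ← map_inv, ← map_mul, h.binv, map_inv]
  bv := by rw [← map_mul, h.bv, map_mul]
  bbr := by rw [← map_mul, ← map_pow, h.bbr, map_one]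

theorem T7.map (hf : Function.Injective f) {y v a b c : G} (h : T7 y v a b c) :
    T7 (f y) (f v) (f a) (f b) (f c) where
  toT6 := h.toT6.map hf
  c_ne := fun h1 => h.c_ne (hf (by rw [h1, map_one]))
  csq := by rw [← map_mul, h.csq, map_one]
  cinv := by rw [← map_mul, ← map_inv, ← map_mul, h.cinv, map_inv]
  cv := by rw [← map_mul, h.cv, map_mul]
  ca := by rw [← map_mul, h.ca, map_mul]
  cbr := by rw [← map_mul, ← map_pow, h.cbr, map_one]

theorem T8.map (hf : Function.Injective f) {y v a b c d : G} (h : T8 y v a b c d) :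
    T8 (f y) (f v) (f a) (f b) (f c) (f d) where
  toT7 := h.toT7.map hf
  d_ne := fun h1 => h.d_ne (hf (by rw [h1, map_one]))
  dsq := by rw [← map_mul, h.dsq, map_one]
  dinv := by rw [← map_mul, ← map_inv, ← map_mul, h.dinv, map_inv]
  dv := by rw [← map_mul, h.dv, map_mul]
  da := by rw [← map_mul, h.da, map_mul]
  db := by rw [← map_mul, h.db, map_mul]
  dbr := by rw [← map_mul, ← map_pow, h.dbr, map_one]

/-- commuting involutions with a product of order dividing 3 are equal -/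
theorem eq_of_comm {p q : G} (hp : p * p = 1) (hq : q * q = 1) (hc : p * q = q * p)
    (h3 : (p * q) ^ 3 = 1) : p = q := by
  have h2 : p * q * (p * q) = 1 := by
    calc p * q * (p * q) = p * (q * p) * q := by group
      _ = p * (p * q) * q := by rw [hc]
      _ = p * p * (q * q) := by group
      _ = 1 := by rw [hp, hq, one_mul]
  have h1 : p * q = 1 := by
    rw [pow_succ, pow_two, h2, one_mul] at h3
    exact h3
  rw [mul_eq_one_iff_eq_inv] at h1
  rw [h1]
  exact inv_eq_of_mul_eq_one_left hq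

/-- in `A_7` the generators `(0 1)(4 5)` and `(0 1)(5 6)` do not commute -/
theorem T7.bc_ne {y v a b c : G} (h : T7 y v a b c) : b * c ≠ c * b := by
  intro hbc
  have h1 : b = c := eq_of_comm h.bsq h.csq hbc h.cbr
  have h2 : a = b := eq_of_comm h.asq h.bsq (by rw [h1, h.ca]) h.bbr
  have h3 : v = a := eq_of_comm h.sq h.asq (by rw [h2, h.bv]) h.abr
  have h4 : v * y * v⁻¹ = y⁻¹ := by rw [h3, h.ainv]
  have h5 : v⁻¹ = v := inv_eq_of_mul_eq_one_left h.sq
  have h6 : v * y * (v * y) = 1 := by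
    rw [h5] at h4
    calc v * y * (v * y) = v * y * v * y := by group
      _ = 1 := by rw [h4, inv_mul_cancel]
  have h7 : v * y = 1 := by
    have h8 := h.br
    rwa [pow_succ, pow_two, h6, one_mul] at h8
  have h8 : y = v := by
    rw [mul_eq_one_iff_inv_eq] at h7
    rw [← h7, h5]
  have h9 : y * y = 1 := by rw [h8, h.sq]
  have h10 := h.cube
  rw [h9, one_mul] at h10
  exact h.y_ne h10

end map

/-- the group `Spor.J4` -/
local notation "𝒢" => Cfsg.Spor.J4

theorem Tau.map {τ y : 𝒢} {l : List 𝒢} (h : Tau τ y l) (f : 𝒢 →* 𝒢) (hf : Function.Injective f) :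
    Tau (f τ) (f y) (l.map f) where
  ne := fun h1 => h.ne (hf (by rw [h1, map_one]))
  sq := by rw [← map_mul, h.sq, map_one]
  inv := by rw [← map_mul, ← map_inv, ← map_mul, h.inv, map_inv]
  comm := by
    intro x hx
    obtain ⟨z, hz, rfl⟩ := List.mem_map.1 hx
    rw [← map_mul, h.comm z hz, map_mul]

/-- exclusion: the conjugates of the generators of `M` fix `u`, and so does an element `k` whose order does
not divide the order of `M` -/
theorem false_of_gens {M S : Subgroup 𝒢} (h : NL M S) {X : Set 𝒢} (hX : M ≤ Subgroup.closure X) {g : 𝒢}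
    {u : Row} (hu : u ≠ 0) (hf : ∀ x ∈ X, ra u (g * x * g⁻¹) = u) {k : 𝒢} (hk : ra u k = u)
    (hd : ¬ orderOf k ∣ Nat.card M) : False := by
  have h1 : M ≤ St (ra u g) := by
    refine hX.trans ?_
    rw [Subgroup.closure_le]
    intro x hx
    show ra (ra u g) x = ra u g
    have h2 : g * x = g * x * g⁻¹ * g := by group
    rw [← ra_mul, h2, ra_mul, hf x hx]
  have h2 : ra u g ≠ 0 := by
    intro h3
    apply hu
    rw [← ra_inv h3, ra_zero]
  refine false_of_order h.coatom h2 h1 (g := g⁻¹ * k * g) ?_ ?_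
  · have h3 : g * (g⁻¹ * k * g) = k * g := by group
    rw [← ra_mul, h3, ra_mul, hk]
  · have h3 : orderOf (g⁻¹ * k * g) = orderOf k := by
      have h4 := (MulAut.conj g⁻¹).toMonoidHom
      have h5 : g⁻¹ * k * g = MulAut.conj g⁻¹ k := by
        rw [MulAut.conj_apply, inv_inv]
      rw [h5]
      exact orderOf_injective (MulAut.conj g⁻¹).toMonoidHom (MulAut.conj g⁻¹).injective k
    rwa [h3]

end Cfsg.Agent.H856.JM
end

-- part: H856/JM/A78
section
/-!
# S5580, Part III: no maximal subgroup of `J4` has socle `A_7` or `A_8` (helper856)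

The hypotheses: `hcard` (number of the involutions inverting `y0`) and `Five` (the classes of the triples generating `A_5`).
-/

set_option autoImplicit false
set_option maxRecDepth 100000

open Cfsg

namespace Cfsg.Agent.H856.JM.A78

open Cfsg.Agent.Lib Cfsg.Agent.Lib.F2Mat Cfsg.Agent.Lib.F2MatGroup
open Cfsg.Agent.J4.Rep112
open Cfsg.Agent.H858.VK
open Cfsg.Agent.H878.JM.Base Cfsg.Agent.H878.JM.Elts
open Cfsg.Agent.H111.JM.Eng Cfsg.Agent.H111.JM.Env Cfsg.Agent.H111.JM.TList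
open Cfsg.Agent.H856.JM.CommData Cfsg.Agent.H856.JM.CommTest Cfsg.Agent.H856.JM.Comm Cfsg.Agent.H856.JM.Small
open Cfsg.Agent.H860.JM (NL Excl cj)

/-- the group `Spor.J4` -/
local notation "𝒢" => Cfsg.Spor.J4

/-- the classes of the triples generating `A_5` -/
def Five : Prop := ∀ y v a : 𝒢, T5 y v a → ∃ g : 𝒢, g * y * g⁻¹ = y0 ∧
  ((g * v * g⁻¹ = v3 ∧ g * a * g⁻¹ = a3) ∨ (g * v * g⁻¹ = v4 ∧ g * a * g⁻¹ = a4) ∨
   (g * v * g⁻¹ = v5 ∧ g * a * g⁻¹ = a5) ∨ (g * v * g⁻¹ = v6 ∧ g * a * g⁻¹ = a6) ∨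
   (g * v * g⁻¹ = v7 ∧ g * a * g⁻¹ = a7a) ∨ (g * v * g⁻¹ = v7 ∧ g * a * g⁻¹ = a7b) ∨
   (g * v * g⁻¹ = v8 ∧ g * a * g⁻¹ = a8) ∨ (g * v * g⁻¹ = v9 ∧ g * a * g⁻¹ = a9a) ∨
   (g * v * g⁻¹ = v9 ∧ g * a * g⁻¹ = a9b) ∨ (g * v * g⁻¹ = v9 ∧ g * a * g⁻¹ = a9c))

/-! ### The kernel checks -/

/-- the all-one row vector, fixed by `2^11 : M24` -/
def p0 : ℕ := 5192296858534827628530496329220095

/-- a row vector fixed by the subgroup `A_7` of class 7 -/
def w3 : ℕ := 273778381407776305952556960527884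

/-- an involution fixing `w3` -/
def tw : List ℕ := [277, 278, 276, 278, 276, 278, 277, 276, 278, 275, 278, 276, 277, 278, 276, 278, 276, 278, 277]

/-- an element of order 11 fixing `w3`: the entries of `LE` and `tw` -/
def gw : List ℕ := [266, 206] ++ tw ++ [266, 18] ++ tw ++ [17]

/-- the row vector `u` is fixed -/
def fx (u : ℕ) (L : List ℕ) (ps : List ℕ) : Bool :=
  ps.all fun k => Nat.beq (vmul 112 u (get (F2Mat.one 112) L k)) u

/-- pairs `(b, c)` with `(b * c) ^ 3 ≠ 1` -/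
def prs : List (ℕ × ℕ) := [(117, 65), (117, 64), (108, 65), (108, 64), (101, 65), (101, 64), (94, 65), (94, 64), (86, 65), (86, 64), (78, 65), (78, 64), (66, 65), (66, 64), (54, 45), (54, 36), (31, 17)]

/-- the words of the elements of order 23 and 11 -/
def sx : List (List ℕ) := [[296, 297], gw.map fun k => k + 1]

/-- all checks -/
def chks (L1 L2 : List ℕ) : Bool :=
  cond (fx p0 L1 (ps3 ++ ps4)) (cond (fx p0 L2 [282, 270, 269, 235, 228])
    (cond (fx w3 L2 [282, 266, 206, 26, 18, 17])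
      (cond (neqs 112 (prs.map fun p => ([p.1, p.2, p.1, p.2, p.1, p.2], [])) L2)
        (run 112 sx L2 fun L3 => cond (fx p0 L3 [1]) (cond (fx w3 L3 [0])
          (cond (eqs 112 [(List.replicate 23 1, []), (List.replicate 11 0, [])] L3)
            (neqs 112 [([1], []), ([0], [])] L3) false) false) false) false) false) false) false

theorem chk : run 112 slpJ codes (fun L => run 112 slpC L fun L1 => run 112 slpE L fun L2 =>
    chks L1 L2) = true := by
  delta chks fx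
  rw [Lib.F112.run_eq, Lib.F112.eqs_eq, Lib.F112.neqs_eq, Lib.F112.vm_eq]
  decide +kernel

theorem fx_sound {L : List 𝒢} {L' : List ℕ} (h : List.Forall₂ (Codes 112) (L.map rho) L') {u : ℕ} {ps : List ℕ}
    (hf : fx u L' ps = true) {k : ℕ} (hk : k ∈ ps) : ra (toVec 112 u) (getG L k) = toVec 112 u := by
  unfold fx at hf
  rw [List.all_eq_true] at hf
  have h1 := Nat.eq_of_beq_eq_true (hf k hk)
  unfold ra
  rw [← codes_vmul (codes_getG h k), h1]

/-- the facts -/
structure Facts : Prop where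
  p0_comm : ∀ k ∈ ps3 ++ ps4, ra (toVec 112 p0) (getG LK k) = toVec 112 p0
  p0_gen : ∀ k ∈ [282, 270, 269, 235, 228], ra (toVec 112 p0) (getG LE k) = toVec 112 p0
  w3_gen : ∀ k ∈ [282, 266, 206, 26, 18, 17], ra (toVec 112 w3) (getG LE k) = toVec 112 w3
  pr : ∀ p ∈ prs, (getG LE p.1 * getG LE p.2) ^ 3 ≠ 1
  p0_el : ∃ k, ra (toVec 112 p0) k = toVec 112 p0 ∧ orderOf k = 23
  w3_el : ∃ k, ra (toVec 112 w3) k = toVec 112 w3 ∧ orderOf k = 11

theorem facts : Facts := by
  obtain ⟨L1, L2, h1, h2, h⟩ := run_both (k := chks) chk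
  unfold chks at h
  obtain ⟨a1, h⟩ := CommTest.cond_true h
  obtain ⟨a2, h⟩ := CommTest.cond_true h
  obtain ⟨a3, h⟩ := CommTest.cond_true h
  obtain ⟨a4, h⟩ := CommTest.cond_true h
  obtain ⟨L3, h3, h⟩ := run_sound h2 h
  rw [runG_map] at h3
  obtain ⟨a5, h⟩ := CommTest.cond_true h
  obtain ⟨a6, h⟩ := CommTest.cond_true h
  obtain ⟨a7, a8⟩ := CommTest.cond_true h
  have e1 : ∀ q ∈ [(List.replicate 23 1, ([] : List ℕ)), (List.replicate 11 0, [])],
      evG (runG sx LE) q.1 = evG (runG sx LE) q.2 := by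
    intro q hq
    apply rho_injective
    rw [← evG_map, ← evG_map]
    exact eqs_sound h3 a7 q hq
  have e2 : ∀ q ∈ [([1], ([] : List ℕ)), ([0], [])], evG (runG sx LE) q.1 ≠ evG (runG sx LE) q.2 := by
    intro q hq h0
    have h1 := congrArg rho h0
    rw [← evG_map, ← evG_map] at h1
    exact neqs_sound (by norm_num) h3 a8 q hq h1
  have hrep : ∀ (L : List 𝒢) (n k : ℕ), evG L (List.replicate n k) = getG L k ^ n := by
    intro L n k
    induction n with
    | zero => rw [List.replicate_zero, evG_nil, pow_zero]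
    | succ n ih => rw [List.replicate_succ, evG_cons, ih, pow_succ']
  have f23 : Fact (Nat.Prime 23) := ⟨by norm_num⟩
  have f11 : Fact (Nat.Prime 11) := ⟨by norm_num⟩
  refine ⟨fun k hk => fx_sound h1 a1 hk, fun k hk => fx_sound h2 a2 hk, fun k hk => fx_sound h2 a3 hk, ?_,
    ⟨getG (runG sx LE) 1, fx_sound h3 a5 (by simp), orderOf_eq_prime ?_ ?_⟩,
    ⟨getG (runG sx LE) 0, fx_sound h3 a6 (by simp), orderOf_eq_prime ?_ ?_⟩⟩
  · intro p hp h0
    have h4 : evG LE [p.1, p.2, p.1, p.2, p.1, p.2] = evG LE [] := by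
      simp only [evG_cons, evG_nil, mul_one]
      rw [← h0, pow_succ, pow_two]
      simp only [mul_assoc]
    have h5 := congrArg rho h4
    rw [← evG_map, ← evG_map] at h5
    exact neqs_sound (by norm_num) h2 a4 _ (List.mem_map.2 ⟨p, hp, rfl⟩) h5
  · have h4 := e1 (List.replicate 23 1, []) (by simp)
    rwa [hrep, evG_nil] at h4
  · intro h4
    apply e2 ([1], []) (by simp)
    rw [evG_cons, evG_nil, mul_one, h4]
  · have h4 := e1 (List.replicate 11 0, []) (by simp)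
    rwa [hrep, evG_nil] at h4
  · intro h4
    apply e2 ([0], []) (by simp)
    rw [evG_cons, evG_nil, mul_one, h4]

theorem p0_ne : toVec 112 p0 ≠ 0 := by
  intro h
  have h1 := congrFun h 0
  rw [toVec_apply] at h1
  revert h1
  decide +kernel

theorem w3_ne : toVec 112 w3 ≠ 0 := by
  intro h
  have h1 := congrFun h 2
  rw [toVec_apply] at h1
  revert h1
  decide +kernel

/-! ### The rows -/

variable {M S : Subgroup 𝒢}

theorem p0_lst {t : 𝒢} (h : t ∈ cl3 ∨ t ∈ cl4) : ra (toVec 112 p0) t = toVec 112 p0 := by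
  rcases h with h | h
  · obtain ⟨k, hk, rfl⟩ := List.mem_map.1 h
    exact facts.p0_comm k (List.mem_append_left _ hk)
  · obtain ⟨k, hk, rfl⟩ := List.mem_map.1 h
    exact facts.p0_comm k (List.mem_append_right _ hk)

/-- the generators of `M` (class 3 or 4) fix `p0` -/
theorem false_p0 (h : NL M S) {X : Set 𝒢} (hX : M ≤ Subgroup.closure X) {g : 𝒢}
    (hf : ∀ x ∈ X, ra (toVec 112 p0) (g * x * g⁻¹) = toVec 112 p0) (hd : ¬ 23 ∣ Nat.card M) : False := by
  obtain ⟨k, hk, ho⟩ := facts.p0_el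
  exact false_of_gens h hX p0_ne hf hk (by rw [ho]; exact hd)

theorem false_w3 (h : NL M S) {X : Set 𝒢} (hX : M ≤ Subgroup.closure X) {g : 𝒢}
    (hf : ∀ x ∈ X, ra (toVec 112 w3) (g * x * g⁻¹) = toVec 112 w3) (hd : ¬ 11 ∣ Nat.card M) : False := by
  obtain ⟨k, hk, ho⟩ := facts.w3_el
  exact false_of_gens h hX w3_ne hf hk (by rw [ho]; exact hd)

/-- the extension of `A_5` to `A_7`: either `b`, `c` commute with `v3` or `v4`, or we are in class 7 -/
theorem seven (hcard : Nat.card {t // TY t} ≤ 10296) {v a b c : 𝒢} (h : T7 y0 v a b c)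
    (hva : (v = v3 ∧ a = a3) ∨ (v = v4 ∧ a = a4) ∨ (v = v5 ∧ a = a5) ∨ (v = v6 ∧ a = a6) ∨ (v = v7 ∧ a = a7a) ∨
      (v = v7 ∧ a = a7b) ∨ (v = v8 ∧ a = a8) ∨ (v = v9 ∧ a = a9a) ∨ (v = v9 ∧ a = a9b) ∨ (v = v9 ∧ a = a9c)) :
    (v = v3 ∧ a = a3) ∨ (v = v4 ∧ a = a4) ∨
      (v = v7 ∧ a = a7a ∧ (b = getG LE 26 ∨ b = getG LE 18) ∧ c = getG LE 17) := by
  have hb : TY b := ⟨h.bsq, h.binv⟩
  have hc : TY c := ⟨h.csq, h.cinv⟩
  have hbv := h.bv
  have hcv := h.cv
  have hab := h.bbr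
  have hca := h.ca
  have hbc := h.cbr
  clear h
  rcases hva with ⟨rfl, rfl⟩ | ⟨rfl, rfl⟩ | ⟨rfl, rfl⟩ | ⟨rfl, rfl⟩ | ⟨rfl, rfl⟩ | ⟨rfl, rfl⟩ | ⟨rfl, rfl⟩ |
    ⟨rfl, rfl⟩ | ⟨rfl, rfl⟩ | ⟨rfl, rfl⟩
  · exact Or.inl ⟨rfl, rfl⟩
  · exact Or.inr (Or.inl ⟨rfl, rfl⟩)
  · exfalso
    obtain ⟨p, hp, rfl⟩ := List.mem_map.1 (B_a5 hcard hb hbv hab)
    obtain ⟨q, hq, rfl⟩ := List.mem_map.1 (T_a5 hcard hc hcv hca)
    have hpq : ∀ p ∈ [117, 108, 101, 94, 86, 78, 66], ∀ q ∈ [65, 64], (p, q) ∈ prs := by decide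
    exact facts.pr (p, q) (hpq p hp q hq) hbc
  · exfalso
    obtain ⟨p, hp, rfl⟩ := List.mem_map.1 (B_a6 hcard hb hbv hab)
    obtain ⟨q, hq, rfl⟩ := List.mem_map.1 (T_a6 hcard hc hcv hca)
    have hpq : ∀ p ∈ [54], ∀ q ∈ [45, 36], (p, q) ∈ prs := by decide
    exact facts.pr (p, q) (hpq p hp q hq) hbc
  · right; right
    obtain ⟨p, hp, rfl⟩ := List.mem_map.1 (B_a7a hcard hb hbv hab)
    obtain ⟨q, hq, rfl⟩ := List.mem_map.1 (T_a7a hcard hc hcv hca)
    simp only [List.mem_cons, List.not_mem_nil, or_false] at hp hq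
    subst hq
    rcases hp with rfl | rfl | rfl
    · exact absurd hbc (facts.pr (31, 17) (by simp [prs]))
    · exact ⟨rfl, rfl, Or.inl rfl, rfl⟩
    · exact ⟨rfl, rfl, Or.inr rfl, rfl⟩
  · exfalso
    have h := B_a7b hcard hb hbv hab
    simp at h
  · exfalso
    have h := B_a8 hcard hb hbv hab
    simp at h
  · exfalso
    have h := B_a9a hcard hb hbv hab
    simp at h
  · exfalso
    have h := B_a9b hcard hb hbv hab
    simp at h
  · exfalso
    have h := B_a9c hcard hb hbv hab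
    simp at h

theorem excl_A7 (hcard : Nat.card {t // TY t} ≤ 10296) (hfive : Five) : Excl (alternatingGroup (Fin 7)) := by
  intro M S h e
  have hdvd : Nat.card M ∣ 5040 := card_dvd h (n := 7) (by norm_num) (by norm_num) e
  have h23 : ¬ 23 ∣ Nat.card M := fun h1 => by have := h1.trans hdvd; revert this; decide
  have h11 : ¬ 11 ∣ Nat.card M := fun h1 => by have := h1.trans hdvd; revert this; decide
  obtain ⟨y, v, a, b, c, hT, hS, hM⟩ := alt7 h e
  obtain ⟨g, hy, hva⟩ := hfive y v a hT.toT5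
  have hT' := hT.map (f := (MulAut.conj g).toMonoidHom) (MulAut.conj g).injective
  have hcj : ∀ x : 𝒢, (MulAut.conj g).toMonoidHom x = g * x * g⁻¹ := fun x => rfl
  simp only [hcj, hy] at hT'
  have hX : M ≤ Subgroup.closure {y, v, a, b, c} ∨ ∃ τ, Tau τ y [v, a, b, c] ∧
      M ≤ Subgroup.closure (insert τ {y, v, a, b, c}) := by
    rcases hM with h1 | ⟨τ, h1, h2⟩
    · left; rw [h1, hS]
    · right
      refine ⟨τ, h1, ?_⟩
      rw [h2, hS]
      refine sup_le (Subgroup.closure_mono (Set.subset_insert _ _)) (Subgroup.closure_mono ?_)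
      exact Set.singleton_subset_iff.2 (Set.mem_insert _ _)
  have hτ : ∀ τ, Tau τ y [v, a, b, c] → TY (g * τ * g⁻¹) ∧
      ∀ x ∈ [v, a, b, c], g * τ * g⁻¹ * (g * x * g⁻¹) = g * x * g⁻¹ * (g * τ * g⁻¹) := by
    intro τ h1
    have h2 := h1.map (MulAut.conj g).toMonoidHom (MulAut.conj g).injective
    simp only [hcj] at h2
    rw [hy] at h2
    exact ⟨⟨h2.sq, h2.inv⟩, fun x hx => h2.comm _ (List.mem_map.2 ⟨x, hx, rfl⟩)⟩
  rcases seven hcard hT' hva with ⟨h1, h2⟩ | ⟨h1, h2⟩ | ⟨h1, h2, h3, h4⟩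
  · -- class 3
    have hb : ∀ t : 𝒢, TY t → t * (g * v * g⁻¹) = g * v * g⁻¹ * t → ra (toVec 112 p0) t = toVec 112 p0 := by
      intro t h3 h4
      rw [h1] at h4
      exact p0_lst (Or.inl (comm3 hcard h3 h4))
    have hall : ∀ x ∈ ({y, v, a, b, c} : Set 𝒢), ra (toVec 112 p0) (g * x * g⁻¹) = toVec 112 p0 := by
      intro x hx
      simp only [Set.mem_insert_iff, Set.mem_singleton_iff] at hx
      rcases hx with rfl | rfl | rfl | rfl | rfl
      · rw [hy, ← e_y0]; exact facts.p0_gen 282 (by simp)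
      · rw [h1, ← e_v3]; exact facts.p0_gen 270 (by simp)
      · rw [h2]; exact facts.p0_gen 235 (by simp)
      · exact hb _ ⟨hT'.bsq, hT'.binv⟩ hT'.bv
      · exact hb _ ⟨hT'.csq, hT'.cinv⟩ hT'.cv
    rcases hX with h5 | ⟨τ, h6, h5⟩
    · exact false_p0 h h5 hall h23
    · refine false_p0 h h5 (g := g) (fun x hx => ?_) h23
      rcases Set.mem_insert_iff.1 hx with rfl | hx
      · exact hb _ (hτ x h6).1 ((hτ x h6).2 v (by simp))
      · exact hall x hx
  · -- class 4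
    have hb : ∀ t : 𝒢, TY t → t * (g * v * g⁻¹) = g * v * g⁻¹ * t → ra (toVec 112 p0) t = toVec 112 p0 := by
      intro t h3 h4
      rw [h1] at h4
      exact p0_lst (Or.inr (comm4 hcard h3 h4))
    have hall : ∀ x ∈ ({y, v, a, b, c} : Set 𝒢), ra (toVec 112 p0) (g * x * g⁻¹) = toVec 112 p0 := by
      intro x hx
      simp only [Set.mem_insert_iff, Set.mem_singleton_iff] at hx
      rcases hx with rfl | rfl | rfl | rfl | rfl
      · rw [hy, ← e_y0]; exact facts.p0_gen 282 (by simp)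
      · rw [h1, ← e_v4]; exact facts.p0_gen 269 (by simp)
      · rw [h2]; exact facts.p0_gen 228 (by simp)
      · exact hb _ ⟨hT'.bsq, hT'.binv⟩ hT'.bv
      · exact hb _ ⟨hT'.csq, hT'.cinv⟩ hT'.cv
    rcases hX with h5 | ⟨τ, h6, h5⟩
    · exact false_p0 h h5 hall h23
    · refine false_p0 h h5 (g := g) (fun x hx => ?_) h23
      rcases Set.mem_insert_iff.1 hx with rfl | hx
      · exact hb _ (hτ x h6).1 ((hτ x h6).2 v (by simp))
      · exact hall x hx
  · -- class 7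
    rcases hX with h5 | ⟨τ, h6, -⟩
    · refine false_w3 h h5 (g := g) (fun x hx => ?_) h11
      simp only [Set.mem_insert_iff, Set.mem_singleton_iff] at hx
      rcases hx with rfl | rfl | rfl | rfl | rfl
      · rw [hy, ← e_y0]; exact facts.w3_gen 282 (by simp)
      · rw [h1, ← e_v7]; exact facts.w3_gen 266 (by simp)
      · rw [h2]; exact facts.w3_gen 206 (by simp)
      · rcases h3 with h3 | h3
        · rw [h3]; exact facts.w3_gen 26 (by simp)
        · rw [h3]; exact facts.w3_gen 18 (by simp)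
      · rw [h4]; exact facts.w3_gen 17 (by simp)
    · obtain ⟨h7, h8⟩ := hτ τ h6
      have h9 := h8 v (by simp)
      rw [h1] at h9
      have h10 := h8 a (by simp)
      rw [h2] at h10
      have h11' := T_a7a hcard h7 h9 h10
      simp only [List.map_cons, List.map_nil, List.mem_singleton] at h11'
      have h12 := h8 b (by simp)
      rw [h11', ← h4] at h12
      exact hT'.bc_ne h12.symm

theorem excl_A8 (hcard : Nat.card {t // TY t} ≤ 10296) (hfive : Five) : Excl (alternatingGroup (Fin 8)) := by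
  intro M S h e
  have hdvd : Nat.card M ∣ 40320 := card_dvd h (n := 8) (by norm_num) (by norm_num) e
  have h23 : ¬ 23 ∣ Nat.card M := fun h1 => by have := h1.trans hdvd; revert this; decide
  obtain ⟨y, v, a, b, c, d, hT, hS, hM⟩ := alt8 h e
  obtain ⟨g, hy, hva⟩ := hfive y v a hT.toT5
  have hT' := hT.map (f := (MulAut.conj g).toMonoidHom) (MulAut.conj g).injective
  have hcj : ∀ x : 𝒢, (MulAut.conj g).toMonoidHom x = g * x * g⁻¹ := fun x => rfl
  simp only [hcj, hy] at hT'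
  have hX : M ≤ Subgroup.closure {y, v, a, b, c, d} ∨ ∃ τ, Tau τ y [v, a, b, c, d] ∧
      M ≤ Subgroup.closure (insert τ {y, v, a, b, c, d}) := by
    rcases hM with h1 | ⟨τ, h1, h2⟩
    · left; rw [h1, hS]
    · right
      refine ⟨τ, h1, ?_⟩
      rw [h2, hS]
      refine sup_le (Subgroup.closure_mono (Set.subset_insert _ _)) (Subgroup.closure_mono ?_)
      exact Set.singleton_subset_iff.2 (Set.mem_insert _ _)
  have hτ : ∀ τ, Tau τ y [v, a, b, c, d] → TY (g * τ * g⁻¹) ∧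
      ∀ x ∈ [v, a, b, c, d], g * τ * g⁻¹ * (g * x * g⁻¹) = g * x * g⁻¹ * (g * τ * g⁻¹) := by
    intro τ h1
    have h2 := h1.map (MulAut.conj g).toMonoidHom (MulAut.conj g).injective
    simp only [hcj] at h2
    rw [hy] at h2
    exact ⟨⟨h2.sq, h2.inv⟩, fun x hx => h2.comm _ (List.mem_map.2 ⟨x, hx, rfl⟩)⟩
  rcases seven hcard hT'.toT7 hva with ⟨h1, h2⟩ | ⟨h1, h2⟩ | ⟨h1, h2, h3, h4⟩
  · -- class 3
    have hb : ∀ t : 𝒢, TY t → t * (g * v * g⁻¹) = g * v * g⁻¹ * t → ra (toVec 112 p0) t = toVec 112 p0 := by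
      intro t h3 h4
      rw [h1] at h4
      exact p0_lst (Or.inl (comm3 hcard h3 h4))
    have hall : ∀ x ∈ ({y, v, a, b, c, d} : Set 𝒢), ra (toVec 112 p0) (g * x * g⁻¹) = toVec 112 p0 := by
      intro x hx
      simp only [Set.mem_insert_iff, Set.mem_singleton_iff] at hx
      rcases hx with rfl | rfl | rfl | rfl | rfl | rfl
      · rw [hy, ← e_y0]; exact facts.p0_gen 282 (by simp)
      · rw [h1, ← e_v3]; exact facts.p0_gen 270 (by simp)
      · rw [h2]; exact facts.p0_gen 235 (by simp)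
      · exact hb _ ⟨hT'.bsq, hT'.binv⟩ hT'.bv
      · exact hb _ ⟨hT'.csq, hT'.cinv⟩ hT'.cv
      · exact hb _ ⟨hT'.dsq, hT'.dinv⟩ hT'.dv
    rcases hX with h5 | ⟨τ, h6, h5⟩
    · exact false_p0 h h5 hall h23
    · refine false_p0 h h5 (g := g) (fun x hx => ?_) h23
      rcases Set.mem_insert_iff.1 hx with rfl | hx
      · exact hb _ (hτ x h6).1 ((hτ x h6).2 v (by simp))
      · exact hall x hx
  · -- class 4
    have hb : ∀ t : 𝒢, TY t → t * (g * v * g⁻¹) = g * v * g⁻¹ * t → ra (toVec 112 p0) t = toVec 112 p0 := by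
      intro t h3 h4
      rw [h1] at h4
      exact p0_lst (Or.inr (comm4 hcard h3 h4))
    have hall : ∀ x ∈ ({y, v, a, b, c, d} : Set 𝒢), ra (toVec 112 p0) (g * x * g⁻¹) = toVec 112 p0 := by
      intro x hx
      simp only [Set.mem_insert_iff, Set.mem_singleton_iff] at hx
      rcases hx with rfl | rfl | rfl | rfl | rfl | rfl
      · rw [hy, ← e_y0]; exact facts.p0_gen 282 (by simp)
      · rw [h1, ← e_v4]; exact facts.p0_gen 269 (by simp)
      · rw [h2]; exact facts.p0_gen 228 (by simp)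
      · exact hb _ ⟨hT'.bsq, hT'.binv⟩ hT'.bv
      · exact hb _ ⟨hT'.csq, hT'.cinv⟩ hT'.cv
      · exact hb _ ⟨hT'.dsq, hT'.dinv⟩ hT'.dv
    rcases hX with h5 | ⟨τ, h6, h5⟩
    · exact false_p0 h h5 hall h23
    · refine false_p0 h h5 (g := g) (fun x hx => ?_) h23
      rcases Set.mem_insert_iff.1 hx with rfl | hx
      · exact hb _ (hτ x h6).1 ((hτ x h6).2 v (by simp))
      · exact hall x hx
  · -- class 7: `d = c`
    have h5 : TY (g * d * g⁻¹) := ⟨hT'.dsq, hT'.dinv⟩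
    have h6 := hT'.dv
    rw [h1] at h6
    have h7 := hT'.da
    rw [h2] at h7
    have h8 := T_a7a hcard h5 h6 h7
    simp only [List.map_cons, List.map_nil, List.mem_singleton] at h8
    have h9 := hT'.db
    rw [h8, ← h4] at h9
    exact hT'.toT7.bc_ne h9.symm

end Cfsg.Agent.H856.JM.A78
end

-- part: H820/JM/SwapM22
section
/-!
# The involutions of `M24` which swap two given points (helper820, S5580)

`ncard_swap` : there are at most `1716 = 330 + 1386` involutions of `M24` mapping `none` to `some 0`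
(double counting with the two classes of involutions, `11385 * 16 + 31878 * 24 = 24 * 23 * 1716`).
-/

set_option autoImplicit false

open Cfsg

namespace Cfsg.Agent.H820.JM

open Cfsg.Agent.H866.InvolType Cfsg.Agent.J4.M24InvolData Cfsg.Agent.J4.M24Invol
open Cfsg.Agent.SporadicStructure.M24El
open Cfsg.Agent.KFacts.M24Two.Count (z w)

/-- the elements of order at most two mapping `a` to `b` -/
def Swp (a b : GolayPt) : Set M24 := {u | u * u = 1 ∧ u • a = b}

theorem ncard_Swp_smul (g : M24) (a b : GolayPt) : (Swp (g • a) (g • b)).ncard = (Swp a b).ncard := by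
  symm
  refine Set.ncard_congr (fun u _ => g * u * g⁻¹) ?_ ?_ ?_
  · rintro u ⟨h1, h2⟩
    refine ⟨?_, ?_⟩
    · calc g * u * g⁻¹ * (g * u * g⁻¹) = g * (u * u) * g⁻¹ := by group
        _ = 1 := by rw [h1]; group
    · rw [mul_smul, inv_smul_smul, mul_smul, h2]
  · intro u v _ _ h
    exact mul_left_cancel (mul_right_cancel h)
  · rintro u ⟨h1, h2⟩
    refine ⟨g⁻¹ * u * g, ⟨?_, ?_⟩, by group⟩
    · calc g⁻¹ * u * g * (g⁻¹ * u * g) = g⁻¹ * (u * u) * g := by group
        _ = 1 := by rw [h1]; group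
    · rw [mul_smul, mul_smul, h2, inv_smul_smul]

theorem two_transitive {a b : GolayPt} (h : a ≠ b) : ∃ g : M24, g • (none : GolayPt) = a ∧ g • (some 0 : GolayPt) = b := by
  have h5 : MulAction.IsMultiplyPretransitive M24 GolayPt 5 := Cfsg.Agent.SporadicA.M24Trans.five_transitive
  have hc : Nat.card GolayPt = 24 := by
    rw [Nat.card_eq_fintype_card]; decide
  have h2 : MulAction.IsMultiplyPretransitive M24 GolayPt 2 :=
    MulAction.isMultiplyPretransitive_of_le (n := 5) (by norm_num) (by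
      rw [hc]; norm_num)
  exact (MulAction.is_two_pretransitive_iff.1 h2) (by decide) h

theorem ncard_Swp {a b : GolayPt} (h : a ≠ b) : (Swp a b).ncard = (Swp none (some 0)).ncard := by
  obtain ⟨g, h1, h2⟩ := two_transitive h
  rw [← h1, ← h2, ncard_Swp_smul]

theorem ncard_z : {u : M24 | IsConj z u}.ncard = 11385 := by
  rw [Cfsg.Agent.Blocks.Induced.ncard_conj_eq_index]
  have h := (Subgroup.centralizer ({z} : Set M24)).card_mul_index
  rw [Cfsg.Agent.KFacts.M24Two.Orders.card_centralizer_z, Cfsg.Agent.SporadicA.M24Trans.card_M24] at h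
  omega

theorem ncard_w : {u : M24 | IsConj w u}.ncard = 31878 := by
  rw [Cfsg.Agent.Blocks.Induced.ncard_conj_eq_index]
  have h := (Subgroup.centralizer ({w} : Set M24)).card_mul_index
  rw [Cfsg.Agent.KFacts.M24Two.Orders.card_centralizer_w, Cfsg.Agent.SporadicA.M24Trans.card_M24] at h
  omega

theorem kinds (u : M24) (h2 : u * u = 1) (h1 : u ≠ 1) :
    (IsConj z u ∧ fx (u : Equiv.Perm GolayPt) = 8) ∨ (IsConj w u ∧ fx (u : Equiv.Perm GolayPt) = 0) := by
  have ho : orderOf (u : Equiv.Perm GolayPt) = 2 := by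
    refine orderOf_eq_prime ?_ (fun h => h1 (Subtype.ext h))
    rw [pow_two]
    exact congrArg Subtype.val h2
  obtain ⟨h, hh, ⟨e, e0⟩ | ⟨e, e0⟩⟩ := invol_type u.2 ho
  · left
    refine ⟨?_, e0⟩
    refine (isConj_iff.2 ⟨⟨h, hh⟩, Subtype.ext ?_⟩ : IsConj u z).symm
    show h * (u : Equiv.Perm GolayPt) * h⁻¹ = (el P1 : Equiv.Perm GolayPt)
    rw [e, coe_el_P1]
  · right
    refine ⟨?_, e0⟩
    refine (isConj_iff.2 ⟨⟨h, hh⟩, Subtype.ext ?_⟩ : IsConj u w).symm
    show h * (u : Equiv.Perm GolayPt) * h⁻¹ = (el P2 : Equiv.Perm GolayPt)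
    rw [e, coe_el_P2]

theorem ncard_swap : (Swp none (some 0)).ncard ≤ 1716 := by
  classical
  have hfin : Fintype M24 := Fintype.ofFinite _
  let I : Finset M24 := Finset.univ.filter fun u => u * u = 1
  let O : Finset (GolayPt × GolayPt) := (Finset.univ : Finset GolayPt).offDiag
  have hO : O.card = 552 := by
    show ((Finset.univ : Finset GolayPt).offDiag).card = 552
    rw [Finset.offDiag_card, Finset.card_univ]
    decide
  have hb := Finset.sum_card_bipartiteAbove_eq_sum_card_bipartiteBelow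
    (s := I) (t := O) (fun (u : M24) (p : GolayPt × GolayPt) => u • p.1 = p.2)
  have h1 : ∀ p ∈ O, (Finset.bipartiteBelow (fun (u : M24) (p : GolayPt × GolayPt) => u • p.1 = p.2) I p).card =
      (Swp none (some 0)).ncard := by
    rintro ⟨a, b⟩ hp
    have hab : a ≠ b := (Finset.mem_offDiag.1 hp).2.2
    rw [← ncard_Swp hab, ← Set.ncard_coe_finset]
    congr 1
    ext u
    simp [Finset.bipartiteBelow, I, Swp]
  rw [Finset.sum_congr rfl h1, Finset.sum_const, hO, smul_eq_mul] at hb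
  have h2 : ∀ u ∈ I, (Finset.bipartiteAbove (fun (u : M24) (p : GolayPt × GolayPt) => u • p.1 = p.2) O u).card ≤
      (if IsConj z u then 16 else 0) + (if IsConj w u then 24 else 0) := by
    intro u hu
    have hu2 : u * u = 1 := (Finset.mem_filter.1 hu).2
    have h3 : (Finset.bipartiteAbove (fun (u : M24) (p : GolayPt × GolayPt) => u • p.1 = p.2) O u).card =
        (Finset.univ.filter fun p : GolayPt => ¬ (u : Equiv.Perm GolayPt) p = p).card := by
      refine Finset.card_bij (fun p _ => p.1) ?_ ?_ ?_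
      · rintro ⟨a, b⟩ hp
        rw [Finset.mem_bipartiteAbove] at hp
        refine Finset.mem_filter.2 ⟨Finset.mem_univ _, fun h => ?_⟩
        have h4 : u • a = b := hp.2
        exact (Finset.mem_offDiag.1 hp.1).2.2 (h.symm.trans h4)
      · rintro ⟨a, b⟩ hp ⟨c, d⟩ hq h
        rw [Finset.mem_bipartiteAbove] at hp hq
        have h4 : u • a = b := hp.2
        have h5 : u • c = d := hq.2
        have h6 : a = c := h
        rw [Prod.mk.injEq, ← h4, ← h5, h6]
        exact ⟨rfl, rfl⟩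
      · intro a ha
        refine ⟨(a, u • a), ?_, rfl⟩
        rw [Finset.mem_bipartiteAbove]
        exact ⟨Finset.mem_offDiag.2 ⟨Finset.mem_univ _, Finset.mem_univ _,
          fun h => (Finset.mem_filter.1 ha).2 h.symm⟩, rfl⟩
    have h4 := Finset.card_filter_add_card_filter_not (s := (Finset.univ : Finset GolayPt))
      (p := fun p => (u : Equiv.Perm GolayPt) p = p)
    have h5 : (Finset.univ : Finset GolayPt).card = 24 := by rw [Finset.card_univ]; decide
    rw [h5] at h4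
    rw [h3]
    by_cases hu1 : u = 1
    · subst hu1
      have : (Finset.univ.filter fun p : GolayPt => ¬ ((1 : M24) : Equiv.Perm GolayPt) p = p).card = 0 := by
        rw [Finset.card_eq_zero, Finset.filter_eq_empty_iff]
        intro p _ h
        exact h rfl
      omega
    · rcases kinds u hu2 hu1 with ⟨hc, hf⟩ | ⟨hc, hf⟩
      · unfold fx at hf
        rw [if_pos hc]
        omega
      · unfold fx at hf
        rw [if_pos hc]
        omega
  have h6 := Finset.sum_le_sum h2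
  rw [hb, Finset.sum_add_distrib, ← Finset.sum_filter, ← Finset.sum_filter, Finset.sum_const,
    Finset.sum_const, smul_eq_mul, smul_eq_mul] at h6
  have h7 : (I.filter fun u => IsConj z u).card ≤ 11385 := by
    rw [← ncard_z, ← Set.ncard_coe_finset]
    refine Set.ncard_le_ncard ?_ (Set.toFinite _)
    intro u hu
    exact (Finset.mem_filter.1 (Finset.mem_coe.1 hu)).2
  have h8 : (I.filter fun u => IsConj w u).card ≤ 31878 := by
    rw [← ncard_w, ← Set.ncard_coe_finset]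
    refine Set.ncard_le_ncard ?_ (Set.toFinite _)
    intro u hu
    exact (Finset.mem_filter.1 (Finset.mem_coe.1 hu)).2
  omega

/-- the same for permutations -/
theorem ncard_swap_perm : {u : Equiv.Perm GolayPt | u ∈ M24 ∧ u * u = 1 ∧ u none = some 0}.ncard ≤ 1716 := by
  refine le_trans ?_ ncard_swap
  have h : {u : Equiv.Perm GolayPt | u ∈ M24 ∧ u * u = 1 ∧ u none = some 0} =
      (fun u : M24 => (u : Equiv.Perm GolayPt)) '' Swp none (some 0) := by
    ext u
    constructor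
    · rintro ⟨h1, h2, h3⟩
      exact ⟨⟨u, h1⟩, ⟨Subtype.ext h2, h3⟩, rfl⟩
    · rintro ⟨v, ⟨h2, h3⟩, rfl⟩
      exact ⟨v.2, congrArg Subtype.val h2, h3⟩
  rw [h]
  exact Set.ncard_image_le (Set.toFinite _)

end Cfsg.Agent.H820.JM
end

-- part: H820/JM/TyCount
section
/-!
# The involutions inverting an element of order 3 of `J4` (helper820, S5580)

`ncard_invert_le` : in a simple group of Janko-four type an element of order 3 is inverted by at most
`10296 = 6 * 1716` involutions (its normalizer modulo the centre of its centralizer is `Aut(M22)`).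
-/

set_option autoImplicit false

open Cfsg

namespace Cfsg.Agent.H820.JM

open Cfsg.Agent.BabyM.DuadGen (duad mem_duad)
open scoped commutatorElement
open Cfsg.Agent.SporadicA.MathieuRecog (mem_M22_iff card_M22 simple_M22)

/-- Abstract form: `C` a group with a homomorphism `f` into the duad stabiliser, `K` a perfect subgroup whose
elements commute with `p`, `6 * |M22| ≤ |K|`, every element of the kernel of `f` normalizing `⟨p⟩` commutes with
`p` and there are at most 6 of these. -/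
theorem ncard_le_of_hom {C : Type*} [Group C] [Finite C] (f : C →* Equiv.Perm GolayPt)
    (hf : ∀ c, f c ∈ duad) (p : C) (K : Subgroup C) (hK : ⁅K, K⁆ = K) (hKp : ∀ k ∈ K, k * p = p * k)
    (hcard : 6 * 443520 ≤ Nat.card K)
    (hp : p ≠ p⁻¹)
    (hker : {c : C | f c = 1 ∧ c * p = p * c}.ncard ≤ 6)
    (hkn : ∀ c : C, f c = 1 → (c * p * c⁻¹ = p ∨ c * p * c⁻¹ = p⁻¹) → c * p = p * c) :
    {t : C | t * t = 1 ∧ t * p * t⁻¹ = p⁻¹}.ncard ≤ 10296 := by
  classical
  -- the image of `K` is `M22`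
  have hKM : K.map f = Spor.M22 := by
    have h1 : K.map f ≤ Spor.M22 := by
      rw [← hK, Subgroup.map_commutator, Subgroup.commutator_le]
      rintro a ⟨x, -, rfl⟩ b ⟨y, -, rfl⟩
      rw [mem_M22_iff]
      have key : ∀ u v : Equiv.Perm GolayPt, u ∈ duad → v ∈ duad → ⁅u, v⁆ none = none ∧ ⁅u, v⁆ (some 0) = some 0 := by
        intro u v hu hv
        have hui := duad.inv_mem hu
        have hvi := duad.inv_mem hv
        rw [commutatorElement_def, Equiv.Perm.mul_apply, Equiv.Perm.mul_apply, Equiv.Perm.mul_apply,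
          Equiv.Perm.mul_apply, Equiv.Perm.mul_apply, Equiv.Perm.mul_apply]
        have inv_fix : ∀ w : Equiv.Perm GolayPt, (w none = none ∧ w (some 0) = some 0) →
            w⁻¹ none = none ∧ w⁻¹ (some 0) = some 0 := by
          rintro w ⟨h1, h2⟩
          exact ⟨by rw [Equiv.Perm.inv_eq_iff_eq, h1], by rw [Equiv.Perm.inv_eq_iff_eq, h2]⟩
        have inv_sw : ∀ w : Equiv.Perm GolayPt, (w none = some 0 ∧ w (some 0) = none) →
            w⁻¹ none = some 0 ∧ w⁻¹ (some 0) = none := by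
          rintro w ⟨h1, h2⟩
          exact ⟨by rw [Equiv.Perm.inv_eq_iff_eq, h2], by rw [Equiv.Perm.inv_eq_iff_eq, h1]⟩
        rcases (mem_duad.1 hu).2 with h | h <;> rcases (mem_duad.1 hv).2 with h' | h'
        · obtain ⟨a1, a2⟩ := inv_fix u h
          obtain ⟨b1, b2⟩ := inv_fix v h'
          rw [b1, b2, a1, a2, h'.1, h'.2, h.1, h.2]
          exact ⟨rfl, rfl⟩
        · obtain ⟨a1, a2⟩ := inv_fix u h
          obtain ⟨b1, b2⟩ := inv_sw v h'
          rw [b1, b2, a1, a2, h'.1, h'.2, h.1, h.2]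
          exact ⟨rfl, rfl⟩
        · obtain ⟨a1, a2⟩ := inv_sw u h
          obtain ⟨b1, b2⟩ := inv_fix v h'
          rw [b1, b2, a1, a2, h'.1, h'.2, h.1, h.2]
          exact ⟨rfl, rfl⟩
        · obtain ⟨a1, a2⟩ := inv_sw u h
          obtain ⟨b1, b2⟩ := inv_sw v h'
          rw [b1, b2, a1, a2, h'.1, h'.2, h.1, h.2]
          exact ⟨rfl, rfl⟩
      refine ⟨?_, key _ _ (hf x) (hf y)⟩
      have hx := (mem_duad.1 (hf x)).1
      have hy := (mem_duad.1 (hf y)).1
      rw [commutatorElement_def]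
      exact M24.mul_mem (M24.mul_mem (M24.mul_mem hx hy) (M24.inv_mem hx)) (M24.inv_mem hy)
    refine Subgroup.eq_of_le_of_card_ge h1 ?_
    rw [card_M22]
    -- the order
    let fK : K →* Equiv.Perm GolayPt := f.comp K.subtype
    have h2 : fK.range = K.map f := by
      rw [MonoidHom.range_comp, Subgroup.range_subtype]
    have h3 : Nat.card fK.ker * Nat.card (K.map f) = Nat.card K := by
      rw [← h2, ← Subgroup.index_ker, Subgroup.card_mul_index]
    have h4 : Nat.card fK.ker ≤ 6 := by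
      refine le_trans ?_ hker
      rw [← Nat.card_coe_set_eq]
      refine Nat.card_le_card_of_injective (fun c => ⟨((c : K) : C), ?_, ?_⟩) ?_
      · exact c.2
      · exact hKp _ (c : K).2
      · intro a b h
        have h' : ((a : K) : C) = ((b : K) : C) := Subtype.mk.inj h
        exact Subtype.ext (Subtype.ext h')
    by_contra hlt
    rw [not_le] at hlt
    have h5 : Nat.card fK.ker * Nat.card (K.map f) ≤ 6 * Nat.card (K.map f) := Nat.mul_le_mul_right _ h4
    omega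
  -- the map
  have hfin : Fintype C := Fintype.ofFinite _
  let T : Finset C := Finset.univ.filter fun t => t * t = 1 ∧ t * p * t⁻¹ = p⁻¹
  have hT : {t : C | t * t = 1 ∧ t * p * t⁻¹ = p⁻¹} = (T : Set C) := by
    ext t
    simp [T]
  have himg : (T.image f).card ≤ 1716 := by
    refine le_trans ?_ ncard_swap_perm
    rw [← Set.ncard_coe_finset]
    refine Set.ncard_le_ncard ?_ (Set.toFinite _)
    rintro _ hb
    obtain ⟨t, ht, rfl⟩ := Finset.mem_image.1 (Finset.mem_coe.1 hb)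
    obtain ⟨h2, hi⟩ := (Finset.mem_filter.1 ht).2
    refine ⟨(mem_duad.1 (hf t)).1, by rw [← map_mul, h2, map_one], ?_⟩
    rcases (mem_duad.1 (hf t)).2 with h | h
    · exfalso
      have h3 : f t ∈ K.map f := by
        rw [hKM, mem_M22_iff]
        exact ⟨(mem_duad.1 (hf t)).1, h.1, h.2⟩
      obtain ⟨k, hk, hkt⟩ := h3
      have hkp := hKp k hk
      have h4 : k⁻¹ * t * p * (k⁻¹ * t)⁻¹ = p⁻¹ := by
        calc k⁻¹ * t * p * (k⁻¹ * t)⁻¹ = k⁻¹ * (t * p * t⁻¹) * k := by group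
          _ = (k⁻¹ * (p * k))⁻¹ := by rw [hi]; group
          _ = p⁻¹ := by rw [← hkp]; group
      have h5 : (k⁻¹ * t) * p = p * (k⁻¹ * t) := by
        refine hkn _ ?_ (Or.inr h4)
        rw [map_mul, map_inv, hkt, inv_mul_cancel]
      rw [h5, mul_inv_cancel_right] at h4
      exact hp h4
    · exact h.1
  have hfib : ∀ b ∈ T.image f, (T.filter fun x => f x = b).card ≤ 6 := by
    intro b hb
    obtain ⟨t, ht, rfl⟩ := Finset.mem_image.1 hb
    obtain ⟨h2, hi⟩ := (Finset.mem_filter.1 ht).2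
    refine le_trans ?_ hker
    rw [← Set.ncard_coe_finset]
    refine Set.ncard_le_ncard_of_injOn (fun x => t⁻¹ * x) ?_ (fun a _ b _ h => mul_left_cancel h) (Set.toFinite _)
    intro x hx
    obtain ⟨hx1, hx2⟩ := Finset.mem_filter.1 (Finset.mem_coe.1 hx)
    obtain ⟨hx3, hx4⟩ := (Finset.mem_filter.1 hx1).2
    have h1 : f (t⁻¹ * x) = 1 := by rw [map_mul, map_inv, hx2, inv_mul_cancel]
    refine ⟨h1, hkn _ h1 (Or.inl ?_)⟩
    have h3 : t⁻¹ * p⁻¹ * t = p := by
      rw [← hi]; group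
    calc t⁻¹ * x * p * (t⁻¹ * x)⁻¹ = t⁻¹ * (x * p * x⁻¹) * t := by group
      _ = p := by rw [hx4, h3]
  have := Finset.card_le_mul_card_image T 6 hfib
  rw [hT, Set.ncard_coe_finset]
  omega

/-- **At most 10296 involutions invert an element of order 3 of `J4`.** -/
theorem ncard_invert_le {G : Type*} [Group G] [Finite G] [IsSimpleGroup G] (hG : ¬ IsMulCommutative G)
    (hJ : Cfsg.IsOfJankoFourType G) {x : G} (hx : orderOf x = 3) :
    {t : G | t * t = 1 ∧ t * x * t⁻¹ = x⁻¹}.ncard ≤ 10296 := by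
  classical
  have hconj := Cfsg.Agent.S5564.result hG hJ
  obtain ⟨z, P, h⟩ := hJ
  obtain ⟨hperf, -, hc6, h22, hN⟩ := Cfsg.Agent.S5563.result hG z P h
  obtain ⟨hz, hE, hEcard, hCE, ⟨N, hEN, hNC, hnor, hNcard, ⟨hnorm, ⟨e⟩⟩, hPN⟩, hP3, hEP, -, -⟩ := h
  have h3f : Fact (Nat.Prime 3) := ⟨Nat.prime_three⟩
  obtain ⟨⟨p, hpP⟩, hp⟩ := exists_prime_orderOf_dvd_card' (G := P) 3 (by rw [hP3])
  rw [Subgroup.orderOf_mk] at hp
  have hPp : P = Subgroup.zpowers p := by
    symm
    apply Subgroup.eq_of_le_of_card_ge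
    · rw [Subgroup.zpowers_le]; exact hpP
    · rw [hP3, Nat.card_zpowers, hp]
  obtain ⟨g, hg⟩ := isConj_iff.1 (hconj x p hx hp)
  set C : Subgroup G := Subgroup.centralizer ({z} : Set G) with hC
  set E : Subgroup G := twoCoreOfCentralizer z with hEdef
  have hpC : p ∈ C := hNC (hPN hpP)
  -- `E` is normal in `C`
  have hEn : ∀ c ∈ C, ∀ a ∈ E, c * a * c⁻¹ ∈ E := by
    rintro c hc a ⟨⟨a', ha'C⟩, ha', rfl⟩
    have hn : (pCore 2 ↥C).Normal := Cfsg.Agent.Lib.Cores.pCore_normal 2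
    exact ⟨⟨c, hc⟩ * ⟨a', ha'C⟩ * (⟨c, hc⟩ : C)⁻¹, hn.conj_mem _ ha' _, rfl⟩
  have hpE : p ∉ E := by
    intro hpE
    have h1 : orderOf (⟨p, hpE⟩ : E) ∣ Nat.card E := orderOf_dvd_natCard _
    rw [Subgroup.orderOf_mk, hp, hEcard] at h1
    exact absurd h1 (by norm_num)
  have hp3 : p * p * p = 1 := by
    have := pow_orderOf_eq_one p
    rwa [hp, pow_succ, pow_two] at this
  have hrel : E.relIndex N = 3 := by
    have h1 := (E.subgroupOf N).card_mul_index
    rw [Nat.card_congr (Subgroup.subgroupOfEquivOfLe hEN).toEquiv, hNcard, mul_comm 3] at h1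
    exact Nat.eq_of_mul_eq_mul_left Nat.card_pos h1
  -- membership in `N_G(P)`
  have hnP : ∀ t : G, (t * p * t⁻¹ = p ∨ t * p * t⁻¹ = p⁻¹) → t ∈ C := by
    intro t ht
    refine hN ?_
    have hle : ∀ a ∈ P, t * a * t⁻¹ ∈ P := by
      intro a ha
      rw [hPp] at ha ⊢
      obtain ⟨k, rfl⟩ := Subgroup.mem_zpowers_iff.1 ha
      have h1 : t * p ^ k * t⁻¹ = (t * p * t⁻¹) ^ k := conj_zpow.symm
      rw [h1]
      rcases ht with ht | ht
      · rw [ht]
        exact Subgroup.mem_zpowers_iff.2 ⟨k, rfl⟩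
      · rw [ht]
        exact Subgroup.mem_zpowers_iff.2 ⟨-k, by rw [inv_zpow, zpow_neg]⟩
    have hmap : P.map (MulAut.conj t).toMonoidHom = P := by
      refine Subgroup.eq_of_le_of_card_ge ?_ ?_
      · rintro _ ⟨a, ha, rfl⟩
        exact hle a ha
      · rw [Subgroup.card_map_of_injective (MulAut.conj t).injective]
    rw [Subgroup.mem_normalizer_iff]
    intro a
    refine ⟨hle a, fun ha => ?_⟩
    rw [← hmap] at ha
    obtain ⟨b, hb, hba⟩ := ha
    have h2 : t * b * t⁻¹ = t * a * t⁻¹ := hba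
    rw [← mul_left_cancel (mul_right_cancel h2)]
    exact hb
  -- the homomorphism
  let f : ↥C →* Equiv.Perm GolayPt :=
    Cfsg.Agent.H856.AutM22.autHom.comp (e.toMonoidHom.comp (QuotientGroup.mk' (N.subgroupOf C)))
  have hf1 : ∀ c : C, f c = 1 ↔ (c : G) ∈ N := by
    intro c
    have h1 : f c = 1 ↔ QuotientGroup.mk' (N.subgroupOf C) c = 1 := by
      constructor
      · intro h
        have h2 : Cfsg.Agent.H856.AutM22.autHom (e (QuotientGroup.mk' (N.subgroupOf C) c)) =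
            Cfsg.Agent.H856.AutM22.autHom 1 := by rw [map_one]; exact h
        have h3 := Cfsg.Agent.H856.AutM22.autHom_injective h2
        exact e.injective (h3.trans (map_one e).symm)
      · intro h
        show Cfsg.Agent.H856.AutM22.autHom (e (QuotientGroup.mk' (N.subgroupOf C) c)) = 1
        rw [h, map_one, map_one]
    rw [h1, QuotientGroup.mk'_apply, QuotientGroup.eq_one_iff, Subgroup.mem_subgroupOf]
  have hPcent : ∀ c : G, c ∈ Subgroup.centralizer (P : Set G) ↔ c * p = p * c := by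
    intro c
    rw [hPp, Subgroup.mem_centralizer_iff]
    constructor
    · intro h1
      exact (h1 p (Subgroup.mem_zpowers p)).symm
    · intro h1 a ha
      obtain ⟨k, rfl⟩ := Subgroup.mem_zpowers_iff.1 ha
      exact (show Commute p c from h1.symm).zpow_left k
  have key := ncard_le_of_hom f (fun c => by
      rw [← Cfsg.Agent.H856.AutM22.autHom_range]
      exact ⟨_, rfl⟩) ⟨p, hpC⟩ ((C ⊓ Subgroup.centralizer (P : Set G)).subgroupOf C) ?_ ?_ ?_ ?_ ?_ ?_
  · -- transport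
    refine le_trans ?_ key
    refine Set.ncard_le_ncard_of_injOn (fun t => if ht : g * t * g⁻¹ ∈ C then ⟨g * t * g⁻¹, ht⟩ else 1)
      ?_ ?_ (Set.toFinite _)
    · rintro t ⟨h2, hi⟩
      have hi' : g * t * g⁻¹ * p * (g * t * g⁻¹)⁻¹ = p⁻¹ := by
        rw [← hg]
        calc g * t * g⁻¹ * (g * x * g⁻¹) * (g * t * g⁻¹)⁻¹ = g * (t * x * t⁻¹) * g⁻¹ := by group
          _ = _ := by rw [hi]; group
      have ht := hnP _ (Or.inr hi')
      simp only [ht, dite_true]
      refine ⟨Subtype.ext ?_, Subtype.ext hi'⟩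
      show g * t * g⁻¹ * (g * t * g⁻¹) = 1
      calc g * t * g⁻¹ * (g * t * g⁻¹) = g * (t * t) * g⁻¹ := by group
        _ = 1 := by rw [h2]; group
    · rintro t ⟨-, hi⟩ s ⟨-, hj⟩ h0
      have hi' : g * t * g⁻¹ * p * (g * t * g⁻¹)⁻¹ = p⁻¹ := by
        rw [← hg]
        calc g * t * g⁻¹ * (g * x * g⁻¹) * (g * t * g⁻¹)⁻¹ = g * (t * x * t⁻¹) * g⁻¹ := by group
          _ = _ := by rw [hi]; group
      have hj' : g * s * g⁻¹ * p * (g * s * g⁻¹)⁻¹ = p⁻¹ := by
        rw [← hg]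
        calc g * s * g⁻¹ * (g * x * g⁻¹) * (g * s * g⁻¹)⁻¹ = g * (s * x * s⁻¹) * g⁻¹ := by group
          _ = _ := by rw [hj]; group
      have ht := hnP _ (Or.inr hi')
      have hs := hnP _ (Or.inr hj')
      simp only [ht, hs, dite_true] at h0
      have h4 : g * t * g⁻¹ = g * s * g⁻¹ := congrArg Subtype.val h0
      exact mul_left_cancel (mul_right_cancel h4)
  · -- perfect
    apply Subgroup.map_injective C.subtype_injective
    rw [Subgroup.map_commutator, Subgroup.map_subgroupOf_eq_of_le inf_le_left]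
    exact hperf
  · intro k hk
    exact Subtype.ext ((hPcent k).1 (Subgroup.mem_subgroupOf.1 hk).2)
  · rw [Nat.card_congr (Subgroup.subgroupOfEquivOfLe inf_le_left).toEquiv]
    obtain ⟨e2⟩ := h22
    have h1 := Subgroup.card_eq_card_quotient_mul_card_subgroup
      (Subgroup.center ↥(C ⊓ Subgroup.centralizer (P : Set G)))
    rw [Nat.card_congr e2.toEquiv, card_M22, hc6] at h1
    omega
  · intro h1
    have h2 : p = p⁻¹ := congrArg Subtype.val h1
    have h3 : p * p = 1 := by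
      nth_rewrite 2 [h2]
      exact mul_inv_cancel p
    rw [h3, one_mul] at hp3
    rw [hp3, orderOf_one] at hp
    exact absurd hp (by norm_num)
  · -- the kernel
    have h1 : Nat.card (N ⊓ Subgroup.centralizer (P : Set G) : Subgroup G) ≤ 6 := by
      have h2 := (E.subgroupOf (N ⊓ Subgroup.centralizer (P : Set G))).card_mul_index
      have h3 : (E.subgroupOf (N ⊓ Subgroup.centralizer (P : Set G))).index ≤ 3 := by
        rw [← hrel]
        exact Subgroup.relIndex_le_of_le_right inf_le_left (by rw [hrel]; norm_num)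
      have h4 : Nat.card (E.subgroupOf (N ⊓ Subgroup.centralizer (P : Set G))) ≤ 2 := by
        have h5 : Nat.card (Subgroup.zpowers z) = 2 := by rw [Nat.card_zpowers, hz]
        rw [← h5, ← hEP]
        refine Nat.card_le_card_of_injective (fun c => ⟨((c : (N ⊓ Subgroup.centralizer (P : Set G) :
          Subgroup G)) : G), Subgroup.mem_subgroupOf.1 c.2, (c : (N ⊓ Subgroup.centralizer (P : Set G) :
          Subgroup G)).2.2⟩) ?_
        intro a b h
        have h' : ((a : (N ⊓ Subgroup.centralizer (P : Set G) : Subgroup G)) : G) = b := Subtype.mk.inj h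
        exact Subtype.ext (Subtype.ext h')
      rw [← h2]
      exact Nat.mul_le_mul h4 h3
    refine le_trans ?_ h1
    rw [← Nat.card_coe_set_eq]
    refine Nat.card_le_card_of_injective (fun c => ⟨(c : C), (hf1 _).1 c.2.1,
      (hPcent _).2 (congrArg Subtype.val c.2.2)⟩) ?_
    intro a b h
    have h' : ((a : C) : G) = ((b : C) : G) := Subtype.mk.inj h
    exact Subtype.ext (Subtype.ext h')
  · intro c hc hcp
    rcases hcp with hcp | hcp
    · rw [mul_inv_eq_iff_eq_mul] at hcp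
      exact hcp
    · exfalso
      have hcN : (c : G) ∈ N := (hf1 c).1 hc
      have hcp' : (c : G) * p * (c : G)⁻¹ = p⁻¹ := congrArg Subtype.val hcp
      have hnE : (E.subgroupOf N).Normal := by
        refine ⟨fun a ha b => ?_⟩
        rw [Subgroup.mem_subgroupOf] at ha ⊢
        exact hEn _ (hNC b.2) _ ha
      have hq : Nat.card (N ⧸ E.subgroupOf N) = 3 := hrel
      have hcyc : IsCyclic (N ⧸ E.subgroupOf N) := isCyclic_of_prime_card hq
      have hcomm : ∀ a b : N ⧸ E.subgroupOf N, a * b = b * a := fun a b =>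
        (IsCyclic.commGroup (α := N ⧸ E.subgroupOf N)).mul_comm a b
      let c' : N := ⟨c, hcN⟩
      let p' : N := ⟨p, hPN hpP⟩
      have h1 : c' * p' * c'⁻¹ = p'⁻¹ := Subtype.ext hcp'
      have h2 : (QuotientGroup.mk (c' * p' * c'⁻¹) : N ⧸ E.subgroupOf N) = QuotientGroup.mk p' := by
        rw [QuotientGroup.mk_mul, QuotientGroup.mk_mul, hcomm (QuotientGroup.mk c'), mul_assoc,
          ← QuotientGroup.mk_mul, mul_inv_cancel, QuotientGroup.mk_one, mul_one]
      rw [h1, QuotientGroup.eq, inv_inv, Subgroup.mem_subgroupOf] at h2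
      have h3 : p * p ∈ E := h2
      have h4 : p * p * (p * p) ∈ E := E.mul_mem h3 h3
      have h5 : p * p * (p * p) = p := by
        rw [← mul_assoc, hp3, one_mul]
      rw [h5] at h4
      exact hpE h4

end Cfsg.Agent.H820.JM
end

-- part: H820/JM/TyCard
section
/-!
# `|T_y| ≤ 10296` in `J4` (helper820, S5580)
-/

set_option autoImplicit false

open Cfsg

namespace Cfsg.Agent.H820.JM

open Cfsg.Agent.H878.JM.Base (y0 y0_cube y0_ne)

theorem simpleJ4 : IsSimpleGroup Cfsg.Spor.J4 := Cfsg.Agent.J4.Final.isSimple_card.1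

theorem cardJ4 : Nat.card Cfsg.Spor.J4 = 86775571046077562880 := Cfsg.Agent.J4.Final.card_J4

instance finiteJ4' : Finite Cfsg.Spor.J4 := Nat.finite_of_card_ne_zero (by rw [cardJ4]; norm_num)

theorem nonabJ4 : ¬ IsMulCommutative Cfsg.Spor.J4 := by
  intro h
  have hs := simpleJ4
  have hc : ∀ a b : Cfsg.Spor.J4, a * b = b * a := fun a b => h.is_comm.comm a b
  have h1 : Subgroup.zpowers y0 = ⊤ := by
    have hn : (Subgroup.zpowers y0).Normal := ⟨fun a ha b => by rw [hc b a, mul_inv_cancel_right]; exact ha⟩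
    rcases hs.eq_bot_or_eq_top_of_normal _ hn with h2 | h2
    · exact absurd (Subgroup.zpowers_eq_bot.1 h2) y0_ne
    · exact h2
  have h2 : Nat.card (Subgroup.zpowers y0) = Nat.card Cfsg.Spor.J4 := by
    rw [h1, Subgroup.card_top]
  have h3 : y0 ^ 3 = 1 := by
    rw [pow_succ, pow_two, mul_assoc]; exact y0_cube
  have h4 : orderOf y0 ≤ 3 := orderOf_le_of_pow_eq_one (by norm_num) h3
  rw [Nat.card_zpowers, cardJ4] at h2
  omega

theorem order_y0 : orderOf y0 = 3 := by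
  refine orderOf_eq_prime ?_ y0_ne
  rw [pow_succ, pow_two, mul_assoc]; exact y0_cube

/-- **(E1)** of S5580 -/
theorem card_TY : Nat.card {t : Cfsg.Spor.J4 // Cfsg.Agent.H111.JM.Env.TY t} ≤ 10296 := by
  have hs := simpleJ4
  have hJ : IsOfJankoFourType Cfsg.Spor.J4 := H337.isOfJankoFourType_of_isoJ4 ⟨MulEquiv.refl _⟩
  have h := ncard_invert_le nonabJ4 hJ order_y0
  rwa [← Nat.card_coe_set_eq] at h

end Cfsg.Agent.H820.JM
end

-- part: H868/JM/SevB
section
/-!
# The Frobenius subgroups of order 21 of `J4`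

For an element `f` of order 7 and an element `y` of order 3 with `y f y⁻¹ = f ^ 2` the pair `(f, y)` is
conjugate to `(f1, y0)`, `(f1⁻¹, y0)`, `(f2, y0)` or `(f2⁻¹, y0)`; the centralizers of `⟨f1, y0⟩` and
`⟨f2, y0⟩`.
-/

set_option autoImplicit false

open Cfsg

namespace Cfsg.Agent.H868.JM

open Cfsg.Agent.Lib Cfsg.Agent.Lib.F2MatGroup
open Cfsg.Agent.J4.Rep112 Cfsg.Agent.J4.Pres Cfsg.Agent.J4.LowerData Cfsg.Agent.J4.Lower
open Cfsg.Agent.J4.M24Hom Cfsg.Agent.J4.Packed Cfsg.Agent.J4.Nodes Cfsg.Agent.J4.Beta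
open Cfsg.Agent.J4.Classes Cfsg.Agent.H858 Cfsg.Agent.H858.VK Cfsg.Agent.H858.Data
open Cfsg.Agent.H858.Elem Cfsg.Agent.H858.Loc7 Cfsg.Agent.H858.Norm57 Cfsg.Agent.H858.Pent

/-- the group `Spor.J4` -/
local notation "𝒢" => Cfsg.Spor.J4

/-! ### The abstract argument -/

section abs

variable {G : Type*} [Group G] {s e₀ c y : G} {I : Subgroup G}

theorem pow_conj (he : e₀ * s = s * s * e₀) (k : ℕ) : e₀ * s ^ k = s ^ (2 * k) * e₀ := by
  induction k with
  | zero => simp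
  | succ k ih =>
    rw [pow_succ, ← mul_assoc, ih, mul_assoc, he, show 2 * (k + 1) = 2 * k + 1 + 1 by ring,
      pow_succ, pow_succ]
    simp only [mul_assoc]

theorem abs_class (hs7 : s ^ 7 = 1)
    (hC : ∀ x : G, x * s = s * x → ∃ k : ℕ, ∃ b ∈ I, x = s ^ k * b)
    (hIs : ∀ b ∈ I, b * s = s * b) (hIe : ∀ b ∈ I, b * e₀ = e₀ * b)
    (he : e₀ * s = s * s * e₀) (he3 : e₀ ^ 3 = 1)
    (h3 : ∀ b ∈ I, b ^ 3 = 1 → b ≠ 1 → ∃ g ∈ I, g * b * g⁻¹ = c)
    (hy : y * s * y⁻¹ = s ^ 2) (hy3 : y ^ 3 = 1) :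
    ∃ g, g * s * g⁻¹ = s ∧ (g * y * g⁻¹ = e₀ ∨ g * y * g⁻¹ = e₀ * c) := by
  have e1 : e₀⁻¹ * s ^ 2 = s * e₀⁻¹ := by
    rw [inv_mul_eq_iff_eq_mul, ← mul_assoc, he, pow_two, mul_assoc, mul_inv_cancel, mul_one]
  have e2 : y * s = s ^ 2 * y := by rw [← hy]; group
  obtain ⟨k, b, hb, hx⟩ := hC (e₀⁻¹ * y) (by rw [mul_assoc, e2, ← mul_assoc, e1, mul_assoc])
  have hyb : y = e₀ * (s ^ k * b) := by rw [← hx]; group
  have hbs : ∀ n : ℕ, b * s ^ n = s ^ n * b := fun n => (Commute.pow_right (hIs b hb) n).eq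
  have h7 : ∀ n m : ℕ, n % 7 = m % 7 → s ^ n = s ^ m := by
    intro n m h
    rw [← Nat.div_add_mod n 7, ← Nat.div_add_mod m 7, h, pow_add, pow_add, pow_mul, pow_mul, hs7,
      one_pow, one_pow]
  have h1 : s ^ (2 * k) * y * (s ^ (2 * k))⁻¹ = e₀ * b := by
    rw [mul_inv_eq_iff_eq_mul, hyb, mul_assoc e₀ b, hbs]
    rw [show s ^ (2 * k) * (e₀ * (s ^ k * b)) = s ^ (2 * k) * (e₀ * s ^ k) * b by
      simp only [mul_assoc], pow_conj he, ← mul_assoc e₀, pow_conj he, ← mul_assoc, ← pow_add]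
    rw [show 2 * k + 2 * k = 2 * (2 * k) by ring]
  have hb3 : b ^ 3 = 1 := by
    have h4 : (s ^ (2 * k) * y * (s ^ (2 * k))⁻¹) ^ 3 = 1 := by
      rw [conj_pow, hy3, mul_one, mul_inv_cancel]
    rw [h1, (show Commute e₀ b from (hIe b hb).symm).mul_pow, he3, one_mul] at h4
    exact h4
  by_cases hb1 : b = 1
  · refine ⟨s ^ (2 * k), ?_, Or.inl (by rw [h1, hb1, mul_one])⟩
    rw [← pow_succ, pow_succ', mul_assoc, mul_inv_cancel, mul_one]
  · obtain ⟨g, hg, hgb⟩ := h3 b hb hb3 hb1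
    refine ⟨g * s ^ (2 * k), ?_, Or.inr ?_⟩
    · have h5 : g * s ^ (2 * k) * s * (g * s ^ (2 * k))⁻¹ = g * (s ^ (2 * k) * s *
        (s ^ (2 * k))⁻¹) * g⁻¹ := by group
      rw [h5, ← pow_succ, pow_succ', mul_assoc s, mul_inv_cancel, mul_one, hIs g hg, mul_assoc,
        mul_inv_cancel, mul_one]
    · have h5 : g * s ^ (2 * k) * y * (g * s ^ (2 * k))⁻¹ = g * (s ^ (2 * k) * y *
        (s ^ (2 * k))⁻¹) * g⁻¹ := by group
      rw [h5, h1, ← hgb, ← mul_assoc, hIe g hg]
      simp only [mul_assoc]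

end abs

/-! ### The element `e c` -/

theorem c_pow : c ^ 3 = 1 := by
  have h : kw (lc ++ (lc ++ lc)) = kw [] := kw_congr (by decide +kernel)
  have h2 : phi (kw (lc ++ (lc ++ lc))) = 1 := by rw [h]; exact map_one _
  rw [kw_append, kw_append, map_mul, map_mul] at h2
  rw [pow_succ, pow_succ, pow_one, mul_assoc]
  exact h2

theorem c_mul_e : c * e = e * c := by
  have h : kw (lc ++ le) = kw (le ++ lc) := kw_congr (by decide +kernel)
  have h2 := congrArg phi h
  rw [kw_append, kw_append, map_mul, map_mul] at h2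
  exact h2

theorem c_mul_s : c * s = s * c := by
  have h : kw (lc ++ ls) = kw (ls ++ lc) := kw_congr (by decide +kernel)
  have h2 := congrArg phi h
  rw [kw_append, kw_append, map_mul, map_mul] at h2
  exact h2

theorem c_mul_t : c * t = t * c := (kw_comm lc).symm

theorem e_mul_t : e * t = t * e := (kw_comm le).symm

/-- the element of order 3 centralizing the symmetric group of degree 5 -/
noncomputable def e0 : 𝒢 := e * c

theorem e0_kw : e0 = phi (kw (le ++ lc)) := by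
  rw [kw_append, map_mul]; rfl

theorem e0_mul_t : e0 * t = t * e0 := by
  unfold e0
  rw [mul_assoc, c_mul_t, ← mul_assoc, e_mul_t, mul_assoc]

theorem e0_mul_f : e0 * f = f * e0 := by
  have h1 : e0 * V 1217 = V 1217 * e0 := by
    have h := conj_kw (l := le ++ lc) (M := mat (ex (le ++ lc))) rfl 1217
    rw [show lin (mat (ex (le ++ lc))) 1217 = 1217 by decide +kernel, ← e0_kw] at h
    exact mul_inv_eq_iff_eq_mul.1 h
  have h2 : e0 * b = b * e0 := by
    have h : kw ((le ++ lc) ++ lb) = kw (lb ++ (le ++ lc)) := kw_congr (by decide +kernel)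
    have h2 := congrArg phi h
    rw [kw_append, kw_append lb, map_mul, map_mul, ← e0_kw] at h2
    exact h2
  unfold f
  rw [← mul_assoc, ← mul_assoc, e0_mul_t, mul_assoc t, h1, mul_assoc, mul_assoc, h2]
  simp only [mul_assoc]

theorem e0_mul_s : e0 * s = s * s * e0 := by
  unfold e0
  rw [mul_assoc, c_mul_s, ← mul_assoc, Loc7.e_mul_s, mul_assoc, mul_assoc]

theorem e0_pow : e0 ^ 3 = 1 := by
  unfold e0
  rw [(show Commute e c from c_mul_e.symm).mul_pow, Loc7.e_pow, c_pow, one_mul]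

theorem e_eq' : e = e0 * c⁻¹ := by unfold e0; group

/-! ### The symmetric group `I0` -/

theorem cent_s {x : 𝒢} (hx : x * s = s * x) : ∃ k : ℕ, ∃ b ∈ I0, x = s ^ k * b := by
  have hx1 : x ∈ Subgroup.centralizer (S7 : Set 𝒢) := by
    rw [S7_eq', NormC.centralizer_zpowers, Subgroup.mem_centralizer_iff]
    rintro _ rfl
    exact hx.symm
  obtain ⟨_, _, h3, _, h5⟩ := directProduct
  rw [← h5] at hx1
  have hn : I0 ≤ Subgroup.normalizer (S7 : Set 𝒢) :=
    I0_le_C.trans (NormC.centralizer_le_normalizer S7)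
  obtain ⟨a, ha, b, hb, h6⟩ := Abs.exists_mul_of_mem_sup hn hx1
  rw [S7_eq'] at ha
  obtain ⟨k, rfl⟩ := (Submonoid.mem_powers_iff _ _).1 (mem_powers_iff_mem_zpowers.2 ha)
  exact ⟨k, b, hb, h6⟩

theorem I0_s {x : 𝒢} (hx : x ∈ I0) : x * s = s * x := by
  have h := I0_le_C hx
  rw [S7_eq', NormC.centralizer_zpowers, Subgroup.mem_centralizer_iff] at h
  exact (h s rfl).symm

theorem I0_e0 {x : 𝒢} (hx : x ∈ I0) : x * e0 = e0 * x := by
  have h : I0 ≤ Subgroup.centralizer {e0} := by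
    unfold I0
    rw [Subgroup.closure_le]
    rintro _ (rfl | rfl)
    · rw [SetLike.mem_coe, Subgroup.mem_centralizer_iff]
      rintro _ rfl
      exact e0_mul_f
    · rw [SetLike.mem_coe, Subgroup.mem_centralizer_iff]
      rintro _ rfl
      exact e0_mul_t
  exact ((Subgroup.mem_centralizer_iff.1 (h hx)) e0 rfl).symm

theorem s_mod {n m : ℕ} (h : n % 7 = m % 7) : s ^ n = s ^ m := by
  rw [← Nat.div_add_mod n 7, ← Nat.div_add_mod m 7, h, pow_add, pow_add, pow_mul, pow_mul,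
    Loc7.s_pow, one_pow, one_pow]

theorem s_pow_mem {k : ℕ} (h : s ^ k ∈ I0) : s ^ k = 1 := by
  have h1 : s ^ k ∈ S7 ⊓ I0 := Subgroup.mem_inf.2 ⟨by
    rw [S7_eq']; exact Subgroup.pow_mem _ (Subgroup.mem_zpowers s) k, h⟩
  rw [S7_inf] at h1
  exact Subgroup.mem_bot.1 h1

theorem pow_card_I0 {x : 𝒢} (hx : x ∈ I0) : x ^ 120 = 1 := by
  have h : (⟨x, hx⟩ : I0) ^ 120 = 1 := by
    rw [← card_I0]; exact pow_card_eq_one'
  exact congrArg Subtype.val h

theorem mem_I0_of {x : 𝒢} (hx : x * s = s * x) (h : x ^ 120 = 1) : x ∈ I0 := by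
  obtain ⟨k, b, hb, rfl⟩ := cent_s hx
  have h1 : Commute (s ^ k) b := (Commute.pow_left (I0_s hb).symm k)
  rw [h1.mul_pow, pow_card_I0 hb, mul_one, ← pow_mul] at h
  have h2 : s ^ k = 1 := by rw [← h]; exact s_mod (by omega)
  rw [h2, one_mul]
  exact hb

theorem c_mem : c ∈ I0 := mem_I0_of c_mul_s (by
  rw [show 120 = 3 * 40 by norm_num, pow_mul, c_pow, one_pow])

theorem c_inv_mem : c⁻¹ ∈ I0 := Subgroup.inv_mem _ c_mem

/-- the permutation of `c` -/
abbrev pc : Equiv.Perm (Fin 5) := pkw lc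

theorem pI_c : pI ⟨c, c_mem⟩ = pc := p5_eq (act_kw lc)
theorem pI_t : pI ⟨t, t_mem⟩ = Equiv.swap 0 1 := p5_eq act_t

theorem pI_injective : Function.Injective pI := by
  have h : Function.Bijective pI := by
    rw [Nat.bijective_iff_surjective_and_card]
    refine ⟨pI_surjective, ?_⟩
    rw [card_I0, Nat.card_eq_fintype_card, Fintype.card_perm, Fintype.card_fin]
    rfl
  exact h.1

theorem c_ne : c ≠ 1 := by
  intro h
  have h1 : pc = 1 := by
    rw [← pI_c, ← map_one pI]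
    congr 1
    exact Subtype.ext h
  revert h1
  decide +kernel

theorem cycleType_three {σ : Equiv.Perm (Fin 5)} (h : orderOf σ = 3) : σ.cycleType = {3} := by
  obtain ⟨n, hn⟩ := Equiv.Perm.cycleType_prime_order (σ := σ) (by rw [h]; norm_num)
  have h1 := Equiv.Perm.sum_cycleType σ
  have h2 : σ.support.card ≤ 5 := by
    have := Finset.card_le_univ σ.support
    rwa [Fintype.card_fin] at this
  rw [hn, h, Multiset.sum_replicate, smul_eq_mul] at h1
  have h3 : n = 0 := by omega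
  rw [hn, h, h3]
  rfl

theorem orderOf_three {G : Type*} [Group G] {x : G} (h : x ^ 3 = 1) (h1 : x ≠ 1) :
    orderOf x = 3 := by
  have : Fact (Nat.Prime 3) := ⟨by norm_num⟩
  exact orderOf_eq_prime h h1

/-- elements of order 3 of the symmetric group of degree 5 -/
theorem exists_conj_three {x y : 𝒢} (hx : x ∈ I0) (hy : y ∈ I0) (hx3 : x ^ 3 = 1) (hx1 : x ≠ 1)
    (hy3 : y ^ 3 = 1) (hy1 : y ≠ 1) : ∃ g ∈ I0, g * x * g⁻¹ = y := by
  have key : ∀ z : 𝒢, ∀ hz : z ∈ I0, z ^ 3 = 1 → z ≠ 1 → (pI ⟨z, hz⟩).cycleType = {3} := by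
    intro z hz h3 h1
    apply cycleType_three
    rw [orderOf_injective pI pI_injective]
    apply orderOf_three
    · exact Subtype.ext h3
    · intro h
      exact h1 (congrArg Subtype.val h)
  have h1 : IsConj (pI ⟨x, hx⟩) (pI ⟨y, hy⟩) := by
    rw [Equiv.Perm.isConj_iff_cycleType_eq, key x hx hx3 hx1, key y hy hy3 hy1]
  obtain ⟨τ, hτ⟩ := isConj_iff.1 h1
  obtain ⟨g, rfl⟩ := pI_surjective τ
  rw [← map_mul, ← map_inv, ← map_mul] at hτ
  exact ⟨g, g.2, congrArg Subtype.val (pI_injective hτ)⟩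

/-! ### The classification -/

theorem two_types {y : 𝒢} (hy : y * s * y⁻¹ = s ^ 2) (hy3 : y ^ 3 = 1) :
    ∃ g, g * s * g⁻¹ = s ∧ (g * y * g⁻¹ = e0 ∨ g * y * g⁻¹ = e) := by
  have h := abs_class (G := 𝒢) (s := s) (e₀ := e0) (c := c⁻¹) (y := y) (I := I0) Loc7.s_pow
    (fun x hx => cent_s hx) (fun b hb => I0_s hb) (fun b hb => I0_e0 hb) e0_mul_s e0_pow
    (fun b hb h3 h1 => exists_conj_three hb c_inv_mem h3 h1 (by rw [inv_pow, c_pow, inv_one])
      (by rw [ne_eq, inv_eq_one]; exact c_ne)) hy hy3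
  rwa [← e_eq'] at h

theorem exists_conj_S7 {x : 𝒢} (hx : orderOf x = 7) : ∃ g : 𝒢, g * x * g⁻¹ ∈ S7 := by
  have h7 : Fact (Nat.Prime 7) := ⟨by norm_num⟩
  have h1 : IsPGroup 7 (Subgroup.zpowers x) := NormC.isPGroup_of_card (by
    rw [Nat.card_zpowers, hx])
  obtain ⟨Q, hQ⟩ := h1.exists_le_sylow
  obtain ⟨g, hg⟩ := MulAction.exists_smul_eq 𝒢 Q (isPGroup_S7.toSylow not_dvd_S7)
  refine ⟨g, ?_⟩
  have h2 : MulAut.conj g x ∈ (g • Q : Sylow 7 𝒢) := by
    rw [Sylow.smul_def]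
    exact Subgroup.smul_mem_pointwise_smul x (MulAut.conj g) (Q : Subgroup 𝒢)
      (hQ (Subgroup.mem_zpowers x))
  rw [hg] at h2
  exact h2

theorem e_pow_s (i k : ℕ) : e ^ i * s ^ k * (e ^ i)⁻¹ = s ^ (2 ^ i * k) := by
  induction i with
  | zero => simp
  | succ i ih =>
    have h : e ^ (i + 1) * s ^ k * (e ^ (i + 1))⁻¹ = e * (e ^ i * s ^ k * (e ^ i)⁻¹) * e⁻¹ := by
      rw [pow_succ']; group
    rw [h, ih, mul_inv_eq_iff_eq_mul, pow_conj Loc7.e_mul_s, pow_succ]
    congr 2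
    ring

theorem seven_std {x : 𝒢} (hx : orderOf x = 7) : ∃ g : 𝒢, g * x * g⁻¹ = s ∨ g * x * g⁻¹ = s⁻¹ := by
  obtain ⟨g, hg⟩ := exists_conj_S7 hx
  rw [S7_eq'] at hg
  obtain ⟨k, hk⟩ := (Submonoid.mem_powers_iff _ _).1 (mem_powers_iff_mem_zpowers.2 hg)
  have hk' : g * x * g⁻¹ = s ^ (k % 7) := by rw [← hk]; exact s_mod (by omega)
  have hne : k % 7 ≠ 0 := by
    intro h0
    rw [h0, pow_zero] at hk'
    have h1 : x = 1 := by
      have h2 : x = g⁻¹ * (g * x * g⁻¹) * g := by group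
      rw [h2, hk']; group
    rw [h1, orderOf_one] at hx
    omega
  have hinv : s⁻¹ = s ^ 6 := by
    rw [inv_eq_iff_mul_eq_one, ← pow_succ']; exact Loc7.s_pow
  have key : ∀ i : ℕ, e ^ i * g * x * (e ^ i * g)⁻¹ = s ^ (2 ^ i * (k % 7)) := by
    intro i
    rw [← e_pow_s, ← hk']; group
  have hlt : k % 7 < 7 := Nat.mod_lt _ (by norm_num)
  generalize k % 7 = m at *
  interval_cases m
  · exact absurd rfl hne
  · exact ⟨e ^ 0 * g, Or.inl (by rw [key 0]; simp)⟩
  · exact ⟨e ^ 2 * g, Or.inl (by rw [key 2]; exact (s_mod (by norm_num)).trans (pow_one s))⟩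
  · exact ⟨e ^ 1 * g, Or.inr (by rw [key 1, hinv]; exact s_mod (by norm_num))⟩
  · exact ⟨e ^ 1 * g, Or.inl (by rw [key 1]; exact (s_mod (by norm_num)).trans (pow_one s))⟩
  · exact ⟨e ^ 2 * g, Or.inr (by rw [key 2, hinv]; exact s_mod (by norm_num))⟩
  · exact ⟨e ^ 0 * g, Or.inr (by rw [key 0, hinv]; exact s_mod (by norm_num))⟩

/-- **the classes of the Frobenius groups of order 21** -/
theorem seven_three {x y : 𝒢} (hx : orderOf x = 7) (hy3 : y ^ 3 = 1) (hxy : y * x * y⁻¹ = x ^ 2) :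
    ∃ g : 𝒢, g * y * g⁻¹ = y0 ∧ (g * x * g⁻¹ = f1 ∨ g * x * g⁻¹ = f1⁻¹ ∨ g * x * g⁻¹ = f2 ∨
      g * x * g⁻¹ = f2⁻¹) := by
  obtain ⟨g, hg⟩ := seven_std hx
  have h1 : (g * y * g⁻¹) * s * (g * y * g⁻¹)⁻¹ = s ^ 2 := by
    have h2 : (g * y * g⁻¹) * (g * x * g⁻¹) * (g * y * g⁻¹)⁻¹ = (g * x * g⁻¹) ^ 2 := by
      rw [conj_pow, ← hxy]; group
    rcases hg with h | h
    · rwa [h] at h2
    · rw [h] at h2
      have h3 := congrArg (fun z => z⁻¹) h2
      simp only [mul_inv_rev, inv_inv, inv_pow] at h3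
      simpa [mul_assoc] using h3
  have h3 : (g * y * g⁻¹) ^ 3 = 1 := by rw [conj_pow, hy3, mul_one, mul_inv_cancel]
  obtain ⟨k, hk, hk2⟩ := two_types h1 h3
  have hk3 : k * s⁻¹ * k⁻¹ = s⁻¹ := by
    have := congrArg (fun z => z⁻¹) hk
    simpa [mul_assoc] using this
  have hxx : k * (g * x * g⁻¹) * k⁻¹ = s ∨ k * (g * x * g⁻¹) * k⁻¹ = s⁻¹ := by
    rcases hg with h | h
    · left; rw [h, hk]
    · right; rw [h, hk3]
  rcases hk2 with h | h
  · refine ⟨g1 * k * g, ?_, ?_⟩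
    · have e1 : g1 * k * g * y * (g1 * k * g)⁻¹ = g1 * (k * (g * y * g⁻¹) * k⁻¹) * g1⁻¹ := by group
      rw [e1, h]; rfl
    · have e1 : g1 * k * g * x * (g1 * k * g)⁻¹ = g1 * (k * (g * x * g⁻¹) * k⁻¹) * g1⁻¹ := by group
      rw [e1]
      rcases hxx with h | h
      · left; rw [h]; rfl
      · right; left; rw [h]; unfold f1; group
  · refine ⟨g2 * k * g, ?_, ?_⟩
    · have e1 : g2 * k * g * y * (g2 * k * g)⁻¹ = g2 * (k * (g * y * g⁻¹) * k⁻¹) * g2⁻¹ := by group
      rw [e1, h]; exact g2_e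
    · have e1 : g2 * k * g * x * (g2 * k * g)⁻¹ = g2 * (k * (g * x * g⁻¹) * k⁻¹) * g2⁻¹ := by group
      rw [e1]
      rcases hxx with h | h
      · right; right; left; rw [h]; rfl
      · right; right; right; rw [h]; unfold f2; group

/-! ### Relations -/

theorem f2_pow : f2 ^ 7 = 1 := by unfold f2; rw [conj_pow, Loc7.s_pow, mul_one, mul_inv_cancel]

theorem orderOf_s : orderOf s = 7 := by
  have : Fact (Nat.Prime 7) := ⟨by norm_num⟩
  exact orderOf_eq_prime Loc7.s_pow s_ne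

theorem conj_ne_one {g x : 𝒢} (hx : x ≠ 1) : g * x * g⁻¹ ≠ 1 := by
  intro h
  apply hx
  have h2 : x = g⁻¹ * (g * x * g⁻¹) * g := by group
  rw [h2, h]; group

theorem f2_ne : f2 ≠ 1 := conj_ne_one s_ne
theorem orderOf_f2 : orderOf f2 = 7 := by
  have : Fact (Nat.Prime 7) := ⟨by norm_num⟩
  exact orderOf_eq_prime f2_pow f2_ne

/-! ### Centralizers -/

/-- powers of `c t` -/
theorem perm_cent : ∀ σ : Equiv.Perm (Fin 5), σ * pc = pc * σ →
    ∃ k : Fin 6, σ = (pc * Equiv.swap 0 1) ^ (k : ℕ) := by decide +kernel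

theorem ct_mem : c * t ∈ I0 := Subgroup.mul_mem _ c_mem t_mem

theorem cent_c {x : 𝒢} (hx : x ∈ I0) (h : x * c = c * x) : x ∈ Subgroup.zpowers (c * t) := by
  have h1 : pI ⟨x, hx⟩ * pc = pc * pI ⟨x, hx⟩ := by
    rw [← pI_c, ← map_mul, ← map_mul]
    congr 1
    exact Subtype.ext h
  obtain ⟨k, hk⟩ := perm_cent _ h1
  rw [← pI_c, ← pI_t, ← map_mul, ← map_pow] at hk
  have h2 := congrArg Subtype.val (pI_injective hk)
  have h3 : x = (c * t) ^ (k : ℕ) := h2
  rw [h3]
  exact Subgroup.pow_mem _ (Subgroup.mem_zpowers _) _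

theorem cent_s_e {x : 𝒢} (h1 : x * s = s * x) (h2 : x * e = e * x) :
    x ∈ Subgroup.zpowers (c * t) := by
  obtain ⟨k, b, hb, rfl⟩ := cent_s h1
  have h3 : s ^ k * (b * e) = s ^ k * (s ^ k * (e * b)) := by
    have h4 : e * s ^ k = s ^ (2 * k) * e := pow_conj Loc7.e_mul_s k
    rw [← mul_assoc, h2, ← mul_assoc, h4, two_mul, pow_add]
    simp only [mul_assoc]
  have h5 : s ^ k = b * e * b⁻¹ * e⁻¹ := by
    have h6 := mul_left_cancel h3
    rw [h6]; group
  have h7 : s ^ k = 1 := by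
    apply s_pow_mem
    rw [h5]
    have h8 : b * e * b⁻¹ * e⁻¹ = b * c⁻¹ * b⁻¹ * c := by
      have h9 : b * e0 = e0 * b := I0_e0 hb
      rw [e_eq']
      calc b * (e0 * c⁻¹) * b⁻¹ * (e0 * c⁻¹)⁻¹ = (b * e0) * c⁻¹ * b⁻¹ * c * e0⁻¹ := by group
        _ = e0 * (b * c⁻¹ * b⁻¹ * c) * e0⁻¹ := by rw [h9]; group
        _ = b * c⁻¹ * b⁻¹ * c := by
          rw [← I0_e0 (Subgroup.mul_mem _ (Subgroup.mul_mem _ (Subgroup.mul_mem _ hb c_inv_mem)
            (Subgroup.inv_mem _ hb)) c_mem), mul_inv_cancel_right]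
    rw [h8]
    exact Subgroup.mul_mem _ (Subgroup.mul_mem _ (Subgroup.mul_mem _ hb c_inv_mem)
      (Subgroup.inv_mem _ hb)) c_mem
  rw [h7, one_mul] at h2 ⊢
  apply cent_c hb
  have h9 : b * e0 = e0 * b := I0_e0 hb
  have hc : c = e⁻¹ * e0 := by unfold e0; group
  rw [hc, ← mul_assoc, mul_assoc e⁻¹, ← h9, ← mul_assoc]
  congr 1
  rw [mul_inv_eq_iff_eq_mul, mul_assoc, h2, ← mul_assoc, inv_mul_cancel, one_mul]

theorem conj_comm_iff {G : Type*} [Group G] {g a x : G} :
    x * (g * a * g⁻¹) = (g * a * g⁻¹) * x ↔ (g⁻¹ * x * g) * a = a * (g⁻¹ * x * g) := by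
  constructor
  · intro h
    have h2 := congrArg (fun z => g⁻¹ * z * g) h
    simpa [mul_assoc] using h2
  · intro h
    have h2 := congrArg (fun z => g * z * g⁻¹) h
    simpa [mul_assoc] using h2

/-- **the centralizer of `⟨f2, y0⟩`** -/
theorem cent_2 {x : 𝒢} : x ∈ Subgroup.zpowers c6 ↔ x * f2 = f2 * x ∧ x * y0 = y0 * x := by
  constructor
  · intro hx
    have h1 : c6 ∈ Subgroup.centralizer {f2, y0} := by
      rw [Subgroup.mem_centralizer_iff]
      have e1 : g2⁻¹ * c6 * g2 = c * t := by unfold c6; group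
      rintro _ (rfl | rfl)
      · symm
        apply conj_comm_iff.2
        rw [e1]; exact I0_s ct_mem
      · symm
        rw [← g2_e]
        apply conj_comm_iff.2
        rw [e1, mul_assoc, ← e_mul_t, ← mul_assoc, c_mul_e, mul_assoc]
    have h2 : Subgroup.zpowers c6 ≤ Subgroup.centralizer {f2, y0} := by
      rw [Subgroup.zpowers_le]; exact h1
    have h3 := Subgroup.mem_centralizer_iff.1 (h2 hx)
    exact ⟨(h3 f2 (Or.inl rfl)).symm, (h3 y0 (Or.inr rfl)).symm⟩
  · rintro ⟨h1, h2⟩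
    rw [← g2_e] at h2
    obtain ⟨k, hk⟩ := Subgroup.mem_zpowers_iff.1
      (cent_s_e (conj_comm_iff.1 h1) (conj_comm_iff.1 h2))
    rw [Subgroup.mem_zpowers_iff]
    refine ⟨k, ?_⟩
    unfold c6
    rw [conj_zpow, hk]
    group

theorem c6_pow : c6 ^ 6 = 1 := by
  unfold c6
  have h : (c * t) ^ 6 = 1 := by
    rw [(show Commute c t from c_mul_t).mul_pow, show 6 = 3 * 2 by norm_num, pow_mul, c_pow,
      one_pow, mul_comm, pow_mul, pow_two t, t_sq, one_pow, one_mul]
  rw [conj_pow, h, mul_one, mul_inv_cancel]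

/-! ### Normalizers -/

theorem pow_three_cent {g : 𝒢} (hg : g ∈ Subgroup.normalizer (S7 : Set 𝒢)) :
    g ^ 3 ∈ Subgroup.centralizer (S7 : Set 𝒢) := by
  set F := S7.normalizerMonoidHom with hF
  have h5 : Nat.card (Subgroup.normalizer (S7 : Set 𝒢)) =
      Nat.card F.range * Nat.card (Subgroup.centralizer (S7 : Set 𝒢)) := by
    rw [← Subgroup.index_ker, hF, Subgroup.normalizerMonoidHom_ker]
    have h6 : Nat.card ((Subgroup.centralizer (S7 : Set 𝒢)).subgroupOf
        (Subgroup.normalizer (S7 : Set 𝒢))) = Nat.card (Subgroup.centralizer (S7 : Set 𝒢)) :=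
      Nat.card_congr (Subgroup.subgroupOfEquivOfLe (NormC.centralizer_le_normalizer S7)).toEquiv
    rw [← h6]
    exact (Subgroup.index_mul_card _).symm
  rw [card_normalizer_S7, card_C] at h5
  have h3 : Nat.card F.range = 3 := by omega
  set g' : Subgroup.normalizer (S7 : Set 𝒢) := ⟨g, hg⟩ with hg'
  have h4 : (⟨F g', MonoidHom.mem_range.2 ⟨g', rfl⟩⟩ : F.range) ^ 3 = 1 := by
    rw [← h3]; exact pow_card_eq_one'
  have h6 : F (g' ^ 3) = 1 := by
    rw [map_pow]
    exact congrArg Subtype.val h4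
  have h7 : g' ^ 3 ∈ F.ker := h6
  rw [hF, Subgroup.normalizerMonoidHom_ker, Subgroup.mem_subgroupOf] at h7
  exact h7

/-- **the normalizer of `⟨s⟩`** -/
theorem norm_s {g : 𝒢} (hg : g * s * g⁻¹ ∈ S7) : ∃ b ∈ I0, ∃ i j : ℕ, g = e ^ j * (s ^ i * b) := by
  rw [S7_eq'] at hg
  obtain ⟨k, hk⟩ := (Submonoid.mem_powers_iff _ _).1 (mem_powers_iff_mem_zpowers.2 hg)
  have hn : g ∈ Subgroup.normalizer (S7 : Set 𝒢) := by
    rw [S7_eq']
    exact NormC.mem_normalizer_zpowers (k := k) hk.symm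
  have h3 := pow_three_cent hn
  rw [S7_eq', NormC.centralizer_zpowers, Subgroup.mem_centralizer_iff] at h3
  have h4 : g ^ 3 * s * (g ^ 3)⁻¹ = s := by rw [← h3 s rfl]; group
  have h5 : ∀ m : ℕ, g * s ^ m * g⁻¹ = s ^ (k * m) := by
    intro m
    rw [← conj_pow, ← hk, ← pow_mul]
  have h6 : g ^ 3 * s * (g ^ 3)⁻¹ = s ^ (k * (k * k)) := by
    have e1 : g ^ 3 * s * (g ^ 3)⁻¹ = g * (g * (g * s * g⁻¹) * g⁻¹) * g⁻¹ := by
      rw [show g ^ 3 = g * g * g by rw [pow_succ, pow_two]]; group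
    rw [e1, ← hk, h5, h5]
  rw [h4] at h6
  have h7 : (k * (k * k)) % 7 = 1 := by
    have h8 : s ^ (k * (k * k)) = s ^ 1 := by rw [← h6, pow_one]
    have h9 := (pow_inj_mod.1 h8)
    rw [orderOf_s] at h9
    exact h9
  have h8 : k % 7 = 1 ∨ k % 7 = 2 ∨ k % 7 = 4 := by
    have h9 : (k * (k * k)) % 7 = ((k % 7) * ((k % 7) * (k % 7))) % 7 := by
      rw [Nat.mul_mod, Nat.mul_mod k k]; simp [Nat.mul_mod]
    rw [h9] at h7
    have hlt : k % 7 < 7 := Nat.mod_lt _ (by norm_num)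
    generalize k % 7 = m at *
    interval_cases m <;> revert h7 <;> decide
  have h9 : ∃ j : ℕ, (2 ^ j) % 7 = k % 7 := by
    rcases h8 with h | h | h
    · exact ⟨0, by rw [h]; rfl⟩
    · exact ⟨1, by rw [h]; rfl⟩
    · exact ⟨2, by rw [h]; rfl⟩
  obtain ⟨j, hj⟩ := h9
  have h10 : e ^ j * s * (e ^ j)⁻¹ = g * s * g⁻¹ := by
    have h := e_pow_s j 1
    rw [pow_one, mul_one] at h
    rw [h, ← hk]
    exact s_mod hj
  have h11 : ((e ^ j)⁻¹ * g) * s = s * ((e ^ j)⁻¹ * g) := by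
    have h12 : s = (e ^ j)⁻¹ * (g * s * g⁻¹) * e ^ j := by rw [← h10]; group
    conv_rhs => rw [h12]
    group
  obtain ⟨i, b, hb, hx⟩ := cent_s h11
  exact ⟨b, hb, i, j, by rw [← hx]; group⟩

theorem conj_zpowers {g x y : 𝒢} (h : y * (g * x * g⁻¹) * y⁻¹ ∈ Subgroup.zpowers (g * x * g⁻¹)) :
    (g⁻¹ * y * g) * x * (g⁻¹ * y * g)⁻¹ ∈ Subgroup.zpowers x := by
  obtain ⟨k, hk⟩ := Subgroup.mem_zpowers_iff.1 h
  rw [Subgroup.mem_zpowers_iff]
  refine ⟨k, ?_⟩
  rw [conj_zpow] at hk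
  have h2 := congrArg (fun z => g⁻¹ * z * g) hk
  simpa [mul_assoc] using h2

/-- the centralizer of `f2` is `⟨f2⟩ × I2` -/
noncomputable def I2 : Subgroup 𝒢 := I0.map (MulAut.conj g2).toMonoidHom

theorem card_I2 : Nat.card I2 = 120 := by
  unfold I2
  rw [Subgroup.card_map_of_injective (MulAut.conj g2).injective, card_I0]

/-- **the normalizer of `⟨f2⟩`** -/
theorem norm_2 {g : 𝒢} (hg : g * f2 * g⁻¹ ∈ Subgroup.zpowers f2) :
    ∃ b ∈ I2, ∃ i j : ℕ, g = y0 ^ j * (f2 ^ i * b) := by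
  have h1 := conj_zpowers (g := g2) (x := s) (y := g) hg
  rw [← S7_eq'] at h1
  obtain ⟨b, hb, i, j, h2⟩ := norm_s h1
  refine ⟨g2 * b * g2⁻¹, ⟨b, hb, rfl⟩, i, j, ?_⟩
  have h3 : g = g2 * (g2⁻¹ * g * g2) * g2⁻¹ := by group
  rw [h3, h2, ← g2_e, conj_pow, show f2 = g2 * s * g2⁻¹ from rfl, conj_pow]
  group

theorem I2_comm {x : 𝒢} (hx : x ∈ I2) : x * f2 = f2 * x := by
  obtain ⟨z, hz, rfl⟩ := hx
  show g2 * z * g2⁻¹ * (g2 * s * g2⁻¹) = _
  apply conj_comm_iff.2
  have e1 : g2⁻¹ * (g2 * z * g2⁻¹) * g2 = z := by group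
  rw [e1]; exact I0_s hz

/-- `y0` normalizes `I2` -/
theorem y0_I2 {x : 𝒢} (hx : x ∈ I2) : y0 * x * y0⁻¹ ∈ I2 := by
  obtain ⟨z, hz, rfl⟩ := hx
  refine ⟨e * z * e⁻¹, ?_, ?_⟩
  · have e1 : e * z * e⁻¹ = c⁻¹ * z * c := by
      rw [e_eq']
      calc e0 * c⁻¹ * z * (e0 * c⁻¹)⁻¹ = e0 * (c⁻¹ * z * c) * e0⁻¹ := by group
        _ = c⁻¹ * z * c := by
          rw [← I0_e0 (Subgroup.mul_mem _ (Subgroup.mul_mem _ c_inv_mem hz) c_mem),
            mul_inv_cancel_right]
    rw [e1]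
    exact Subgroup.mul_mem _ (Subgroup.mul_mem _ c_inv_mem hz) c_mem
  · show g2 * (e * z * e⁻¹) * g2⁻¹ = y0 * (g2 * z * g2⁻¹) * y0⁻¹
    rw [← g2_e]; group

end Cfsg.Agent.H868.JM
end

private theorem dce_f32235a0fa3b : _root_.True := by
  try have : _root_.True := by simp only [_root_.Cfsg.Agent.H856.JM.Small.dT.eq_1]
  try have : _root_.True := by simp only [_root_.Cfsg.Agent.H856.JM.A78.prs.eq_1]
  try have : _root_.True := by simp only [_root_.Cfsg.Agent.H820.JM.Swp.eq_1]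
  try have : _root_.True := by simp only [_root_.Cfsg.Agent.H856.JM.Small.dB.eq_1]
  exact _root_.True.intro
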