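import Cfsg.Agent.H856.JM.A78_mg
import Cfsg.Agent.H856.JM.Comm_m3
import Cfsg.Agent.H68.JM.Vec_m3
import Cfsg.Agent.H366.LThreeFour
import Cfsg.Agent.H135.SLCyc
import Cfsg.Agent.CTwoTab.Exc
import Cfsg.Agent.H859.PGLWords
import Cfsg.Agent.H865.RhoEleven
import Cfsg.Agent.H859.ClassEleven
import Cfsg.Agent.H111.JM.TList_m3
import Cfsg.Agent.H860.JM.Defs
import Cfsg.Agent.FastGrp
import Cfsg.Agent.Prune
set_option linter.all false
prune_inst 0x7f00000000000000000000000000000000000000000000000000000000000000000000000000000000000000000000000000000000000000000000000000000000000000000000000000000000000000003fffffffffffffffffffffffffffbeffbdffffffff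
open scoped Cfsg.Agent.FastGrp

-- part: H856/JM/A5
section
/-!
# S5580, Part III: no maximal subgroup of `J4` has socle `A_5` (helper856)
-/

set_option autoImplicit false
set_option maxRecDepth 100000

open Cfsg

namespace Cfsg.Agent.H856.JM.A5

open Cfsg.Agent.Lib Cfsg.Agent.Lib.F2Mat Cfsg.Agent.Lib.F2MatGroup
open Cfsg.Agent.J4.Rep112
open Cfsg.Agent.H858.VK
open Cfsg.Agent.H878.JM.Base Cfsg.Agent.H878.JM.Elts
open Cfsg.Agent.H111.JM.Eng Cfsg.Agent.H111.JM.Env Cfsg.Agent.H111.JM.TList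
open Cfsg.Agent.H856.JM.Small Cfsg.Agent.H856.JM.A78
open Cfsg.Agent.H860.JM (NL Excl cj)

/-- the group `Spor.J4` -/
local notation "𝒢" => Cfsg.Spor.J4

/-- the row vector fixed by the group `A_5` of class 7 (first type) -/
def q7 : ℕ := 1927042731792913007381910090024751

/-- the row vector fixed by the group `A_5` of class 9 (first type) -/
def q9 : ℕ := 221394909968541853386383800774348

/-- the positions of `v`, `a` and of an element commuting with `y0`, `v`, `a` -/
def cen : List (ℕ × ℕ × ℕ) := [(270, 235, 3), (269, 228, 3), (268, 221, 2), (267, 209, 2), (266, 204, 1),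
  (265, 193, 1), (264, 179, 0), (264, 193, 0)]

/-- the words of the elements of order 11 and 7 -/
def sx : List (List ℕ) := [[87, 266], [18, 254, 18, 254]]

/-- all checks -/
def chks (L : List ℕ) : Bool :=
  cond (fx q7 L [282, 266, 206, 17]) (cond (fx q9 L [282, 264, 184, 4])
    (cond (cen.all fun p => cond (eqs 112 [([p.2.2, 282], [282, p.2.2]), ([p.2.2, p.1], [p.1, p.2.2]),
        ([p.2.2, p.2.1], [p.2.1, p.2.2])] L) (neqs 112 [([p.2.2], [])] L) false)
      (run 112 sx L fun L3 => cond (fx q7 L3 [1]) (cond (fx q9 L3 [0])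
          (cond (eqs 112 [(List.replicate 11 1, []), (List.replicate 7 0, [])] L3)
            (neqs 112 [([1], []), ([0], [])] L3) false) false) false) false) false) false

theorem chk : run 112 (slpJ ++ slpE) codes chks = true := by
  delta chks fx
  rw [Lib.F112.run_eq, Lib.F112.eqs_eq, Lib.F112.neqs_eq, Lib.F112.vm_eq]
  decide +kernel

/-- the facts -/
structure Facts : Prop where
  q7_gen : ∀ k ∈ [282, 266, 206, 17], ra (toVec 112 q7) (getG LE k) = toVec 112 q7
  q9_gen : ∀ k ∈ [282, 264, 184, 4], ra (toVec 112 q9) (getG LE k) = toVec 112 q9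
  cent : ∀ p ∈ cen, getG LE p.2.2 ≠ 1 ∧ getG LE p.2.2 * y0 = y0 * getG LE p.2.2 ∧
    getG LE p.2.2 * getG LE p.1 = getG LE p.1 * getG LE p.2.2 ∧
    getG LE p.2.2 * getG LE p.2.1 = getG LE p.2.1 * getG LE p.2.2
  q7_el : ∃ k, ra (toVec 112 q7) k = toVec 112 q7 ∧ orderOf k = 11
  q9_el : ∃ k, ra (toVec 112 q9) k = toVec 112 q9 ∧ orderOf k = 7

theorem facts : Facts := by
  obtain ⟨L2, h2, h⟩ := Cfsg.Agent.H878.JM.Elts.run_env chk
  unfold chks at h
  obtain ⟨a1, h⟩ := CommTest.cond_true h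
  obtain ⟨a2, h⟩ := CommTest.cond_true h
  obtain ⟨a3, h⟩ := CommTest.cond_true h
  obtain ⟨L3, h3, h⟩ := run_sound h2 h
  rw [runG_map] at h3
  obtain ⟨a5, h⟩ := CommTest.cond_true h
  obtain ⟨a6, h⟩ := CommTest.cond_true h
  obtain ⟨a7, a8⟩ := CommTest.cond_true h
  have e1 : ∀ q ∈ [(List.replicate 11 1, ([] : List ℕ)), (List.replicate 7 0, [])],
      evG (runG sx LE) q.1 = evG (runG sx LE) q.2 := by
    intro q hq
    apply rho_injective
    rw [← evG_map, ← evG_map]
    exact eqs_sound h3 a7 q hq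
  have e2 : ∀ q ∈ [([1], ([] : List ℕ)), ([0], [])], evG (runG sx LE) q.1 ≠ evG (runG sx LE) q.2 := by
    intro q hq h0
    have h1 := congrArg rho h0
    rw [← evG_map, ← evG_map] at h1
    exact neqs_sound (by norm_num) h3 a8 q hq h1
  have hrep : ∀ (L : List 𝒢) (n k : ℕ), evG L (List.replicate n k) = getG L k ^ n := by
    intro L n k
    induction n with
    | zero => rw [List.replicate_zero, evG_nil, pow_zero]
    | succ n ih => rw [List.replicate_succ, evG_cons, ih, pow_succ']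
  have f7 : Fact (Nat.Prime 7) := ⟨by norm_num⟩
  have f11 : Fact (Nat.Prime 11) := ⟨by norm_num⟩
  refine ⟨fun k hk => fx_sound h2 a1 hk, fun k hk => fx_sound h2 a2 hk, ?_,
    ⟨getG (runG sx LE) 1, fx_sound h3 a5 (by simp), orderOf_eq_prime ?_ ?_⟩,
    ⟨getG (runG sx LE) 0, fx_sound h3 a6 (by simp), orderOf_eq_prime ?_ ?_⟩⟩
  · intro p hp
    rw [List.all_eq_true] at a3
    obtain ⟨b1, b2⟩ := CommTest.cond_true (a3 p hp)
    have e3 : ∀ q ∈ [([p.2.2, 282], [282, p.2.2]), ([p.2.2, p.1], [p.1, p.2.2]),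
        ([p.2.2, p.2.1], [p.2.1, p.2.2])], evG LE q.1 = evG LE q.2 := by
      intro q hq
      apply rho_injective
      rw [← evG_map, ← evG_map]
      exact eqs_sound h2 b1 q hq
    have c1 := e3 ([p.2.2, 282], [282, p.2.2]) (by simp)
    have c2 := e3 ([p.2.2, p.1], [p.1, p.2.2]) (by simp)
    have c3 := e3 ([p.2.2, p.2.1], [p.2.1, p.2.2]) (by simp)
    simp only [evG_cons, evG_nil, mul_one, e_y0] at c1 c2 c3
    refine ⟨fun h0 => ?_, c1, c2, c3⟩
    have h1 : evG LE [p.2.2] = evG LE [] := by rw [evG_cons, evG_nil, mul_one, h0]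
    have h5 := congrArg rho h1
    rw [← evG_map, ← evG_map] at h5
    exact neqs_sound (by norm_num) h2 b2 ([p.2.2], []) (by simp) h5
  · have h4 := e1 (List.replicate 11 1, []) (by simp)
    rwa [hrep, evG_nil] at h4
  · intro h4
    apply e2 ([1], []) (by simp)
    rw [evG_cons, evG_nil, mul_one, h4]
  · have h4 := e1 (List.replicate 7 0, []) (by simp)
    rwa [hrep, evG_nil] at h4
  · intro h4
    apply e2 ([0], []) (by simp)
    rw [evG_cons, evG_nil, mul_one, h4]

theorem q7_ne : toVec 112 q7 ≠ 0 := by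
  intro h
  have h1 := congrFun h 0
  rw [toVec_apply] at h1
  revert h1
  decide +kernel

theorem q9_ne : toVec 112 q9 ≠ 0 := by
  intro h
  have h1 := congrFun h 2
  rw [toVec_apply] at h1
  revert h1
  decide +kernel

variable {M S : Subgroup 𝒢}

/-- exclusion by an element of the centralizer -/
theorem false_of_cent (h : NL M S) {X : Set 𝒢} (hS : S = Subgroup.closure X) {g x : 𝒢} (hx : x ≠ 1)
    (hc : ∀ z ∈ X, x * (g * z * g⁻¹) = g * z * g⁻¹ * x) : False := by
  have h1 : S ≤ Subgroup.centralizer {g⁻¹ * x * g} := by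
    rw [hS, Subgroup.closure_le]
    intro z hz
    show z ∈ Subgroup.centralizer {g⁻¹ * x * g}
    rw [Subgroup.mem_centralizer_singleton_iff]
    have h2 := hc z hz
    exact (calc g⁻¹ * x * g * z = g⁻¹ * (x * (g * z * g⁻¹)) * g := by group
      _ = z * (g⁻¹ * x * g) := by rw [h2]; group).symm
  have h2 : g⁻¹ * x * g = 1 := by
    apply cent_eq_one h
    intro z hz
    have h3 := Subgroup.mem_centralizer_singleton_iff.1 (h1 hz)
    exact h3.symm
  apply hx
  calc x = g * (g⁻¹ * x * g) * g⁻¹ := by group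
    _ = 1 := by rw [h2]; group

theorem excl_A5 (hcard : Nat.card {t // TY t} ≤ 10296) (hfive : Five) : Excl (alternatingGroup (Fin 5)) := by
  intro M S h e
  have hdvd : Nat.card M ∣ 120 := card_dvd h (n := 5) (by norm_num) (by norm_num) e
  have h7 : ¬ 7 ∣ Nat.card M := fun h1 => by have := h1.trans hdvd; revert this; decide
  have h11 : ¬ 11 ∣ Nat.card M := fun h1 => by have := h1.trans hdvd; revert this; decide
  obtain ⟨y, v, a, hT, hS, hM⟩ := alt5 h e
  obtain ⟨g, hy, hva⟩ := hfive y v a hT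
  have hcj : ∀ x : 𝒢, (MulAut.conj g).toMonoidHom x = g * x * g⁻¹ := fun x => rfl
  have hX : M ≤ Subgroup.closure {y, v, a} ∨ ∃ τ, Tau τ y [v, a] ∧
      M ≤ Subgroup.closure (insert τ {y, v, a}) := by
    rcases hM with h1 | ⟨τ, h1, h2⟩
    · left; rw [h1, hS]
    · right
      refine ⟨τ, h1, ?_⟩
      rw [h2, hS]
      refine sup_le (Subgroup.closure_mono (Set.subset_insert _ _)) (Subgroup.closure_mono ?_)
      exact Set.singleton_subset_iff.2 (Set.mem_insert _ _)
  have hτ : ∀ τ, Tau τ y [v, a] → TY (g * τ * g⁻¹) ∧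
      ∀ x ∈ [v, a], g * τ * g⁻¹ * (g * x * g⁻¹) = g * x * g⁻¹ * (g * τ * g⁻¹) := by
    intro τ h1
    have h2 := h1.map (MulAut.conj g).toMonoidHom (MulAut.conj g).injective
    simp only [hcj] at h2
    rw [hy] at h2
    exact ⟨⟨h2.sq, h2.inv⟩, fun x hx => h2.comm _ (List.mem_map.2 ⟨x, hx, rfl⟩)⟩
  have hcen : ∀ p ∈ cen, g * v * g⁻¹ = getG LE p.1 → g * a * g⁻¹ = getG LE p.2.1 → False := by
    intro p hp h1 h2
    obtain ⟨c0, c1, c2, c3⟩ := facts.cent p hp
    refine false_of_cent h hS (g := g) c0 fun z hz => ?_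
    simp only [Set.mem_insert_iff, Set.mem_singleton_iff] at hz
    rcases hz with rfl | rfl | rfl
    · rw [hy]; exact c1
    · rw [h1]; exact c2
    · rw [h2]; exact c3
  rcases hva with ⟨h1, h2⟩ | ⟨h1, h2⟩ | ⟨h1, h2⟩ | ⟨h1, h2⟩ | ⟨h1, h2⟩ | ⟨h1, h2⟩ | ⟨h1, h2⟩ |
    ⟨h1, h2⟩ | ⟨h1, h2⟩ | ⟨h1, h2⟩
  · exact hcen (270, 235, 3) (by simp only [cen, List.mem_cons, Prod.mk.injEq, Nat.succ_ne_self, Nat.reduceEqDiff, and_true,
      and_self, OfNat.ofNat_ne_one, OfNat.ofNat_ne_zero, List.not_mem_nil, or_self, or_false]) (h1.trans e_v3.symm) h2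
  · exact hcen (269, 228, 3) (by simp [cen]) (h1.trans e_v4.symm) h2
  · exact hcen (268, 221, 2) (by simp [cen]) (h1.trans e_v5.symm) h2
  · exact hcen (267, 209, 2) (by simp [cen]) (h1.trans e_v6.symm) h2
  · -- class 7, first type
    have hall : ∀ x ∈ ({y, v, a} : Set 𝒢), ra (toVec 112 q7) (g * x * g⁻¹) = toVec 112 q7 := by
      intro x hx
      simp only [Set.mem_insert_iff, Set.mem_singleton_iff] at hx
      rcases hx with rfl | rfl | rfl
      · rw [hy, ← e_y0]; exact facts.q7_gen 282 (by simp)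
      · rw [h1, ← e_v7]; exact facts.q7_gen 266 (by simp)
      · rw [h2]; exact facts.q7_gen 206 (by simp)
    obtain ⟨k, hk, ho⟩ := facts.q7_el
    rcases hX with h5 | ⟨τ, h6, h5⟩
    · exact false_of_gens h h5 q7_ne hall hk (by rw [ho]; exact h11)
    · refine false_of_gens h h5 (g := g) q7_ne (fun x hx => ?_) hk (by rw [ho]; exact h11)
      rcases Set.mem_insert_iff.1 hx with rfl | hx
      · obtain ⟨h8, h9⟩ := hτ x h6
        have h10 := h9 v (by simp)
        rw [h1] at h10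
        have h12 := h9 a (by simp)
        rw [h2] at h12
        have h13 := T_a7a hcard h8 h10 h12
        simp only [List.map_cons, List.map_nil, List.mem_singleton] at h13
        rw [h13]
        exact facts.q7_gen 17 (by simp)
      · exact hall x hx
  · exact hcen (266, 204, 1) (by simp only [cen, List.mem_cons, Prod.mk.injEq, Nat.reduceEqDiff, OfNat.one_ne_ofNat,
      and_self, Nat.succ_ne_self, and_true, one_ne_zero, List.not_mem_nil, or_self, or_false, or_true]) (h1.trans e_v7.symm) h2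
  · exact hcen (265, 193, 1) (by simp [cen]) (h1.trans e_v8.symm) h2
  · -- class 9, first type
    have hall : ∀ x ∈ ({y, v, a} : Set 𝒢), ra (toVec 112 q9) (g * x * g⁻¹) = toVec 112 q9 := by
      intro x hx
      simp only [Set.mem_insert_iff, Set.mem_singleton_iff] at hx
      rcases hx with rfl | rfl | rfl
      · rw [hy, ← e_y0]; exact facts.q9_gen 282 (by simp)
      · rw [h1, ← e_v9]; exact facts.q9_gen 264 (by simp)
      · rw [h2]; exact facts.q9_gen 184 (by simp)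
    obtain ⟨k, hk, ho⟩ := facts.q9_el
    rcases hX with h5 | ⟨τ, h6, h5⟩
    · exact false_of_gens h h5 q9_ne hall hk (by rw [ho]; exact h7)
    · refine false_of_gens h h5 (g := g) q9_ne (fun x hx => ?_) hk (by rw [ho]; exact h7)
      rcases Set.mem_insert_iff.1 hx with rfl | hx
      · obtain ⟨h8, h9⟩ := hτ x h6
        have h10 := h9 v (by simp)
        rw [h1] at h10
        have h12 := h9 a (by simp)
        rw [h2] at h12
        have h13 := T_a9a hcard h8 h10 h12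
        simp only [List.map_cons, List.map_nil, List.mem_singleton] at h13
        rw [h13]
        exact facts.q9_gen 4 (by simp)
      · exact hall x hx
  · exact hcen (264, 179, 0) (by simp [cen]) (h1.trans e_v9.symm) h2
  · exact hcen (264, 193, 0) (by simp [cen]) (h1.trans e_v9.symm) h2

end Cfsg.Agent.H856.JM.A5
end

-- part: H265/JM/A6abs
section
/-!
# S5580, Part III: the row `A6`, abstract lemmas (helper265)
-/

set_option autoImplicit false

open Cfsg

namespace Cfsg.Agent.H265.JM.Six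

open Cfsg.Agent.H860.JM Cfsg.Agent.H856.JM

/-- the group `Spor.J4` -/
local notation "𝒢" => Cfsg.Spor.J4

variable {M S : Subgroup 𝒢}

/-- (L1) the normalizer of the socle is contained in `M` -/
theorem mem_of_norm (h : NL M S) {g : 𝒢} (hg : g ∈ Subgroup.normalizer (S : Set 𝒢)) : g ∈ M := by
  have hs : IsSimpleGroup 𝒢 := Cfsg.Agent.S1703.result.1
  have hle : M ≤ Subgroup.normalizer (S : Set 𝒢) := h.norm
  by_cases heq : M = Subgroup.normalizer (S : Set 𝒢)
  · rw [heq]; exact hg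
  · exfalso
    have h1 : Subgroup.normalizer (S : Set 𝒢) = ⊤ := h.coatom.2 _ (lt_of_le_of_ne hle heq)
    have h2 : S.Normal := Subgroup.normalizer_eq_top_iff.1 h1
    rcases h2.eq_bot_or_eq_top with h3 | h3
    · apply h.nab
      rw [h3]
      infer_instance
    · exact h.coatom.1 (top_le_iff.1 (h3 ▸ h.le))

/-- a group of order dividing 4 is abelian -/
theorem comm_of_card {Q : Type*} [Group Q] (h : Nat.card Q ∣ 4) (a b : Q) : a * b = b * a := by
  have : Finite Q := Nat.finite_of_card_ne_zero (fun h0 => by rw [h0] at h; exact absurd h (by norm_num))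
  have : Fact (Nat.Prime 2) := ⟨Nat.prime_two⟩
  obtain ⟨k, hk, hk'⟩ := (Nat.dvd_prime_pow Nat.prime_two).1 (show Nat.card Q ∣ 2 ^ 2 from h)
  interval_cases k
  · have h1 : Subsingleton Q := (Nat.card_eq_one_iff_unique.1 hk').1
    exact Subsingleton.elim _ _
  · have h1 : IsCyclic Q := isCyclic_of_prime_card (p := 2) hk'
    exact (IsCyclic.isMulCommutative (α := Q)).is_comm.comm a b
  · exact (IsPGroup.isMulCommutative_of_card_eq_prime_sq (p := 2) hk').is_comm.comm a b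

/-- (L2) -/
theorem comm_mem (h : NL M S) (e : Nonempty (S ≃* alternatingGroup (Fin 6))) {τ : 𝒢} (hτ : τ ∈ M) :
    ∀ m ∈ M, m⁻¹ * τ * m * τ⁻¹ ∈ S := by
  intro m hm
  have hn : (S.subgroupOf M).Normal := by
    refine ⟨fun x hx g => ?_⟩
    rw [Subgroup.mem_subgroupOf] at hx ⊢
    exact (Subgroup.mem_normalizer_iff.1 (h.norm g.2) _).1 hx
  have hc : Nat.card (M ⧸ S.subgroupOf M) ∣ 4 := relIndex_dvd_six h e
  have h1 := comm_of_card hc (QuotientGroup.mk (⟨m, hm⟩ : M)⁻¹ : M ⧸ S.subgroupOf M) (QuotientGroup.mk ⟨τ, hτ⟩)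
  have h2 : ((⟨m, hm⟩ : M)⁻¹ * ⟨τ, hτ⟩ * ⟨m, hm⟩ * (⟨τ, hτ⟩ : M)⁻¹) ∈ S.subgroupOf M := by
    rw [← QuotientGroup.eq_one_iff]
    rw [QuotientGroup.mk_mul, QuotientGroup.mk_mul, QuotientGroup.mk_mul, h1, QuotientGroup.mk_inv, QuotientGroup.mk_inv]
    group
  exact h2

/-! ### the configuration -/

/-- the configuration of `alt6` with its generators -/
structure Cfg (M S : Subgroup 𝒢) (y v a b : 𝒢) : Prop where
  nl : NL M S
  iso : Nonempty (S ≃* alternatingGroup (Fin 6))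
  t6 : T6 y v a b
  cl : S = Subgroup.closure {y, v, a, b}
  ex : ∃ N : Subgroup 𝒢, S ≤ N ∧ N ≤ M ∧ (∀ m ∈ M, ∀ m' ∈ M, m ∉ N → m' ∉ N → m * m' ∈ N) ∧
      (N = S ∨ ∃ τ, Tau τ y [v, a, b] ∧ N = S ⊔ Subgroup.closure {τ})

theorem exists_cfg (h : NL M S) (e : Nonempty (S ≃* alternatingGroup (Fin 6))) : ∃ y v a b, Cfg M S y v a b := by
  obtain ⟨y, v, a, b, h1, h2, h3⟩ := alt6 h e
  exact ⟨y, v, a, b, h, e, h1, h2, h3⟩

theorem cj_ne {g x : 𝒢} (h : x ≠ 1) : g * x * g⁻¹ ≠ 1 := by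
  intro h1
  apply h
  have : x = g⁻¹ * (g * x * g⁻¹) * g := by group
  rw [this, h1]; group

theorem t6_cj {y v a b : 𝒢} (h : T6 y v a b) (g : 𝒢) :
    T6 (g * y * g⁻¹) (g * v * g⁻¹) (g * a * g⁻¹) (g * b * g⁻¹) := by
  have hm : ∀ x z : 𝒢, g * x * g⁻¹ * (g * z * g⁻¹) = g * (x * z) * g⁻¹ := fun x z => by group
  have hi : ∀ x : 𝒢, (g * x * g⁻¹)⁻¹ = g * x⁻¹ * g⁻¹ := fun x => by group
  have h1 : g * 1 * g⁻¹ = (1 : 𝒢) := by group
  have hp : ∀ x : 𝒢, (g * x * g⁻¹) ^ 3 = g * x ^ 3 * g⁻¹ := fun x => by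
    rw [pow_succ, pow_two, pow_succ, pow_two, hm, hm]
  exact ⟨⟨⟨cj_ne h.y_ne, by rw [hm, hm, h.cube, h1], cj_ne h.v_ne, by rw [hm, h.sq, h1], by rw [hm, hp, h.br, h1]⟩,
    cj_ne h.a_ne, by rw [hm, h.asq, h1], by rw [hi, hi, hm, hm, h.ainv], by rw [hm, hp, h.abr, h1]⟩,
    cj_ne h.b_ne, by rw [hm, h.bsq, h1], by rw [hi, hi, hm, hm, h.binv], by rw [hm, hm, h.bv], by rw [hm, hp, h.bbr, h1]⟩

theorem tau_cj {τ y : 𝒢} {l : List 𝒢} (h : Tau τ y l) (g : 𝒢) :
    Tau (g * τ * g⁻¹) (g * y * g⁻¹) (l.map fun x => g * x * g⁻¹) := by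
  have hm : ∀ x z : 𝒢, g * x * g⁻¹ * (g * z * g⁻¹) = g * (x * z) * g⁻¹ := fun x z => by group
  have hi : ∀ x : 𝒢, (g * x * g⁻¹)⁻¹ = g * x⁻¹ * g⁻¹ := fun x => by group
  refine ⟨cj_ne h.ne, by rw [hm, h.sq]; group, by rw [hi, hi, hm, hm, h.inv], ?_⟩
  intro x hx
  obtain ⟨z, hz, rfl⟩ := List.mem_map.1 hx
  rw [hm, hm, h.comm z hz]

theorem closure_cj (g y v a b : 𝒢) : cj g (Subgroup.closure {y, v, a, b}) =
    Subgroup.closure {g * y * g⁻¹, g * v * g⁻¹, g * a * g⁻¹, g * b * g⁻¹} := by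
  unfold cj
  rw [MonoidHom.map_closure]
  congr 1
  rw [Set.image_insert_eq, Set.image_insert_eq, Set.image_insert_eq, Set.image_singleton]
  rfl

theorem cj_sup (g : 𝒢) (A B : Subgroup 𝒢) : cj g (A ⊔ B) = cj g A ⊔ cj g B := Subgroup.map_sup _ _ _

theorem closure_cj1 (g τ : 𝒢) : cj g (Subgroup.closure {τ}) = Subgroup.closure {g * τ * g⁻¹} := by
  unfold cj
  rw [MonoidHom.map_closure, Set.image_singleton]
  rfl

/-- the configuration is invariant under conjugation -/
theorem Cfg.conj {y v a b : 𝒢} (h : Cfg M S y v a b) (g : 𝒢) :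
    Cfg (cj g M) (cj g S) (g * y * g⁻¹) (g * v * g⁻¹) (g * a * g⁻¹) (g * b * g⁻¹) := by
  have hinj : Function.Injective (MulAut.conj g : MulAut 𝒢) := (MulAut.conj g).injective
  have e : S ≃* cj g S := Subgroup.equivMapOfInjective S _ hinj
  refine ⟨nl_cj h.nl g, h.iso.map e.symm.trans, t6_cj h.t6 g, by rw [h.cl, closure_cj], ?_⟩
  obtain ⟨N, h1, h2, h3, h4⟩ := h.ex
  refine ⟨cj g N, Subgroup.map_mono h1, Subgroup.map_mono h2, ?_, ?_⟩
  · rintro _ ⟨m, hm, rfl⟩ _ ⟨m', hm', rfl⟩ k1 k2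
    refine ⟨m * m', h3 m hm m' hm' ?_ ?_, map_mul _ _ _⟩
    · exact fun h5 => k1 ⟨m, h5, rfl⟩
    · exact fun h5 => k2 ⟨m', h5, rfl⟩
  · rcases h4 with h4 | ⟨τ, h4, h5⟩
    · left; rw [h4]
    · right
      refine ⟨g * τ * g⁻¹, tau_cj h4 g, ?_⟩
      rw [h5, cj_sup, closure_cj1]

/-- rows fixed by the generators -/
theorem Cfg.fix {y v a b : 𝒢} (h : Cfg M S y v a b) {w : Row} (h1 : ra w y = w) (h2 : ra w v = w) (h3 : ra w a = w)
    (h4 : ra w b = w) : ∀ s ∈ S, ra w s = w := by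
  have hle : S ≤ St w := by
    rw [h.cl, Subgroup.closure_le]
    intro x hx
    simp only [Set.mem_insert_iff, Set.mem_singleton_iff] at hx
    rcases hx with rfl | rfl | rfl | rfl
    exacts [h1, h2, h3, h4]
  exact fun s hs => hle hs

/-- an element mapping the generators into `S` normalizes `S` -/
theorem Cfg.norm {y v a b : 𝒢} (h : Cfg M S y v a b) {g : 𝒢} (h1 : g * y * g⁻¹ ∈ S) (h2 : g * v * g⁻¹ ∈ S)
    (h3 : g * a * g⁻¹ ∈ S) (h4 : g * b * g⁻¹ ∈ S) : g ∈ Subgroup.normalizer (S : Set 𝒢) := by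
  have hle : cj g S ≤ S := by
    conv_lhs => rw [h.cl, closure_cj]
    rw [Subgroup.closure_le]
    intro x hx
    simp only [Set.mem_insert_iff, Set.mem_singleton_iff] at hx
    rcases hx with rfl | rfl | rfl | rfl
    exacts [h1, h2, h3, h4]
  have hcard : Nat.card (cj g S) = Nat.card S :=
    (Nat.card_congr (Subgroup.equivMapOfInjective S _ (MulAut.conj g).injective).toEquiv).symm
  have heq : cj g S = S := Subgroup.eq_of_le_of_card_ge hle hcard.ge
  rw [Subgroup.mem_normalizer_iff]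
  intro x
  constructor
  · intro hx
    have h5 : g * x * g⁻¹ ∈ cj g S := ⟨x, hx, rfl⟩
    rw [heq] at h5
    exact h5
  · intro hx
    have h5 : g * x * g⁻¹ ∈ cj g S := by rw [heq]; exact hx
    obtain ⟨x', hx', h6⟩ := h5
    have h7 : g * x' * g⁻¹ = g * x * g⁻¹ := h6
    have h8 : x' = x := mul_left_cancel (mul_right_cancel h7)
    rw [← h8]
    exact hx'

theorem Cfg.mem {y v a b : 𝒢} (h : Cfg M S y v a b) : y ∈ S ∧ v ∈ S ∧ a ∈ S ∧ b ∈ S := by
  rw [h.cl]
  refine ⟨?_, ?_, ?_, ?_⟩ <;> exact Subgroup.subset_closure (by simp)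

theorem Cfg.tau_norm {y v a b : 𝒢} (h : Cfg M S y v a b) {τ : 𝒢} (hτ : Tau τ y [v, a, b]) :
    τ ∈ Subgroup.normalizer (S : Set 𝒢) := by
  obtain ⟨m1, m2, m3, m4⟩ := h.mem
  apply h.norm
  · rw [hτ.inv]; exact S.inv_mem m1
  · rw [hτ.comm v (by simp), mul_inv_cancel_right]; exact m2
  · rw [hτ.comm a (by simp), mul_inv_cancel_right]; exact m3
  · rw [hτ.comm b (by simp), mul_inv_cancel_right]; exact m4

/-- `M` acts on the rows fixed by `S` -/
theorem fixed_move (h : NL M S) {w : Row} (hw : ∀ s ∈ S, ra w s = w) {m : 𝒢} (hm : m ∈ M) :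
    ∀ s ∈ S, ra (ra w m) s = ra w m := by
  intro s hs
  have h1 : m * s * m⁻¹ ∈ S := (Subgroup.mem_normalizer_iff.1 (h.norm hm) s).1 hs
  have h2 := hw _ h1
  rw [ra_mul, ra_mul] at h2
  have h3 := ra_inv (g := m⁻¹) (u := ra (ra w m) s) (v := w) h2
  rw [inv_inv] at h3
  exact h3.symm

/-- (L3) for any element `τ` of `M` -/
theorem fixed_of_comm' (h : NL M S) (e : Nonempty (S ≃* alternatingGroup (Fin 6))) {τ : 𝒢} (hτ : τ ∈ M) {ws u : Row}
    (h0 : ws ≠ 0) (hK : ∀ w : Row, (∀ s ∈ S, ra w s = w) → w + ra w τ = 0 ∨ w + ra w τ = ws)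
    (hu : ∀ s ∈ S, ra u s = u) (hws : u + ra u τ = ws) : ∀ m ∈ M, ra ws m = ws := by
  intro m hm
  have h1 : ra u (τ * m) = ra (ra u m) τ := by
    have h2 : τ * m = m * (m⁻¹ * τ * m * τ⁻¹) * τ := by group
    rw [h2, ra_mul, ra_mul, fixed_move h hu hm _ (comm_mem h e hτ m hm)]
  have h3 : ra ws m = ra u m + ra (ra u m) τ := by
    rw [← hws, ra_add, ← ra_mul, h1]
  rcases hK (ra u m) (fixed_move h hu hm) with h4 | h4
  · exfalso
    apply h0
    rw [← h3] at h4
    exact ra_inj (h4.trans (ra_zero m).symm)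
  · rw [h3, h4]

/-- (L3) -/
theorem Cfg.fixed_of_comm {y v a b : 𝒢} (h : Cfg M S y v a b) {τ : 𝒢} (hτ : Tau τ y [v, a, b]) {ws u : Row}
    (h0 : ws ≠ 0) (hK : ∀ w : Row, (∀ s ∈ S, ra w s = w) → w + ra w τ = 0 ∨ w + ra w τ = ws)
    (hu : ∀ s ∈ S, ra u s = u) (hws : u + ra u τ = ws) : ∀ m ∈ M, ra ws m = ws :=
  fixed_of_comm' h.nl h.iso (mem_of_norm h.nl (h.tau_norm hτ)) h0 hK hu hws

/-- (L4) -/
theorem Cfg.fixed_of_exo {y v a b : 𝒢} (h : Cfg M S y v a b) (hno : ∀ τ, ¬ Tau τ y [v, a, b]) {g : 𝒢}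
    (hg : g ∈ Subgroup.normalizer (S : Set 𝒢)) (hgS : g ∉ S) {u : Row} (hu : ∀ s ∈ S, ra u s = u) (hug : ra u g = u) :
    ∀ m ∈ M, ra u m = u := by
  obtain ⟨N, h1, h2, h3, h4⟩ := h.ex
  have hN : N = S := by
    rcases h4 with h4 | ⟨τ, h4, -⟩
    · exact h4
    · exact absurd h4 (hno τ)
  intro m hm
  by_cases hmS : m ∈ S
  · exact hu m hmS
  · have hgM := mem_of_norm h.nl hg
    have h5 : m * g ∈ S := by
      rw [← hN]
      exact h3 m hm g hgM (by rw [hN]; exact hmS) (by rw [hN]; exact hgS)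
    have h6 := hu _ h5
    rw [ra_mul] at h6
    exact ra_inj (h6.trans hug.symm)

end Cfsg.Agent.H265.JM.Six
end

-- part: H856/JM/A6
section
/-!
# S5580, Part III: no maximal subgroup of `J4` has socle `A_6` (helper856)

The 19 quadruples `(y0, v, a, b)`: 12 have an explicit centralizing element (`cen`); in class 5 the three others are conjugate to
`b = 117`; `b = 117` and `b = 31` (class 7) have an element `τ`, the vector `ws` spans `[Fix S, τ]` (`hk`: the identity
`1 + τ = Σ (1 + g) X + c ws`); `b = 26` has no `τ` but an exotic element `g` of the normalizer fixing `u84`; `b = 18` is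
conjugate to `b = 26`.
-/

set_option autoImplicit false
set_option maxRecDepth 100000

open Cfsg

namespace Cfsg.Agent.H856.JM.A6

open Cfsg.Agent.Lib Cfsg.Agent.Lib.F2Mat Cfsg.Agent.Lib.F2MatGroup
open Cfsg.Agent.J4.Rep112
open Cfsg.Agent.H858.VK
open Cfsg.Agent.H878.JM.Base Cfsg.Agent.H878.JM.Elts
open Cfsg.Agent.H111.JM.Eng Cfsg.Agent.H111.JM.Env Cfsg.Agent.H111.JM.TList
open Cfsg.Agent.H856.JM.Small Cfsg.Agent.H856.JM.A78
open Cfsg.Agent.H265.JM.Six
open Cfsg.Agent.H860.JM (NL Excl cj)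

/-- the group `Spor.J4` -/
local notation "𝒢" => Cfsg.Spor.J4

/-! ### General checks -/

theorem toVec_xor (A B : ℕ) : toVec 112 (Nat.xor A B) = toVec 112 A + toVec 112 B := by
  ext j
  rw [Pi.add_apply, toVec_apply, toVec_apply, toVec_apply, ← bz_xor]
  congr 1
  exact Nat.testBit_xor _ _ _

theorem two_row (w : Row) : w + w = 0 := by
  ext j
  exact CharTwo.add_self_eq_zero _

/-- the code of `1 + g` -/
def pl (L : List ℕ) (k : ℕ) : ℕ := Nat.xor (get (F2Mat.one 112) L k) (F2Mat.one 112)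

theorem pl_sound {L : List 𝒢} {L' : List ℕ} (h : List.Forall₂ (Codes 112) (L.map rho) L') (k : ℕ) (w : Row) :
    Matrix.vecMul w (toMat 112 (pl L' k)) = ra w (getG L k) + w := by
  have h1 : toMat 112 (pl L' k) = toMat 112 (get (F2Mat.one 112) L' k) + toMat 112 (F2Mat.one 112) :=
    F2Rank.toMat_xor _ _ _
  have h2 := codes_getG h k
  unfold Codes at h2
  rw [h1, ← h2, F2Mat.toMat_one, Matrix.vecMul_add, Matrix.vecMul_one]
  rfl

/-- the right side of the identity -/
def hs (L : List ℕ) (gs : List (ℕ × ℕ)) (C ws : ℕ) : ℕ :=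
  gs.foldr (fun p acc => Nat.xor acc (F2Mat.mul 112 (pl L p.1) p.2)) (F2Mat.mul 112 C ws)

/-- the identity `1 + τ = Σ (1 + g) X + c ws` -/
def hk (L : List ℕ) (gs : List (ℕ × ℕ)) (C ws t : ℕ) : Bool := Nat.beq (hs L gs C ws) (pl L t)

theorem row_mat {ws : ℕ} (hws : ws < 2 ^ 112) (x : Row) :
    Matrix.vecMul x (toMat 112 ws) = x 0 • toVec 112 ws := by
  ext j
  rw [Matrix.vecMul, dotProduct, Finset.sum_eq_single (0 : Fin 112)]
  · rw [Pi.smul_apply, toVec_apply, toMat_apply, smul_eq_mul]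
    congr 3
    simp
  · intro i _ hi
    rw [toMat_apply, Nat.testBit_eq_false_of_lt, bz_false, mul_zero]
    refine lt_of_lt_of_le hws (Nat.pow_le_pow_right (by norm_num) ?_)
    have h1 : 1 ≤ (i : ℕ) := by
      rcases Nat.eq_zero_or_pos (i : ℕ) with h0 | h0
      · exact absurd (Fin.ext h0) hi
      · exact h0
    omega
  · intro h
    exact absurd (Finset.mem_univ _) h

theorem hs_sound {L : List 𝒢} {L' : List ℕ} (h : List.Forall₂ (Codes 112) (L.map rho) L') (C ws : ℕ) {w : Row}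
    (gs : List (ℕ × ℕ)) (hw : ∀ p ∈ gs, ra w (getG L p.1) = w) :
    Matrix.vecMul w (toMat 112 (hs L' gs C ws)) = Matrix.vecMul w (toMat 112 (F2Mat.mul 112 C ws)) := by
  induction gs with
  | nil => rfl
  | cons p gs ih =>
    have h1 : toMat 112 (hs L' (p :: gs) C ws) =
        toMat 112 (hs L' gs C ws) + toMat 112 (F2Mat.mul 112 (pl L' p.1) p.2) := F2Rank.toMat_xor _ _ _
    rw [h1, Matrix.vecMul_add, ih (fun q hq => hw q (List.mem_cons_of_mem _ hq)), F2Mat.toMat_mul 112 (pl L' p.1),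
      ← Matrix.vecMul_vecMul, pl_sound h, hw p List.mem_cons_self, two_row, Matrix.zero_vecMul, add_zero]

theorem hk_sound {L : List 𝒢} {L' : List ℕ} (h : List.Forall₂ (Codes 112) (L.map rho) L') {gs : List (ℕ × ℕ)}
    {C ws t : ℕ} (hws : ws < 2 ^ 112) (hc : hk L' gs C ws t = true) {w : Row}
    (hw : ∀ p ∈ gs, ra w (getG L p.1) = w) :
    w + ra w (getG L t) = 0 ∨ w + ra w (getG L t) = toVec 112 ws := by
  have h1 := hs_sound h C ws gs hw
  have h2 : hs L' gs C ws = pl L' t := Nat.eq_of_beq_eq_true hc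
  rw [h2, pl_sound h, F2Mat.toMat_mul, ← Matrix.vecMul_vecMul, row_mat hws] at h1
  rw [add_comm w, h1]
  have h3 : ∀ z : ZMod 2, z = 0 ∨ z = 1 := by decide
  rcases h3 (Matrix.vecMul w (toMat 112 C) 0) with h4 | h4
  · left; rw [h4, zero_smul]
  · right; rw [h4, one_smul]

/-- `u` is fixed by the element `k`, and the image of `w` under `k` is not fixed by the element `s` -/
def mv (u w : ℕ) (L : List ℕ) (k s : ℕ) : Bool :=
  cond (Nat.beq (vmul 112 u (get (F2Mat.one 112) L k)) u)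
    (cond (Nat.beq (vmul 112 (vmul 112 w (get (F2Mat.one 112) L k)) (get (F2Mat.one 112) L s))
      (vmul 112 w (get (F2Mat.one 112) L k))) false true) false

theorem ra_code {L : List 𝒢} {L' : List ℕ} (h : List.Forall₂ (Codes 112) (L.map rho) L') (u k : ℕ) :
    ra (toVec 112 u) (getG L k) = toVec 112 (vmul 112 u (get (F2Mat.one 112) L' k)) := by
  unfold ra
  rw [← codes_vmul (codes_getG h k)]

theorem not_beq {a b : ℕ} (h : cond (Nat.beq a b) false true = true) : a ≠ b := by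
  intro h0
  subst h0
  rw [Nat.beq_refl] at h
  exact Bool.false_ne_true h

theorem mv_sound {L : List 𝒢} {L' : List ℕ} (h : List.Forall₂ (Codes 112) (L.map rho) L') {u w k s : ℕ}
    (hc : mv u w L' k s = true) : ra (toVec 112 u) (getG L k) = toVec 112 u ∧
      ra (ra (toVec 112 w) (getG L k)) (getG L s) ≠ ra (toVec 112 w) (getG L k) := by
  unfold mv at hc
  obtain ⟨h1, h2⟩ := CommTest.cond_true hc
  refine ⟨by rw [ra_code h, Nat.eq_of_beq_eq_true h1], fun h3 => ?_⟩
  rw [ra_code h w k, ra_code h _ s] at h3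
  exact not_beq h2 (toVec_inj (vmul_lt _ _) (vmul_lt _ _) h3)

/-! ### The data -/

/-- `b = 117`: the vector spanning `[Fix S, τ]` -/
def wsA : ℕ := 3610404542753461781820182727518995

/-- `b = 117`: a vector with `u + u τ = ws` -/
def uA : ℕ := 1327377220582297702008568703322003

/-- `b = 117`: a vector of `Fix S` -/
def wA : ℕ := 2820749971069206860836352426028014

/-- `b = 117`: the functional -/
def CA : ℕ := 0x100000000000000000000000000000000000000000000000000000000000000000000000000000000000000000000000000000000000000000000000000000000000000000000000000000000000000000000000000000000000000000000000000000000000000000000000000000000000000000000000000000000000000000000000000000000000000000000000000000000000000000000000000000000000000000000000000000000000000000000000000000000000000000000000000000000000000000000000000000000000000000000000000000000000000000000000000000000000000000000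

/-- `b = 117`: the matrices of the identity -/
def gsA : List (ℕ × ℕ) := [
  (282, 0x79ce5d10985192313c478972aae0ad49fa722606e615cdade9edef650000000000000000000000000000de228c8aa36074540580b5061815000000000000000000000000000084ac8aa24db8415b4018822a063b5c3b3887a23461b87f8c2938cd16df8e6989448385c854dc15216e277a4ede688b19091ab1525a5638a634fdcb314f799f257d81ba6ab9e374443909d1d757b15e31f18010576fc68718e1653d11c7d24b403d5e5cd8180f77db46fbd4505f40a57a0c9160499bc1d026f0f0b07e804857fac370cfd57e1cd34c10da41a17ed7020127324dae48344780fae57a8f63c67027513d24218fe86e94e3755d91c8c97743c03fe4c06b2b010765aaa707f8cd52c0a9b926c7df46882d32d4ea1d6e80c9735502e6fb5e19a875951480e82a7dd6c796d1c9ede2b5370737667014ac164ee1a3c51b6ff4006f0c01ef1bbaeab62583e3933f72eb31d37cf5c4fb74dd2ab776307b11de7767cf7a48dee2deeeb3f0e9b596e1e363fb2bbfd1f4df605b0bbb53f7bc5ee3f147f0f827a23cbb31fd7de69b7253b1c98b174a313bf6920090ee370690faafa5c8b7808ade8b9d907fc165280e55f7678a626af5f28b9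375249a190ada5ce0dc24f4131591013c10f5b896dde8178975acaff9ae287125d726ed276bd9c8bc1f181a99bcb7f589dc5afeadd2b87cad126e702491d75ec468d1752b672f3b6317cde1b18f78814173184ce5eb92539e203ea39ce839561046d125fc6a6b39b48a99ea1c76d7a949a2aad6cf448ca28ad97185ddbb8454ae97fb1a7b2cbcde01a021d1b164c40492d0642b83d585a2e2e5d2c50f1118503f9a8f6bd952d2ddf073af238760703bc3dbdf43ea9182bf00ff6dfccd664fd77ffa6081dff5d91a44a2eef8be8b427d303acd490a6b0f9af77a777711ed7ba564f16122dbc1ed9eb72d7abb7c1637b1f7bebc6746ad62a0d10c15c16228b7b8d76f5ddb1aefa03b9d44aaf9b620bd92ff6595a2fb95c5c7957aec9fa9b3be45fd42289a11c6b008fd9c0aec88ed3c1292dfb92419787af8281696c85fae1e2d75c6b3a2965de49017e0cd8f0a38421e2ebf559338d893e8a674c8572f391cc9756357d609239916fb73061e95772b1e47a6710e4e83fee559d866a7f7791f627e8a7beaeca52cf42414168a3cfd25af290c68ab3514630d2bb11a6a1244e2860fff53f4d4ec1c8c29513550471f20c29693b2ff63c955dedfabe6e850f67e952bdf0b5b252360fd069b2211246b66bba385c2ee534d01573000552fb8f1997b34f060a56c47deeaea3ac1f84b91c9ee272ca00fe9f53e9f9efe6b0caa912a983d1f53cb360bfe1e5289181c1c6dc58a124749a5bd289cb53deb1ee1cef1a38defbd233ac09bfd12b1cb8946a462398fba502530c7cdfdccc3c2178b3520d2ace179a2d721751af7566f02a7a3d24bbe825cf96eec592abf389b94),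
  (268, 0x723a8803bb0443cf1a47acbf8ed47160b16c93867060c49531d516ac4202a19932016e7b9da83daa49b8844c6b1716aae9464f201435fd3878882d221eed3bb7ade008f7d2d33ed84edfed8af80755e40c0337d0591d9911dd9b4b9e39e77c149e7f76c20e45fb88a5fdcc037d2561b858412846339d80ce7353e3078385a5b85f810ae687ce18ca1e81f9f874b06d12cd8c2cb0c7ffd107876c793a905b7486f78a231426c50dad262616e9fb03e929bffa6ec2a1c3214f6d47cddd69ecc769b4a1dd6cc9c2bfff5b25a4f8a205dc24bbc3fb22b11065ce4bf89dfe09d7d9ac180149ebc29f5ade0d358531ceec9f23cec976719e9f0be97d0df8e87fc49e25f28ee9476136f5266743e4e0c7771065da1a5bb0be4128383c1174590a1f762ece9b1e3408a899b8362b5082bd7df53a56646b2bb369d24c59f135852fc6f11825ad107ad64c80e3ac8f21ed334ead9334d5c416e633a4950ddc9083033a),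
  (221, 0xaf5faf5ffaf3ffbffbaeb5fdbed700000000000000000000000000000000000000000000000000000000576b3dfe2fea2e3ef3edfbc208d20000000000000000000000000000b201b6413d31e07df25c1f686b1300000000000000000000000000000000000000000000000000000000576b3dfe2fea2e3ef3edfbc208d21d5e191ec7c21fc209f2aa95d5c4),
  (117, 0x4dfe49bec2ce1f820da3e09794ec0000000000000000000000000000ffffffffffffffffffffffffffff)]

/-- `b = 31`: the vector spanning `[Fix S, τ]` -/
def wsB : ℕ := 1004240453915372860918926697624280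

/-- `b = 31`: a vector with `u + u τ = ws` -/
def uB : ℕ := 255642333034984771122947805042380

/-- `b = 31`: a vector of `Fix S` -/
def wB : ℕ := 2697459623356898117614519290133187

/-- `b = 31`: the functional -/
def CB : ℕ := 26959946667150639794667015087019630673637144422540572481103610249216

/-- `b = 31`: the matrices of the identity -/
def gsB : List (ℕ × ℕ) := [
  (282, 0x6090f5f2c0c3a8a67ba0ef8e9c435fcb36294b5c4189f4fb04f27a7d00000000000000000000000000002bd25e66c1eabc988362cde85d410000000000000000000000000000c9fb90fb8236b0e810211d70210899f325d1729dbf312b0ed39213329b363246c4f9cc57d919cf230283232547716237c0590d6174f6ebe5bc45aec4cfa50bd183a665e7977acc1f662d7f886f59cf597b186114944a3042969ee411706b791334a739487544afaac270a855070e44eb644d1bde72dcc40824dc9e008b5c65a2363f2d8a229ff28d6f4da6487ca21a86892873d0d8450d982774c92be4751e2c9efc2a54c2cafcac26e4df0156015985d304edc823082bdb74c9cf3926d24c94bae169e15070f80ea8064ac86df25df051fb9847838562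ffd6e5a5c8ff75fc083b7dc6c9f4e099077ab694df0918e5d1eee207ff69bb98a327cb6aeba1bfaa866c666e2a6c3172f2f1afaf35423f33b128d52f281e2df1acad232cab5156f8c795746bd827567ac90d14ddbddd43e2e949258fd729af0d33fa1abffa9071ef887fbc80e7f94dac8f4367c76037b50999783ac549f6a574c73bb2141c586f8f002409caddfa5d10b0aeca67dbccf098ba32e915a76c8748e566b6fdb85ae4555d534c875132f0b4c521125ab4f9ad622de9ea241dc826b6a02a76631b4e781142640eab7786026cea0309b757c1d5d67ba2d06b9bb57c99a91cab61d3eba482dea806d6b8bfc652acc4a968e828fd5be7cbf9ffb457d1a4b507d7d66b0abe6498d0e4b868f820168e52ab2de2dcdf745c0c12bb4ad58d8bc4dfc445d7211ef09129bf9267935041e1c1a1614e257ccc14b18728fb80a1be46707a4f7272dce9a3452204952d6f61ee66ee1660a590f0f5e69064d4e6cdf9cce481d8f93684fa1d53d5ccb84335cbe02fb8b81286ee665c6a841386ed4a9a16e396db51a44e219df1b2b7320d64bfb5a99083ce8d12a99fe8f33d9c786eaefe8169b72156a8763a1ac3ae430e2b205b1a7274f27fd5200a2e99affda5f27fbc007946f5fa4c9ab55635dab6c5809c9968a89dfaba1ddd2d3d8eb4f5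6e53cd13375f1f4c9e2dce1a1574f470ae2ce3b0de759c1195abe61c5ab6ba442181f61092de99820353f5f449d196c5bcfcc9f55a4773add5b7be0be19e862a2d9c4966dbdf52ad742df1e010be5c89d21a341b3584202a63224fd73654bd3b7c49bf55bcf3995a70ff1d64b164551581a96d9f24dbfdb7e0bf61861c5914b90920345b07d5a8b6ad5d9b68375efe7d71d2b5f09f773f4d68e23f6b95c0d0ad00ac78e06afac475f0524db19a15d48b84d45ab26c768574bdd589a024433188f2af611b6526c88057eb7a29522fa4a1000adadab8138a611a07d62e89dcfcb5350a0a4cfbaa7274c664f391341dab4905194b543be8fac337f7c0f74f498d1854eaf6bb22ebcca2d2150327f1487bf61a7a),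
  (266, 0x67213274e2f7390040aa8514ac9695c1277d7401c353b2cfdcacbba600000000000000000000000000000000000000000000000000000000cfaba902dc1bfcd6dff2ee68b1a0f5b6ec40504a532de5ade25ecba2c2611e5c7f558a44b96a24771e0eb047a89d5bbe55a50c69741ca169a9d6d75b9d8fd159ed9da0c15bee05fb0dd3d48bd69ffc39dc9ce97c3c83fa88b4dcf0b565ab8160dce73061d879a7f0d920e84b737535d0138e8102fa8b5c3931bcc73da873e00756a24b0a64d76a5a37d28a148d702cfe0a66d54e445ba628d42f15b1bae21b4037fa8ff7d58c41b65d1df0a2ebe694f54a57058f2a749328f2585ac3e63f0483d31e8f0a4233b73a901a4d49c4f5d0a98af665879469fdbabaad2746056ed8e7053a596b1f987da66fdf5e8b2972e9fd19c1c7b00340c8c266b224b9da3827194755f88810a2c61a9efea64e1c246e8b596da4490a5933b0233156549a4606502de83f18935d7eb3fedf21888c56d15b209ac41963fa4be28e2a7d7eabf3f7d1d0e4),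
  (206, 0x688c778f95e76706d2384d66b747000000000000000000000000000031834be9d1fbd1521cc82e68f2d800000000000000000000000000000000000000000000000000000000590f3c66441cb654cef0630e459ff2977fe680b980711bdddb5c8579ab984380c4a53625d52db852c0e6ab984380c4a53625d52db852c0e6f2977fe680b980711bdddb5c8579),
  (31, 0x84feba1f95ddf9517f7e04ff7ac30000000000000000000000000000b57df1f64426280363b62a97881b0000000000000000000000000000)]

/-- `b = 26`: the vector fixed by `S` and by the exotic element -/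
def uE : ℕ := 2766336385901409136750131439021071

/-- `b = 26`: a vector fixed by `S`, not by the exotic element -/
def wE : ℕ := 2699740290274880999208029902346755

/-- `b = 26`: a vector fixed by `S` -/
def wF : ℕ := 2699740290274880999208029902346755

/-- the exotic element (first entry), 13 steps -/
def slx : List (List ℕ) := [[26, 43], [0, 283], [0, 28], [0, 209], [210, 286, 210], [0, 31], [0, 212, 0], [3, 0, 213, 4, 0, 3], [3, 7, 214, 274, 214], [2, 215, 275, 215, 7, 2, 0], [5, 276, 216, 292, 276], [4, 277, 6, 217, 277, 293, 4, 0], [294, 218, 38, 4, 3, 2, 2, 1, 0, 0, 4]]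

/-- its relations: `x g = g x'` -/
def rx : List (ℕ × List ℕ) := [(295, [295, 219, 39]), (279, [279, 295, 219, 279]), (219, [295, 219, 39, 219]), (39, [219, 295])]

/-- the positions of `v`, `a`, `b` and of an element commuting with `y0`, `v`, `a`, `b` -/
def cen : List (ℕ × ℕ × ℕ × ℕ) := [(270, 235, 221, 3), (270, 235, 171, 3), (270, 235, 163, 2), (270, 235, 154, 3), (270, 235, 150, 3), (270, 235, 138, 2), (269, 228, 132, 3), (269, 228, 119, 3), (268, 221, 101, 2), (268, 221, 78, 2), (268, 221, 66, 2), (267, 209, 54, 2)]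

/-- the generators -/
def gA : List ℕ := [282, 268, 221, 117]

/-- the generators -/
def gB : List ℕ := [282, 266, 206, 31]

/-- the generators -/
def gE : List ℕ := [282, 266, 206, 26]

/-- relations in `LE` -/
def esx : List (List ℕ × List ℕ) := [([255, 282], [282, 255]), ([255, 268], [268, 255]), ([255, 221], [221, 255]),
  ([2, 282], [282, 2]), ([2, 268], [268, 2]), ([2, 221], [221, 2]),
  ([255, 108], [117, 255]), ([255, 2, 94], [117, 255, 2]), ([2, 86], [117, 2]),
  ([65, 65], []), ([65, 282, 65, 282], []), ([65, 268], [268, 65]), ([65, 221], [221, 65]), ([65, 117], [117, 65]),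
  ([17, 17], []), ([17, 282, 17, 282], []), ([17, 266], [266, 17]), ([17, 206], [206, 17]), ([17, 31], [31, 17]),
  ([17, 18], [26, 17])]

/-- inequations in `LE` -/
def nsx : List (List ℕ × List ℕ) := [([65], []), ([17], []), ([17, 26], [26, 17])]

/-- all checks -/
def chks (L : List ℕ) : Bool :=
  cond (cen.all fun p => cond (eqs 112 [([p.2.2.2, 282], [282, p.2.2.2]), ([p.2.2.2, p.1], [p.1, p.2.2.2]),
        ([p.2.2.2, p.2.1], [p.2.1, p.2.2.2]), ([p.2.2.2, p.2.2.1], [p.2.2.1, p.2.2.2])] L)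
        (neqs 112 [([p.2.2.2], [])] L) false)
  (cond (eqs 112 esx L) (cond (neqs 112 nsx L)
  (cond (fx uA L gA) (cond (fx wA L gA) (cond (Nat.beq (Nat.xor uA (vmul 112 uA (get (F2Mat.one 112) L 65))) wsA)
  (cond (mv wsA wA L 66 221) (cond (hk L gsA CA wsA 65)
  (cond (fx uB L gB) (cond (fx wB L gB) (cond (Nat.beq (Nat.xor uB (vmul 112 uB (get (F2Mat.one 112) L 17))) wsB)
  (cond (mv wsB wB L 71 266) (cond (hk L gsB CB wsB 17)
  (cond (fx uE L gE) (cond (fx wE L gE) (cond (fx wF L gE) (cond (mv uE wF L 277 266)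
  (run 112 slx L fun L3 => cond (fx uE L3 [0])
    (cond (cond (Nat.beq (vmul 112 wE (get (F2Mat.one 112) L3 0)) wE) false true)
      (rx.all fun p => eqs 112 [([p.1, 0], 0 :: p.2)] L3) false) false)
  false) false) false) false) false) false) false) false) false) false) false) false) false) false) false) false) false

theorem chk : run 112 (slpJ ++ slpE) codes chks = true := by
  delta chks fx
  rw [Lib.F112.run_eq, Lib.F112.eqs_eq, Lib.F112.neqs_eq, Lib.F112.vm_eq]
  decide +kernel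

/-- equations -/
theorem eq_of {es : List (List ℕ × List ℕ)} {L : List 𝒢} {L' : List ℕ}
    (h : List.Forall₂ (Codes 112) (L.map rho) L') (hc : eqs 112 es L' = true) {q : List ℕ × List ℕ} (hq : q ∈ es) :
    evG L q.1 = evG L q.2 := by
  apply rho_injective
  rw [← evG_map, ← evG_map]
  exact eqs_sound h hc q hq

theorem ne_of {es : List (List ℕ × List ℕ)} {L : List 𝒢} {L' : List ℕ}
    (h : List.Forall₂ (Codes 112) (L.map rho) L') (hc : neqs 112 es L' = true) {q : List ℕ × List ℕ} (hq : q ∈ es) :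
    evG L q.1 ≠ evG L q.2 := by
  intro h0
  have h1 := congrArg rho h0
  rw [← evG_map, ← evG_map] at h1
  exact neqs_sound (by norm_num) h hc q hq h1

/-- the facts for `b = 117` and `b = 31` -/
structure TFacts (v a b t k s u w ws : ℕ) : Prop where
  u_fix : ∀ x ∈ [282, v, a, b], ra (toVec 112 u) (getG LE x) = toVec 112 u
  w_fix : ∀ x ∈ [282, v, a, b], ra (toVec 112 w) (getG LE x) = toVec 112 w
  uw : toVec 112 u + ra (toVec 112 u) (getG LE t) = toVec 112 ws
  mv : ra (toVec 112 ws) (getG LE k) = toVec 112 ws ∧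
    ra (ra (toVec 112 w) (getG LE k)) (getG LE s) ≠ ra (toVec 112 w) (getG LE k)
  hK : ∀ x : Row, (∀ z ∈ [282, v, a, b], ra x (getG LE z) = x) →
    x + ra x (getG LE t) = 0 ∨ x + ra x (getG LE t) = toVec 112 ws

/-- the facts -/
structure Facts : Prop where
  cent : ∀ p ∈ cen, getG LE p.2.2.2 ≠ 1 ∧ getG LE p.2.2.2 * y0 = y0 * getG LE p.2.2.2 ∧
    getG LE p.2.2.2 * getG LE p.1 = getG LE p.1 * getG LE p.2.2.2 ∧
    getG LE p.2.2.2 * getG LE p.2.1 = getG LE p.2.1 * getG LE p.2.2.2 ∧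
    getG LE p.2.2.2 * getG LE p.2.2.1 = getG LE p.2.2.1 * getG LE p.2.2.2
  es : ∀ q ∈ esx, evG LE q.1 = evG LE q.2
  ns : ∀ q ∈ nsx, evG LE q.1 ≠ evG LE q.2
  fA : TFacts 268 221 117 65 66 221 uA wA wsA
  fB : TFacts 266 206 31 17 71 266 uB wB wsB
  uE_fix : ∀ x ∈ gE, ra (toVec 112 uE) (getG LE x) = toVec 112 uE
  wE_fix : ∀ x ∈ gE, ra (toVec 112 wE) (getG LE x) = toVec 112 wE
  wF_fix : ∀ x ∈ gE, ra (toVec 112 wF) (getG LE x) = toVec 112 wF
  mvE : ra (toVec 112 uE) (getG LE 277) = toVec 112 uE ∧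
    ra (ra (toVec 112 wF) (getG LE 277)) (getG LE 266) ≠ ra (toVec 112 wF) (getG LE 277)
  exo : ∃ g : 𝒢, ra (toVec 112 uE) g = toVec 112 uE ∧ ra (toVec 112 wE) g ≠ toVec 112 wE ∧
    ∀ K : Subgroup 𝒢, (∀ x ∈ gE, getG LE x ∈ K) → ∀ x ∈ gE, g⁻¹ * getG LE x * g ∈ K

theorem evG_memL {L : List 𝒢} {K : Subgroup 𝒢} (w : List ℕ) (h : ∀ k ∈ w, getG L k ∈ K) : evG L w ∈ K := by
  induction w with
  | nil => exact K.one_mem
  | cons k w ih =>
    rw [evG_cons]
    exact K.mul_mem (h k List.mem_cons_self) (ih fun z hz => h z (List.mem_cons_of_mem _ hz))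

theorem get_old (k : ℕ) : getG (runG slx LE) (13 + k) = getG LE k :=
  getG_runG_old slx LE (by decide) k

theorem facts : Facts := by
  obtain ⟨L2, h2, h⟩ := Cfsg.Agent.H878.JM.Elts.run_env chk
  unfold chks at h
  obtain ⟨a0, h⟩ := CommTest.cond_true h
  obtain ⟨a1, h⟩ := CommTest.cond_true h
  obtain ⟨a2, h⟩ := CommTest.cond_true h
  obtain ⟨b1, h⟩ := CommTest.cond_true h
  obtain ⟨b2, h⟩ := CommTest.cond_true h
  obtain ⟨b3, h⟩ := CommTest.cond_true h
  obtain ⟨b4, h⟩ := CommTest.cond_true h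
  obtain ⟨b5, h⟩ := CommTest.cond_true h
  obtain ⟨c1, h⟩ := CommTest.cond_true h
  obtain ⟨c2, h⟩ := CommTest.cond_true h
  obtain ⟨c3, h⟩ := CommTest.cond_true h
  obtain ⟨c4, h⟩ := CommTest.cond_true h
  obtain ⟨c5, h⟩ := CommTest.cond_true h
  obtain ⟨d1, h⟩ := CommTest.cond_true h
  obtain ⟨d2, h⟩ := CommTest.cond_true h
  have d3 := (CommTest.cond_true h).1
  replace h := (CommTest.cond_true h).2
  have d4 := (CommTest.cond_true h).1
  replace h := (CommTest.cond_true h).2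
  obtain ⟨L3, h3, h⟩ := run_sound h2 h
  rw [runG_map] at h3
  obtain ⟨e1, h⟩ := CommTest.cond_true h
  obtain ⟨e2, e3⟩ := CommTest.cond_true h
  refine ⟨?_, fun q hq => eq_of h2 a1 hq, fun q hq => ne_of h2 a2 hq,
    ⟨fun x hx => fx_sound h2 b1 hx, fun x hx => fx_sound h2 b2 hx, ?_, mv_sound h2 b4, ?_⟩,
    ⟨fun x hx => fx_sound h2 c1 hx, fun x hx => fx_sound h2 c2 hx, ?_, mv_sound h2 c4, ?_⟩,
    fun x hx => fx_sound h2 d1 hx, fun x hx => fx_sound h2 d2 hx, fun x hx => fx_sound h2 d3 hx, mv_sound h2 d4, ?_⟩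
  · intro p hp
    rw [List.all_eq_true] at a0
    obtain ⟨f1, f2⟩ := CommTest.cond_true (a0 p hp)
    have g1 := eq_of h2 f1 (q := ([p.2.2.2, 282], [282, p.2.2.2])) (by simp)
    have g2 := eq_of h2 f1 (q := ([p.2.2.2, p.1], [p.1, p.2.2.2])) (by simp)
    have g3 := eq_of h2 f1 (q := ([p.2.2.2, p.2.1], [p.2.1, p.2.2.2])) (by simp)
    have g4 := eq_of h2 f1 (q := ([p.2.2.2, p.2.2.1], [p.2.2.1, p.2.2.2])) (by simp)
    simp only [evG_cons, evG_nil, mul_one, e_y0] at g1 g2 g3 g4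
    refine ⟨fun h0 => ?_, g1, g2, g3, g4⟩
    apply ne_of h2 f2 (q := ([p.2.2.2], [])) (by simp)
    rw [evG_cons, evG_nil, mul_one, h0]
  · rw [ra_code h2, ← toVec_xor, Nat.eq_of_beq_eq_true b3]
  · intro x hx
    refine hk_sound h2 (by decide +kernel) b5 fun p hp => ?_
    have h4 : p.1 ∈ [282, 268, 221, 117] := List.mem_map.2 ⟨p, hp, rfl⟩
    exact hx _ h4
  · rw [ra_code h2, ← toVec_xor, Nat.eq_of_beq_eq_true c3]
  · intro x hx
    refine hk_sound h2 (by decide +kernel) c5 fun p hp => ?_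
    have h4 : p.1 ∈ [282, 266, 206, 31] := List.mem_map.2 ⟨p, hp, rfl⟩
    exact hx _ h4
  · refine ⟨getG (runG slx LE) 0, fx_sound h3 e1 (by simp), ?_, ?_⟩
    · intro h4
      rw [ra_code h3] at h4
      exact not_beq e2 (toVec_inj (vmul_lt _ _) (by decide +kernel) h4)
    · intro K hK
      have hK' : ∀ x ∈ gE.map (fun k => 13 + k), getG (runG slx LE) x ∈ K := by
        intro x hx
        obtain ⟨k, hk, rfl⟩ := List.mem_map.1 hx
        rw [get_old]
        exact hK k hk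
      have h5 : ∀ p ∈ rx, (getG (runG slx LE) 0)⁻¹ * getG (runG slx LE) p.1 * getG (runG slx LE) 0 ∈ K := by
        intro p hp
        rw [List.all_eq_true] at e3
        have h6 := eq_of h3 (e3 p hp) (q := ([p.1, 0], 0 :: p.2)) (by simp)
        rw [evG_cons, evG_cons, evG_nil, mul_one, evG_cons] at h6
        rw [mul_assoc, h6, inv_mul_cancel_left]
        have h7 : ∀ p ∈ rx, ∀ k ∈ p.2, k ∈ gE.map (fun k => 13 + k) := by decide
        exact evG_memL _ fun k hk => hK' k (h7 p hp k hk)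
      have h8 : ∀ x ∈ gE, ∃ p ∈ rx, p.1 = 13 + x := by decide
      intro x hx
      obtain ⟨p, hp, h9⟩ := h8 x hx
      have h10 := h5 p hp
      rwa [h9, get_old] at h10

theorem wsA_ne : toVec 112 wsA ≠ 0 := by
  intro h
  have h1 := congrFun h 0
  rw [toVec_apply] at h1
  revert h1
  decide +kernel

theorem wsB_ne : toVec 112 wsB ≠ 0 := by
  intro h
  have h1 := congrFun h 3
  rw [toVec_apply] at h1
  revert h1
  decide +kernel

theorem uE_ne : toVec 112 uE ≠ 0 := by
  intro h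
  have h1 := congrFun h 0
  rw [toVec_apply] at h1
  revert h1
  decide +kernel

/-! ### The row -/

variable {M S : Subgroup 𝒢}

/-- exclusion by an element of the centralizer -/
theorem false_cent {y v a b x : 𝒢} (h : Cfg M S y v a b) (hx : x ≠ 1) (h1 : x * y = y * x) (h2 : x * v = v * x)
    (h3 : x * a = a * x) (h4 : x * b = b * x) : False := by
  have hle : S ≤ Subgroup.centralizer {x} := by
    rw [h.cl, Subgroup.closure_le]
    intro z hz
    show z ∈ Subgroup.centralizer {x}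
    rw [Subgroup.mem_centralizer_singleton_iff]
    simp only [Set.mem_insert_iff, Set.mem_singleton_iff] at hz
    rcases hz with rfl | rfl | rfl | rfl
    exacts [h1.symm, h2.symm, h3.symm, h4.symm]
  apply hx
  apply cent_eq_one h.nl
  intro z hz
  exact (Subgroup.mem_centralizer_singleton_iff.1 (hle hz)).symm

theorem false_cen {p : ℕ × ℕ × ℕ × ℕ} (hp : p ∈ cen) {v a b : 𝒢} (h : Cfg M S y0 v a b) (h1 : v = getG LE p.1)
    (h2 : a = getG LE p.2.1) (h3 : b = getG LE p.2.2.1) : False := by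
  subst h1 h2 h3
  obtain ⟨c0, c1, c2, c3, c4⟩ := facts.cent p hp
  exact false_cent h c0 c1 c2 c3 c4

/-- the vectors fixed by the generators -/
theorem fix4 {v a b : ℕ} (h : Cfg M S y0 (getG LE v) (getG LE a) (getG LE b)) {u : Row}
    (hu : ∀ x ∈ [282, v, a, b], ra u (getG LE x) = u) : ∀ s ∈ S, ra u s = u :=
  h.fix (by rw [← e_y0]; exact hu 282 (by simp)) (hu v (by simp)) (hu a (by simp)) (hu b (by simp))

/-- the configurations with `τ` -/
theorem false_tau {v a b t k s u w ws : ℕ} (f : TFacts v a b t k s u w ws) (h0 : toVec 112 ws ≠ 0)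
    (hs : s ∈ [282, v, a, b]) (h : Cfg M S y0 (getG LE v) (getG LE a) (getG LE b))
    (hT : Tau (getG LE t) y0 [getG LE v, getG LE a, getG LE b]) : False := by
  have hmem := h.mem
  have hM := h.fixed_of_comm hT h0 (u := toVec 112 u) (fun x hx => f.hK x fun z hz => ?_) (fix4 h f.u_fix) f.uw
  · refine false_of_mem h.nl.coatom h0 hM f.mv.1 (not_mem_of_move h.nl (fix4 h f.w_fix) ?_ f.mv.2)
    simp only [List.mem_cons, List.not_mem_nil, or_false] at hs
    rcases hs with rfl | rfl | rfl | rfl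
    · rw [e_y0]; exact hmem.1
    · exact hmem.2.1
    · exact hmem.2.2.1
    · exact hmem.2.2.2
  · simp only [List.mem_cons, List.not_mem_nil, or_false] at hz
    rcases hz with rfl | rfl | rfl | rfl
    · rw [e_y0]; exact hx _ hmem.1
    · exact hx _ hmem.2.1
    · exact hx _ hmem.2.2.1
    · exact hx _ hmem.2.2.2

theorem inv_of_two {t y : 𝒢} (h1 : t * t = 1) (h2 : t * (y * (t * y)) = 1) : t * y * t⁻¹ = y⁻¹ := by
  have h3 : t⁻¹ = t := inv_eq_of_mul_eq_one_left h1
  rw [h3]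
  refine (inv_eq_of_mul_eq_one_left ?_).symm
  rw [← h2]; simp only [mul_assoc]

theorem tauA : Tau (getG LE 65) y0 [getG LE 268, getG LE 221, getG LE 117] := by
  have e1 := facts.es ([65, 65], []) (by simp only [esx, List.mem_cons, Prod.mk.injEq, List.cons.injEq, Nat.reduceEqDiff,
      and_true, and_self, List.nil_eq, reduceCtorEq, List.ne_cons_self, and_false, List.not_mem_nil, or_self, or_false,
      or_true])
  have e2 := facts.es ([65, 282, 65, 282], []) (by simp only [esx, List.mem_cons, Prod.mk.injEq, List.cons.injEq,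
      Nat.reduceEqDiff, reduceCtorEq, and_false, and_self, List.nil_eq, List.cons_ne_self, and_true, List.not_mem_nil,
      or_self, or_false, or_true])
  have e3 := facts.es ([65, 268], [268, 65]) (by simp only [esx, List.mem_cons, Prod.mk.injEq, List.cons.injEq,
      Nat.reduceEqDiff, and_true, and_self, and_false, List.ne_cons_self, reduceCtorEq, List.nil_eq, List.not_mem_nil,
      or_self, or_false, or_true])
  have e4 := facts.es ([65, 221], [221, 65]) (by simp only [esx, List.mem_cons, Prod.mk.injEq, List.cons.injEq,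
      Nat.reduceEqDiff, and_true, and_self, and_false, List.ne_cons_self, reduceCtorEq, List.nil_eq, List.not_mem_nil,
      or_self, or_false, or_true])
  have e5 := facts.es ([65, 117], [117, 65]) (by simp only [esx, List.mem_cons, Prod.mk.injEq, List.cons.injEq,
      Nat.reduceEqDiff, and_true, and_self, and_false, List.ne_cons_self, reduceCtorEq, List.nil_eq, List.not_mem_nil,
      or_self, or_false, or_true])
  have e6 := facts.ns ([65], []) (by simp [nsx])
  simp only [evG_cons, evG_nil, mul_one, e_y0] at e1 e2 e3 e4 e5 e6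
  refine ⟨e6, e1, inv_of_two e1 e2, ?_⟩
  intro x hx
  simp only [List.mem_cons, List.not_mem_nil, or_false] at hx
  rcases hx with rfl | rfl | rfl
  exacts [e3, e4, e5]

theorem tauB : Tau (getG LE 17) y0 [getG LE 266, getG LE 206, getG LE 31] := by
  have e1 := facts.es ([17, 17], []) (by simp only [esx, List.mem_cons, Prod.mk.injEq, List.cons.injEq, Nat.reduceEqDiff,
      and_true, and_self, List.nil_eq, reduceCtorEq, List.ne_cons_self, and_false, List.not_mem_nil, or_self, or_false,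
      or_true])
  have e2 := facts.es ([17, 282, 17, 282], []) (by simp only [esx, List.mem_cons, Prod.mk.injEq, List.cons.injEq,
      Nat.reduceEqDiff, reduceCtorEq, and_false, and_self, List.nil_eq, List.cons_ne_self, and_true, List.not_mem_nil,
      or_self, or_false, or_true])
  have e3 := facts.es ([17, 266], [266, 17]) (by simp [esx])
  have e4 := facts.es ([17, 206], [206, 17]) (by simp only [esx, List.mem_cons, Prod.mk.injEq, List.cons.injEq,
      Nat.reduceEqDiff, and_true, and_self, List.ne_cons_self, reduceCtorEq, List.nil_eq, and_false, List.not_mem_nil,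
      or_self, or_false, or_true])
  have e5 := facts.es ([17, 31], [31, 17]) (by simp only [esx, List.mem_cons, Prod.mk.injEq, List.cons.injEq,
      Nat.reduceEqDiff, and_true, and_self, List.ne_cons_self, reduceCtorEq, List.nil_eq, and_false, List.not_mem_nil,
      or_self, or_false, or_true])
  have e6 := facts.ns ([17], []) (by simp [nsx])
  simp only [evG_cons, evG_nil, mul_one, e_y0] at e1 e2 e3 e4 e5 e6
  refine ⟨e6, e1, inv_of_two e1 e2, ?_⟩
  intro x hx
  simp only [List.mem_cons, List.not_mem_nil, or_false] at hx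
  rcases hx with rfl | rfl | rfl
  exacts [e3, e4, e5]

theorem false_117 (h : Cfg M S y0 (getG LE 268) (getG LE 221) (getG LE 117)) : False :=
  false_tau facts.fA wsA_ne (by decide) h tauA

theorem false_31 (h : Cfg M S y0 (getG LE 266) (getG LE 206) (getG LE 31)) : False :=
  false_tau facts.fB wsB_ne (by decide) h tauB

theorem conj_eq {d x z : 𝒢} (h : d * x = z * d) : d * x * d⁻¹ = z := by
  rw [h, mul_inv_cancel_right]

/-- reduction to `b = 117` -/
theorem false_117' {b : ℕ} {d : 𝒢} (h1 : d * y0 = y0 * d) (h2 : d * getG LE 268 = getG LE 268 * d)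
    (h3 : d * getG LE 221 = getG LE 221 * d) (h4 : d * getG LE b = getG LE 117 * d)
    (h : Cfg M S y0 (getG LE 268) (getG LE 221) (getG LE b)) : False := by
  have h5 := h.conj d
  rw [conj_eq h1, conj_eq h2, conj_eq h3, conj_eq h4] at h5
  exact false_117 h5

theorem false_26 (hcard : Nat.card {t // TY t} ≤ 10296) {y : 𝒢} (hy : y = y0 ∨ y = y0⁻¹)
    (h : Cfg M S y (getG LE 266) (getG LE 206) (getG LE 26)) : False := by
  have hmem := h.mem
  have hy0 : y0 ∈ S := by
    rcases hy with rfl | rfl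
    · exact hmem.1
    · exact (inv_mem_iff (x := (y0 : 𝒢)) (H := S)).1 hmem.1
  have hgen : ∀ x ∈ gE, getG LE x ∈ S := by
    intro x hx
    simp only [gE, List.mem_cons, List.not_mem_nil, or_false] at hx
    rcases hx with rfl | rfl | rfl | rfl
    · rw [e_y0]; exact hy0
    · exact hmem.2.1
    · exact hmem.2.2.1
    · exact hmem.2.2.2
  have hfix : ∀ {u : Row}, (∀ x ∈ gE, ra u (getG LE x) = u) → ∀ s ∈ S, ra u s = u := by
    intro u hu
    have h1 : ra u y0 = u := by rw [← e_y0]; exact hu 282 (by simp [gE])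
    refine h.fix ?_ (hu 266 (by simp [gE])) (hu 206 (by simp [gE])) (hu 26 (by simp [gE]))
    rcases hy with rfl | rfl
    · exact h1
    · exact ra_inv h1
  have hno : ∀ τ, ¬ Tau τ y [getG LE 266, getG LE 206, getG LE 26] := by
    intro τ hτ
    have h1 : TY τ := by
      refine ⟨hτ.sq, ?_⟩
      rcases hy with rfl | rfl
      · exact hτ.inv
      · have h2 := hτ.inv
        have h3 : τ * y0 * τ⁻¹ = (τ * y0⁻¹ * τ⁻¹)⁻¹ := by group
        rw [h3, h2, inv_inv]
    have h2 := hτ.comm (getG LE 266) (by simp)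
    have h3 := hτ.comm (getG LE 206) (by simp)
    have h4 := hτ.comm (getG LE 26) (by simp)
    rw [e_v7] at h2
    have h5 := T_a7a hcard h1 h2 h3
    simp only [List.map_cons, List.map_nil, List.mem_singleton] at h5
    rw [h5] at h4
    apply facts.ns ([17, 26], [26, 17]) (by simp only [nsx, List.mem_cons, Prod.mk.injEq, List.cons.injEq, Nat.reduceEqDiff,
        List.cons_ne_self, and_self, reduceCtorEq, and_false, List.not_mem_nil, or_false, or_true])
    simp only [evG_cons, evG_nil, mul_one]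
    exact h4
  obtain ⟨g, g1, g2, g3⟩ := facts.exo
  have hK := g3 S hgen
  have hy1 : g⁻¹ * y0 * g ∈ S := by rw [← e_y0]; exact hK 282 (by simp [gE])
  have hn : g⁻¹ ∈ Subgroup.normalizer (S : Set 𝒢) := by
    refine h.norm ?_ ?_ ?_ ?_ <;> rw [inv_inv]
    · rcases hy with rfl | rfl
      · exact hy1
      · have h1 := S.inv_mem hy1
        have h2 : (g⁻¹ * y0 * g)⁻¹ = g⁻¹ * y0⁻¹ * g := by group
        rwa [h2] at h1
    · exact hK 266 (by simp [gE])
    · exact hK 206 (by simp [gE])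
    · exact hK 26 (by simp [gE])
  have hgS : g⁻¹ ∉ S := by
    intro h1
    have h2 : g ∈ S := inv_mem_iff.1 h1
    exact g2 (hfix facts.wE_fix g h2)
  have hM := h.fixed_of_exo hno hn hgS (hfix facts.uE_fix) (ra_inv g1)
  refine false_of_mem h.nl.coatom uE_ne hM facts.mvE.1 (not_mem_of_move h.nl (hfix facts.wF_fix) (hgen _ ?_) facts.mvE.2)
  simp [gE]

theorem false_18 (hcard : Nat.card {t // TY t} ≤ 10296)
    (h : Cfg M S y0 (getG LE 266) (getG LE 206) (getG LE 18)) : False := by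
  have h5 := h.conj (getG LE 17)
  have e6 := facts.es ([17, 18], [26, 17]) (by simp [esx])
  simp only [evG_cons, evG_nil, mul_one] at e6
  rw [conj_eq (tauB.comm (getG LE 266) (by simp)), conj_eq (tauB.comm (getG LE 206) (by simp)), conj_eq e6, tauB.inv] at h5
  exact false_26 hcard (Or.inr rfl) h5

theorem false_of_cfg (hcard : Nat.card {t // TY t} ≤ 10296) {v a b : 𝒢} (h : Cfg M S y0 v a b)
    (hva : (v = v3 ∧ a = a3) ∨ (v = v4 ∧ a = a4) ∨ (v = v5 ∧ a = a5) ∨ (v = v6 ∧ a = a6) ∨ (v = v7 ∧ a = a7a) ∨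
      (v = v7 ∧ a = a7b) ∨ (v = v8 ∧ a = a8) ∨ (v = v9 ∧ a = a9a) ∨ (v = v9 ∧ a = a9b) ∨ (v = v9 ∧ a = a9c)) :
    False := by
  have hb : TY b := ⟨h.t6.bsq, h.t6.binv⟩
  have hbv := h.t6.bv
  have hab := h.t6.bbr
  have hc1 : ∀ x ∈ [(2 : ℕ), 255], getG LE x * y0 = y0 * getG LE x ∧ getG LE x * getG LE 268 = getG LE 268 * getG LE x ∧
      getG LE x * getG LE 221 = getG LE 221 * getG LE x := by
    have e1 := facts.es ([255, 282], [282, 255]) (by simp only [esx, List.mem_cons, Prod.mk.injEq, List.cons.injEq,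
        Nat.reduceEqDiff, and_true, and_false, and_self, List.ne_cons_self, reduceCtorEq, List.nil_eq, List.not_mem_nil,
        or_self, or_false])
    have e2 := facts.es ([255, 268], [268, 255]) (by simp only [esx, List.mem_cons, Prod.mk.injEq, List.cons.injEq,
        Nat.reduceEqDiff, and_true, and_false, and_self, List.ne_cons_self, reduceCtorEq, List.nil_eq, List.not_mem_nil,
        or_self, or_false, or_true])
    have e3 := facts.es ([255, 221], [221, 255]) (by simp only [esx, List.mem_cons, Prod.mk.injEq, List.cons.injEq,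
        Nat.reduceEqDiff, and_true, and_false, and_self, List.ne_cons_self, reduceCtorEq, List.nil_eq, List.not_mem_nil,
        or_self, or_false, or_true])
    have e4 := facts.es ([2, 282], [282, 2]) (by simp only [esx, List.mem_cons, Prod.mk.injEq, List.cons.injEq,
        Nat.reduceEqDiff, and_true, and_false, and_self, List.ne_cons_self, reduceCtorEq, List.nil_eq, List.not_mem_nil,
        or_self, or_false, or_true])
    have e5 := facts.es ([2, 268], [268, 2]) (by simp [esx])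
    have e6 := facts.es ([2, 221], [221, 2]) (by simp only [esx, List.mem_cons, Prod.mk.injEq, List.cons.injEq,
        Nat.reduceEqDiff, and_true, and_self, and_false, List.ne_cons_self, reduceCtorEq, List.nil_eq, List.not_mem_nil,
        or_self, or_false, or_true])
    simp only [evG_cons, evG_nil, mul_one, e_y0] at e1 e2 e3 e4 e5 e6
    intro x hx
    simp only [List.mem_cons, List.not_mem_nil, or_false] at hx
    rcases hx with rfl | rfl
    exacts [⟨e4, e5, e6⟩, ⟨e1, e2, e3⟩]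
  rcases hva with ⟨rfl, rfl⟩ | ⟨rfl, rfl⟩ | ⟨rfl, rfl⟩ | ⟨rfl, rfl⟩ | ⟨rfl, rfl⟩ | ⟨rfl, rfl⟩ | ⟨rfl, rfl⟩ |
    ⟨rfl, rfl⟩ | ⟨rfl, rfl⟩ | ⟨rfl, rfl⟩
  · obtain ⟨p, hp, rfl⟩ := List.mem_map.1 (B_a3 hcard hb hbv hab)
    have hpc : ∀ p ∈ [221, 171, 163, 154, 150, 138], ∃ x ∈ [2, 3], (270, 235, p, x) ∈ cen := by decide
    obtain ⟨x, _, hx⟩ := hpc p hp
    exact false_cen hx h e_v3.symm rfl rfl
  · obtain ⟨p, hp, rfl⟩ := List.mem_map.1 (B_a4 hcard hb hbv hab)
    have hpc : ∀ p ∈ [132, 119], ∃ x ∈ [2, 3], (269, 228, p, x) ∈ cen := by decide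
    obtain ⟨x, _, hx⟩ := hpc p hp
    exact false_cen hx h e_v4.symm rfl rfl
  · obtain ⟨p, hp, rfl⟩ := List.mem_map.1 (B_a5 hcard hb hbv hab)
    simp only [List.mem_cons, List.not_mem_nil, or_false] at hp
    have h' := h
    rw [← e_v5] at h'
    obtain ⟨x1, x2, x3⟩ := hc1 2 (by simp)
    obtain ⟨z1, z2, z3⟩ := hc1 255 (by simp)
    have e7 := facts.es ([255, 108], [117, 255]) (by simp only [esx, List.mem_cons, Prod.mk.injEq, List.cons.injEq,
        Nat.reduceEqDiff, and_true, and_false, and_self, List.ne_cons_self, reduceCtorEq, List.nil_eq, List.not_mem_nil,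
        or_self, or_false, or_true])
    have e8 := facts.es ([255, 2, 94], [117, 255, 2]) (by simp only [esx, List.mem_cons, Prod.mk.injEq, List.cons.injEq,
        Nat.reduceEqDiff, List.cons_ne_self, and_self, and_false, reduceCtorEq, List.ne_cons_self, List.not_mem_nil,
        or_self, or_false, or_true])
    have e9 := facts.es ([2, 86], [117, 2]) (by simp only [esx, List.mem_cons, Prod.mk.injEq, List.cons.injEq,
        Nat.reduceEqDiff, and_true, and_self, and_false, List.ne_cons_self, reduceCtorEq, List.nil_eq, List.not_mem_nil,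
        or_self, or_false, or_true])
    simp only [evG_cons, evG_nil, mul_one] at e7 e8 e9
    rcases hp with rfl | rfl | rfl | rfl | rfl | rfl | rfl
    · exact false_117 h'
    · exact false_117' z1 z2 z3 e7 h'
    · exact false_cen (p := (268, 221, 101, 2)) (by decide) h e_v5.symm rfl rfl
    · refine false_117' (d := getG LE 255 * getG LE 2) ?_ ?_ ?_ ?_ h'
      · rw [mul_assoc, x1, ← mul_assoc, z1, mul_assoc]
      · rw [mul_assoc, x2, ← mul_assoc, z2, mul_assoc]
      · rw [mul_assoc, x3, ← mul_assoc, z3, mul_assoc]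
      · rw [mul_assoc]; exact e8
    · exact false_117' x1 x2 x3 e9 h'
    · exact false_cen (p := (268, 221, 78, 2)) (by decide) h e_v5.symm rfl rfl
    · exact false_cen (p := (268, 221, 66, 2)) (by decide) h e_v5.symm rfl rfl
  · obtain ⟨p, hp, rfl⟩ := List.mem_map.1 (B_a6 hcard hb hbv hab)
    have hpc : ∀ p ∈ [54], ∃ x ∈ [2, 3], (267, 209, p, x) ∈ cen := by decide
    obtain ⟨x, _, hx⟩ := hpc p hp
    exact false_cen hx h e_v6.symm rfl rfl
  · obtain ⟨p, hp, rfl⟩ := List.mem_map.1 (B_a7a hcard hb hbv hab)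
    simp only [List.mem_cons, List.not_mem_nil, or_false] at hp
    rw [← e_v7] at h
    rcases hp with rfl | rfl | rfl
    · exact false_31 h
    · exact false_26 hcard (Or.inl rfl) h
    · exact false_18 hcard h
  · have h1 := B_a7b hcard hb hbv hab
    simp at h1
  · have h1 := B_a8 hcard hb hbv hab
    simp at h1
  · have h1 := B_a9a hcard hb hbv hab
    simp at h1
  · have h1 := B_a9b hcard hb hbv hab
    simp at h1
  · have h1 := B_a9c hcard hb hbv hab
    simp at h1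

theorem excl_A6 (hcard : Nat.card {t // TY t} ≤ 10296) (hfive : Five) : Excl (alternatingGroup (Fin 6)) := by
  intro M S h e
  obtain ⟨y, v, a, b, hC⟩ := exists_cfg h e
  obtain ⟨g, hy, hva⟩ := hfive y v a hC.t6.toT5
  have hC' := hC.conj g
  rw [hy] at hC'
  exact false_of_cfg hcard hC' hva

end Cfsg.Agent.H856.JM.A6
end

-- part: H856/JM/AltRows
section
/-!
# S5580, Part III: no maximal subgroup of `J4` has socle `A_5`, `A_6`, `A_7` or `A_8`, given the classes of the `A_4` (`E2`)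
-/

set_option autoImplicit false

open Cfsg

namespace Cfsg.Agent.H856.JM.AltRows

open Cfsg.Agent.H860.JM (Excl)
open Cfsg.Agent.H878.JM.Five (E2)

theorem five (hE : E2) : A78.Five := fun _ _ _ h =>
  Cfsg.Agent.H878.JM.Five.five Cfsg.Agent.H820.JM.card_TY hE h

theorem excl_A5 (hE : E2) : Excl (alternatingGroup (Fin 5)) :=
  A5.excl_A5 Cfsg.Agent.H820.JM.card_TY (five hE)

theorem excl_A6 (hE : E2) : Excl (alternatingGroup (Fin 6)) :=
  A6.excl_A6 Cfsg.Agent.H820.JM.card_TY (five hE)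

theorem excl_A7 (hE : E2) : Excl (alternatingGroup (Fin 7)) :=
  A78.excl_A7 Cfsg.Agent.H820.JM.card_TY (five hE)

theorem excl_A8 (hE : E2) : Excl (alternatingGroup (Fin 8)) :=
  A78.excl_A8 Cfsg.Agent.H820.JM.card_TY (five hE)

end Cfsg.Agent.H856.JM.AltRows
end

-- part: H868/JM/L34D
section
/-!
# Data for the exclusion of `PSL₃(4)` in `J4`
-/

set_option autoImplicit false
set_option maxRecDepth 100000

open Cfsg

namespace Cfsg.Agent.H868.JM.L34

open Cfsg.Agent.Lib Cfsg.Agent.Lib.F2Mat Cfsg.Agent.Lib.F2MatGroup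
open Cfsg.Agent.J4.Rep112 Cfsg.Agent.J4.LowerData
open Cfsg.Agent.H858 Cfsg.Agent.H858.VK Cfsg.Agent.H858.Data
open Cfsg.Agent.H68.JM (ac tv ac_one ac_mul ac_inv ac_code ac_code' vword vword_sound Row)
open Cfsg.Agent.H878.JM.Base
open Cfsg.Agent.H111.JM.Eng Cfsg.Agent.H111.JM.Env Cfsg.Agent.H111.JM.EnvF Cfsg.Agent.H111.JM.G0
open Cfsg.Agent.H111.JM.Sol

local notation "𝒢" => Cfsg.Spor.J4

/-- the first vector -/
def w1 : ℕ := 0xd1db399f630d5132bebc9743a281
/-- the second vector -/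
def w3 : ℕ := 0x79d058104b01ff3e0f67aa39734

/-- the orbit of `w1` -/
def VO : List ℕ := [0xd1db399f630d5132bebc9743a281, 0x8e4f547fe16aca70df4265e5df4c, 0xd6463c1e67bd4ec15e4aede035b5,
  0x47843c4a54828f0a2a299ebb0f9f, 0xa4a4b76ab6c6260be9688e0d2509, 0x2b9ba51980a13307a5a3ee16caa4,
  0x301366de4427dd5c8d1bd2b26a03, 0x730039b85d92f3e18dfd0175f5c0, 0xf78d5f48dbb32d16152fd9f851c,
  0x2f042f7ec9b00d9fa7f9829a48a7, 0xd66033a87836f09cac99b188c53e, 0x2803377492c2c914c6ccbeaf1851,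
  0x75b999baa58d144c649102cf5a52, 0xc4049e55ed3fb259df582e4ca9dd, 0x94ee64311cb2d3699e95102bf32e,
  0xde752edbd2b1ef2b11499d439f8, 0xd126de54d63822b79ef4f297523a, 0xbb70176289f8ad985e614055aeb2,
  0x4f3859ba33da8a16516b5513a193, 0x745b2b7629648f675e4e6057bf2e, 0x15bbe11d587bbb102fa02ee2eac2,
  0xd888b8a94d4dc0199fd40e005d92, 0x7987c8b9520429731a9913a4794e, 0xa0b960f5bb3afd75c34f97a91b1e,
  0x71b4a6bbb440c69529539d57df35, 0xcc9ef41395ec091856c9b98cf75a, 0x3ff682df89452eec2e473fbe58c,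
  0x7055e946072f052e1a8ddf123e57, 0x331afd4232263b884e23c5b06975, 0x86eb71fc9d1df1f20dbe9df30a96,
  0xf33805aa14aeea494e9f187f0127, 0xf55c0fa5b85e089f340913270ca7, 0xa81b371f1c71231d605238f2eac,
  0xb1ca5497bd4caf599b691d8fad7f, 0x4c01677eb830139b4604a91b4b3c, 0x48adb570334c0aca99080e4024f8,
  0xc752f23c8b3cb410a7e74484b4ad, 0x9f8b665a9cf53ac6d5e0f4104825, 0x354e5215633da607e0e225e28d2c,
  0x8b2a6d013c85f94ba8b7cc3d111c, 0xad35328270c55a6ebb9fa445630, 0xf8bea3afc79a2e482bb30f02419a,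
  0xc2b029fbd3e9f2feb00f89f760d5, 0x6ec1ebbc11cf868e0c946bccbe2d, 0x3a847f4157800e697d9a465f5dfd,
  0x3a3b904d284f33dc078b7c7c6eaa, 0x69e3409769880cde70bdbf3ec8b7, 0x13cafd6b2a5568449c7d267728f7,
  0x2642b831392ead364fda18147801, 0xf4b6158433a9a48dc08dc43d297d, 0xc6419b7265c4d918def7d229b26,
  0x238d783a45d0923a8b7588224ab3, 0x7aca58341396e1222457fe7dc90f, 0x109be4fd88481bcdadd245cde6c,
  0x90edf00bf708563cbaa39f1dc634, 0x90dd55530ae329656ef474172fed, 0x751522bffacdd0d896aa0a7f0492,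
  0xe2757e0d167c38a64dd4fd8f3c1b, 0xf76971c929df288b57154e824ca1, 0x22778a85d216378f1814d904d419,
  0x1b2ad3f961b17d43b37724ba4e1a, 0x25a5d1c9d9ad6950c24ecc2334a2, 0xb5d0fde7ab2a1cf5179bab39274,
  0x253764af817185118dd63f3733c6, 0xe9c53f20c6f24b5dbdce30a6375d, 0x77ceaeb7fdced27ebb1a94ef0b41,
  0x1bdc61eeec1c616f5465d4317a19, 0x76df112d3d5dc54a2eb7177f7c02, 0x489046220b567a8f2daad5397942,
  0x4cc173e7351f105bd2ee17b6e63d, 0x3dff61efc194ac07fb55de399743, 0x4c9ec5b4262558d08fa7fe0e2ac2,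
  0xc658b1426c3e6d3c743b40056edf, 0x30109bef7ba185cc841af26f6e1d, 0xa18d6c4e589ca49a4bfefcfe4a31,
  0xfbbf90deb685ffa526d0ad82824a, 0x390a0664a4bb9d68debf35f644a3, 0x8e52ab4d3b9264dd3e9c47d802a6,
  0x1cd884d588e8fd743c51c8d92ef1, 0x306f607a8941bbb96ae176e1f04b, 0x48effc11fa8eecec259fc5c535ed,
  0x3cc3841f26146ac75b71949ed433, 0x661fcb4d5db7bb5c9e3d92a58164, 0x581f8329678feda34142ab152152,
  0x28617275b9e2f1da2f278c6e8914, 0xb6d34e9e03409def1283235a247d, 0xa2c301f22688345b7c3131fafe6e,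
  0x787e8691f97c7c406637f62d3103, 0x22e8288b610ee0c256ddab4ed37, 0xf5a7ebb8f0021bafb3eed3df8cc7,
  0xda8d639d21279f54289fb8aff44d, 0xb27488eab39c4301ec1b852c5df8, 0x30c39ad9d539d73b7e14ea237c72,
  0x98923df521c1a066bac45eb713de, 0xa213bc53b4ae962a69f09d193ae6, 0x39ec1d4b361f20f5b886d7331929,
  0xdb9f6090dd0a78e652fd8f9055e9, 0x1732ccea8a8b5637d962fdcb4f74, 0xe4233d2975294a466d91214b6b7,
  0x3a1b9c2dcaaded3452f78538eefa, 0x60b6c277baa1fd40f67a8351477f, 0xbfbd3cfa151a7c818749616086d4,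
  0x235bc64d2a9f50fe391b81edfee0, 0xa0c527f775643386c27ba78853af, 0x4f25e72eea1a8cad567be35cae80,
  0xb30171a7a5460c4e37f29151cb25, 0xb21d9837a0241466c2aa22b20805, 0xea07e5f90544c1e02d460c565d92,
  0x26ebfdd3a4815187134f95555204, 0xef99389a90f7e1ebdd54657613a2, 0x56f4b4bf6e4a2da09dc0a0326f19,
  0xaff2accef7d4407b99853593a13c, 0xad19859e0d3c3d84606240094736, 0xd9e54031438019de0b4dbdb16260,
  0xd1d5d3029a42aea83186139fc005, 0xb9a3338789e59807bd8a6b4761c7, 0x18944e226c59390d22cb286b6c64,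
  0xa02b9435e0deb9226a19f0cfce83, 0x353416c1500a08414679b0efb546, 0xd7236c6b6e6ea03f0488ebd3cae1]

/-- the tree: parent, generator -/
def tree : List (ℕ × ℕ) := [(0, 0), (0, 1), (1, 0), (1, 1), (2, 0), (3, 0), (3, 1), (4, 0), (5, 0), (5, 1),
  (6, 0), (6, 1), (7, 0), (8, 0), (8, 1), (9, 0), (9, 1), (10, 0), (11, 1), (12, 0),
  (13, 0), (13, 1), (14, 0), (14, 1), (15, 0), (16, 0), (16, 1), (17, 0), (18, 0), (18, 1),
  (19, 0), (20, 0), (20, 1), (21, 0), (21, 1), (22, 0), (23, 0), (23, 1), (24, 0), (25, 0),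
  (27, 0), (28, 0), (28, 1), (29, 0), (29, 1), (31, 0), (31, 1), (32, 0), (32, 1), (33, 0),
  (34, 0), (34, 1), (35, 0), (36, 0), (38, 0), (39, 0), (39, 1), (40, 0), (40, 1), (41, 1),
  (42, 1), (43, 0), (44, 0), (44, 1), (45, 0), (46, 0), (46, 1), (47, 0), (48, 0), (48, 1),
  (49, 0), (50, 0), (52, 0), (53, 0), (53, 1), (54, 0), (54, 1), (55, 1), (56, 1), (57, 0),
  (58, 0), (58, 1), (59, 0), (60, 0), (61, 0), (64, 0), (65, 0), (66, 1), (67, 0), (68, 0),
  (70, 0), (71, 0), (71, 1), (72, 0), (72, 1), (75, 0), (76, 0), (76, 1), (77, 0), (78, 0),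
  (79, 0), (82, 0), (83, 0), (84, 0), (85, 1), (87, 1), (88, 0), (89, 0), (89, 1), (90, 0),
  (90, 1), (93, 0), (94, 0), (99, 0), (101, 1), (103, 1), (105, 0), (109, 0), (110, 0)]

/-! ### The orbit of `w1` under `I2` -/

/-- the check of the orbit, `A` and `B` the matrices of the generators -/
def chkO (A B : ℕ) : Bool := (List.range 119).all fun i =>
  Nat.beq (vmul 112 (VO.getD (tree.getD i (0, 0)).1 0) (if (tree.getD i (0, 0)).2 = 0 then A else B))
    (VO.getD (i + 1) 0)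

theorem check_orb : run 112 (slpQ ++ (slpX ++ slpF)) codes
    (fun L => force (evW 112 L [7, 14, 6]) fun A => force (evW 112 L [7, 40, 6]) fun B => chkO A B) =
      true := by
  delta chkO
  rw [Lib.F112.run_eq, Lib.F112.evW_eq, Lib.F112.vm_eq]
  decide +kernel

theorem VO_nodup : VO.Nodup := by decide +kernel
theorem VO_length : VO.length = 120 := by decide +kernel
theorem VO_lt : ∀ i < 120, VO.getD i 0 < 2 ^ 112 := by decide +kernel
theorem tree_lt : ∀ i < 119, (tree.getD i (0, 0)).1 ≤ i := by decide +kernel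
theorem VO_zero : VO.getD 0 0 = w1 := by decide +kernel

/-! ### The involution `x0` for the first type -/

/-- word of `x0` -/
def wx0 : List ℕ := [4, 6, 5, 5, 6, 4]
/-- word of `z` -/
def wz : List ℕ := [11, 12, 13, 11, 13, 11, 14, 11, 13, 11, 13, 12, 11]

theorem x0_ne : Nat.beq (evW 112 LM wx0) (evW 112 LM []) = false := by decide +kernel

/-- packed environment: `u, rm m`, then `L0` -/
def env (m M : ℕ) : List ℕ := M :: get (F2Mat.one 112) LR m :: LM

/-- word of the first relation -/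
def r1 : List ℕ := [1, 0, 1, 0, 1, 0]
/-- word of the second relation; `f` has number `a`, `f⁻¹` number `a + 1` -/
def r2 (a : ℕ) : List ℕ :=
  [1, a, 0, a + 1, 1, a, 0, a + 1, 1, a, 0, a + 1, 1, a, 0, a + 1]

/-- the test of the relations; if they hold `b` has to be true -/
def rel (a m M : ℕ) (b : Bool) : Bool :=
  cond (Nat.beq M (get (F2Mat.one 112) LR m)) true
    (cond (Nat.beq (evW 112 (env m M) r1) (evW 112 (env m M) []))
      (cond (Nat.beq (evW 112 (env m M) (r2 a)) (evW 112 (env m M) [])) b true) true)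

/-- the test for the first type -/
def test1 (m M : ℕ) : Bool := rel 2 m M
  (cond (Nat.beq m 0) (Nat.beq (evW 112 (env m M) [6, 8, 7, 7, 8, 6, 0]) (evW 112 (env m M) [0, 6, 8, 7, 7, 8, 6])) false)

/-- the test for the second type -/
def test2 (m M : ℕ) : Bool := rel 4 m M
  (cond (Nat.ble m 5) (cond (Nat.beq (vmul 112 w1 M) w1) (Nat.beq (vmul 112 w3 M) w3) false) false)

theorem rel_eq : rel = fun a m M b => cond (Nat.beq M (get (F2Mat.one 112) LR m)) true
    (cond (Lib.F112.eqW Lib.F112.vm (Lib.F112.evF Lib.F112.ml) (env m M) r1 []) (cond (Lib.F112.eqW Lib.F112.vm (Lib.F112.evF Lib.F112.ml) (env m M) (r2 a) []) b true) true) := by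
  funext a m M b
  rw [← Lib.F112.eqW_eq, ← Lib.F112.eqW_eq]
  rfl

theorem c1_ok : ∀ m ∈ [0, 1, 2, 3], ∀ p ∈ [oc0, oc1, oc2, oc3],
    p.chk 112 [mq1, mtt] [mq1i, mtt] LR (test1 m) = true := by
  delta test1
  rw [chk_eq, rel_eq, Lib.F112.evW_eq]
  decide +kernel

theorem c2_ok : ∀ m ∈ [4, 5, 6, 7], ∀ p ∈ [oc4, oc5, oc6, oc7],
    p.chk 112 [mc6] [mc6i] LR (test2 m) = true := by
  delta test2
  rw [chk_eq, rel_eq]
  decide +kernel

/-! ### Vectors -/

theorem v_w1 : vword LM [2] w1 = w1 ∧ vword LM [9] w1 = w1 ∧ vword LM rw4 w1 = w1 ∧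
    vword LM rw5 w1 = w1 := by decide +kernel
theorem v_w3 : vword LM [2] w3 = w3 ∧ vword LM [9] w3 = w3 ∧ vword LM rw4 w3 = w3 ∧
    vword LM rw5 w3 = w3 ∧ vword LM [7, 7, 7] w3 = w3 ∧ vword LM wz w3 = w3 := by decide +kernel
theorem v_c6 : vword LM ([7, 7] ++ rw4) w3 ≠ vword LM [7, 7] w3 ∧
    vword LM ([7, 7] ++ rw5) w3 ≠ vword LM [7, 7] w3 := by decide +kernel
theorem v_z : vword LM (wz ++ rw4) w1 ≠ vword LM wz w1 ∧
    vword LM (wz ++ rw5) w1 ≠ vword LM wz w1 := by decide +kernel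

end Cfsg.Agent.H868.JM.L34
end

-- part: H868/JM/L34Gen
section
/-!
# Generators of `PSL₃(4)` containing a Frobenius group of order 21

`Quad f y t u` : `⟨f, y⟩ = 7 : 3`, the involutions `t`, `u` invert `y`, `(f t)³ = (f u)³ = (t u)³ = 1`,
`(t f u f⁻¹)⁴ = 1`; `PSL₃(4)` is generated by such elements.
-/

set_option autoImplicit false

open Matrix

namespace Cfsg.Agent.H868.JM

open Cfsg.Agent.H366.LThreeFour

/-- the relations -/
structure Quad {S : Type*} [Group S] (f y t u : S) : Prop where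
  f1 : f ≠ 1
  f7 : f ^ 7 = 1
  yf : y * f * y⁻¹ = f ^ 2
  y3 : y ^ 3 = 1
  tt : t * t = 1
  ty : t * y * t⁻¹ = y⁻¹
  ft : f * t * (f * t) * (f * t) = 1
  uu : u * u = 1
  uy : u * y * u⁻¹ = y⁻¹
  fu : f * u * (f * u) * (f * u) = 1
  ne : t ≠ u
  tu : t * u * (t * u) * (t * u) = 1
  tfu : t * f * u * f⁻¹ * (t * f * u * f⁻¹) * (t * f * u * f⁻¹) * (t * f * u * f⁻¹) = 1

theorem Quad.map {S S' : Type*} [Group S] [Group S'] {f y t u : S} (h : Quad f y t u) (e : S →* S')
    (he : Function.Injective e) : Quad (e f) (e y) (e t) (e u) where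
  f1 := by rw [Ne, map_eq_one_iff e he]; exact h.f1
  f7 := by rw [← map_pow, h.f7, map_one]
  yf := by rw [← map_mul, ← map_inv, ← map_mul, h.yf, map_pow]
  y3 := by rw [← map_pow, h.y3, map_one]
  tt := by rw [← map_mul, h.tt, map_one]
  ty := by rw [← map_mul, ← map_inv, ← map_mul, h.ty, map_inv]
  ft := by rw [← map_mul, ← map_mul, ← map_mul, h.ft, map_one]
  uu := by rw [← map_mul, h.uu, map_one]
  uy := by rw [← map_mul, ← map_inv, ← map_mul, h.uy, map_inv]
  fu := by rw [← map_mul, ← map_mul, ← map_mul, h.fu, map_one]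
  ne := fun hh => h.ne (he hh)
  tu := by rw [← map_mul, ← map_mul, ← map_mul, h.tu, map_one]
  tfu := by
    rw [← map_inv, ← map_mul, ← map_mul, ← map_mul, ← map_mul, ← map_mul, ← map_mul, h.tfu, map_one]

section gens

variable {F : Type*} [Field F] {w u : F}

theorem det3 (a b c d e f g h i : F) : (!![a, b, c; d, e, f; g, h, i] : Matrix (Fin 3) (Fin 3) F).det =
    a * e * i - a * f * h - b * d * i + b * f * g + c * d * h - c * e * g := Matrix.det_fin_three _

/-- explicit element -/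
def Mf (h : IsW w u) : SpecialLinearGroup (Fin 3) F := el !![0, 0, 1; 0, 1, 1; 1, 1, 0] (by
    rw [det3]
    simp only [mul_zero, zero_mul, mul_one, one_mul, add_zero, zero_add, h.ww, h.wu, h.uw, h.uu, h.a1w, h.aw1, h.a1u, h.au1,
      h.awu, h.auw, h.aww, h.auu, h.a11, sub_eq_add_neg, neg_zero, h.neg_one, h.neg_w, h.neg_u])

/-- explicit element -/
def Mf2 (h : IsW w u) : SpecialLinearGroup (Fin 3) F := el !![1, 1, 0; 1, 0, 1; 0, 1, 0] (by
    rw [det3]
    simp only [mul_zero, zero_mul, mul_one, one_mul, add_zero, zero_add, h.ww, h.wu, h.uw, h.uu, h.a1w, h.aw1, h.a1u, h.au1,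
      h.awu, h.auw, h.aww, h.auu, h.a11, sub_eq_add_neg, neg_zero, h.neg_one, h.neg_w, h.neg_u])

/-- explicit element -/
def Mf4 (h : IsW w u) : SpecialLinearGroup (Fin 3) F := el !![0, 1, 1; 1, 0, 0; 1, 0, 1] (by
    rw [det3]
    simp only [mul_zero, zero_mul, mul_one, one_mul, add_zero, zero_add, h.ww, h.wu, h.uw, h.uu, h.a1w, h.aw1, h.a1u, h.au1,
      h.awu, h.auw, h.aww, h.auu, h.a11, sub_eq_add_neg, neg_zero, h.neg_one, h.neg_w, h.neg_u])

/-- explicit element -/
def Mfi (h : IsW w u) : SpecialLinearGroup (Fin 3) F := el !![1, 1, 1; 1, 1, 0; 1, 0, 0] (by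
    rw [det3]
    simp only [mul_zero, zero_mul, mul_one, one_mul, add_zero, zero_add, h.ww, h.wu, h.uw, h.uu, h.a1w, h.aw1, h.a1u, h.au1,
      h.awu, h.auw, h.aww, h.auu, h.a11, sub_eq_add_neg, neg_zero, h.neg_one, h.neg_w, h.neg_u])

/-- explicit element -/
def My (h : IsW w u) : SpecialLinearGroup (Fin 3) F := el !![0, 1, 0; 0, 0, 1; 1, 0, 0] (by
    rw [det3]
    simp only [mul_zero, zero_mul, mul_one, one_mul, add_zero, zero_add, h.ww, h.wu, h.uw, h.uu, h.a1w, h.aw1, h.a1u, h.au1,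
      h.awu, h.auw, h.aww, h.auu, h.a11, sub_eq_add_neg, neg_zero, h.neg_one, h.neg_w, h.neg_u])

/-- explicit element -/
def Myi (h : IsW w u) : SpecialLinearGroup (Fin 3) F := el !![0, 0, 1; 1, 0, 0; 0, 1, 0] (by
    rw [det3]
    simp only [mul_zero, zero_mul, mul_one, one_mul, add_zero, zero_add, h.ww, h.wu, h.uw, h.uu, h.a1w, h.aw1, h.a1u, h.au1,
      h.awu, h.auw, h.aww, h.auu, h.a11, sub_eq_add_neg, neg_zero, h.neg_one, h.neg_w, h.neg_u])

/-- explicit element -/
def Mt (h : IsW w u) : SpecialLinearGroup (Fin 3) F := el !![0, 1, 0; 1, 0, 0; 0, 0, 1] (by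
    rw [det3]
    simp only [mul_zero, zero_mul, mul_one, one_mul, add_zero, zero_add, h.ww, h.wu, h.uw, h.uu, h.a1w, h.aw1, h.a1u, h.au1,
      h.awu, h.auw, h.aww, h.auu, h.a11, sub_eq_add_neg, neg_zero, h.neg_one, h.neg_w, h.neg_u])

/-- explicit element -/
def Mu (h : IsW w u) : SpecialLinearGroup (Fin 3) F := el !![0, 0, w; 0, 1, 0; u, 0, 0] (by
    rw [det3]
    simp only [mul_zero, zero_mul, mul_one, one_mul, add_zero, zero_add, h.ww, h.wu, h.uw, h.uu, h.a1w, h.aw1, h.a1u, h.au1,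
      h.awu, h.auw, h.aww, h.auu, h.a11, sub_eq_add_neg, neg_zero, h.neg_one, h.neg_w, h.neg_u])

/-- explicit element -/
def MZ (h : IsW w u) : SpecialLinearGroup (Fin 3) F := el !![w, 0, 0; 0, w, 0; 0, 0, w] (by
    rw [det3]
    simp only [mul_zero, zero_mul, mul_one, one_mul, add_zero, zero_add, h.ww, h.wu, h.uw, h.uu, h.a1w, h.aw1, h.a1u, h.au1,
      h.awu, h.auw, h.aww, h.auu, h.a11, sub_eq_add_neg, neg_zero, h.neg_one, h.neg_w, h.neg_u])

/-- explicit element -/
def Myf (h : IsW w u) : SpecialLinearGroup (Fin 3) F := el !![0, 1, 1; 1, 1, 0; 0, 0, 1] (by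
    rw [det3]
    simp only [mul_zero, zero_mul, mul_one, one_mul, add_zero, zero_add, h.ww, h.wu, h.uw, h.uu, h.a1w, h.aw1, h.a1u, h.au1,
      h.awu, h.auw, h.aww, h.auu, h.a11, sub_eq_add_neg, neg_zero, h.neg_one, h.neg_w, h.neg_u])

/-- explicit element -/
def Mty (h : IsW w u) : SpecialLinearGroup (Fin 3) F := el !![0, 0, 1; 0, 1, 0; 1, 0, 0] (by
    rw [det3]
    simp only [mul_zero, zero_mul, mul_one, one_mul, add_zero, zero_add, h.ww, h.wu, h.uw, h.uu, h.a1w, h.aw1, h.a1u, h.au1,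
      h.awu, h.auw, h.aww, h.auu, h.a11, sub_eq_add_neg, neg_zero, h.neg_one, h.neg_w, h.neg_u])

/-- explicit element -/
def Mft (h : IsW w u) : SpecialLinearGroup (Fin 3) F := el !![0, 0, 1; 1, 0, 1; 1, 1, 0] (by
    rw [det3]
    simp only [mul_zero, zero_mul, mul_one, one_mul, add_zero, zero_add, h.ww, h.wu, h.uw, h.uu, h.a1w, h.aw1, h.a1u, h.au1,
      h.awu, h.auw, h.aww, h.auu, h.a11, sub_eq_add_neg, neg_zero, h.neg_one, h.neg_w, h.neg_u])

/-- explicit element -/
def Mft2 (h : IsW w u) : SpecialLinearGroup (Fin 3) F := el !![1, 1, 0; 1, 1, 1; 1, 0, 0] (by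
    rw [det3]
    simp only [mul_zero, zero_mul, mul_one, one_mul, add_zero, zero_add, h.ww, h.wu, h.uw, h.uu, h.a1w, h.aw1, h.a1u, h.au1,
      h.awu, h.auw, h.aww, h.auu, h.a11, sub_eq_add_neg, neg_zero, h.neg_one, h.neg_w, h.neg_u])

/-- explicit element -/
def Muy (h : IsW w u) : SpecialLinearGroup (Fin 3) F := el !![w, 0, 0; 0, 0, 1; 0, u, 0] (by
    rw [det3]
    simp only [mul_zero, zero_mul, mul_one, one_mul, add_zero, zero_add, h.ww, h.wu, h.uw, h.uu, h.a1w, h.aw1, h.a1u, h.au1,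
      h.awu, h.auw, h.aww, h.auu, h.a11, sub_eq_add_neg, neg_zero, h.neg_one, h.neg_w, h.neg_u])

/-- explicit element -/
def Myiu (h : IsW w u) : SpecialLinearGroup (Fin 3) F := el !![u, 0, 0; 0, 0, w; 0, 1, 0] (by
    rw [det3]
    simp only [mul_zero, zero_mul, mul_one, one_mul, add_zero, zero_add, h.ww, h.wu, h.uw, h.uu, h.a1w, h.aw1, h.a1u, h.au1,
      h.awu, h.auw, h.aww, h.auu, h.a11, sub_eq_add_neg, neg_zero, h.neg_one, h.neg_w, h.neg_u])

/-- explicit element -/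
def Mfu (h : IsW w u) : SpecialLinearGroup (Fin 3) F := el !![u, 0, 0; u, 1, 0; 0, 1, w] (by
    rw [det3]
    simp only [mul_zero, zero_mul, mul_one, one_mul, add_zero, zero_add, h.ww, h.wu, h.uw, h.uu, h.a1w, h.aw1, h.a1u, h.au1,
      h.awu, h.auw, h.aww, h.auu, h.a11, sub_eq_add_neg, neg_zero, h.neg_one, h.neg_w, h.neg_u])

/-- explicit element -/
def Mfu2 (h : IsW w u) : SpecialLinearGroup (Fin 3) F := el !![w, 0, 0; 1, 1, 0; u, u, u] (by
    rw [det3]
    simp only [mul_zero, zero_mul, mul_one, one_mul, add_zero, zero_add, h.ww, h.wu, h.uw, h.uu, h.a1w, h.aw1, h.a1u, h.au1,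
      h.awu, h.auw, h.aww, h.auu, h.a11, sub_eq_add_neg, neg_zero, h.neg_one, h.neg_w, h.neg_u])

/-- explicit element -/
def Mtu (h : IsW w u) : SpecialLinearGroup (Fin 3) F := el !![0, 1, 0; 0, 0, w; u, 0, 0] (by
    rw [det3]
    simp only [mul_zero, zero_mul, mul_one, one_mul, add_zero, zero_add, h.ww, h.wu, h.uw, h.uu, h.a1w, h.aw1, h.a1u, h.au1,
      h.awu, h.auw, h.aww, h.auu, h.a11, sub_eq_add_neg, neg_zero, h.neg_one, h.neg_w, h.neg_u])

/-- explicit element -/
def Mtu2 (h : IsW w u) : SpecialLinearGroup (Fin 3) F := el !![0, 0, w; 1, 0, 0; 0, u, 0] (by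
    rw [det3]
    simp only [mul_zero, zero_mul, mul_one, one_mul, add_zero, zero_add, h.ww, h.wu, h.uw, h.uu, h.a1w, h.aw1, h.a1u, h.au1,
      h.awu, h.auw, h.aww, h.auu, h.a11, sub_eq_add_neg, neg_zero, h.neg_one, h.neg_w, h.neg_u])

/-- explicit element -/
def Mtf (h : IsW w u) : SpecialLinearGroup (Fin 3) F := el !![0, 1, 1; 0, 0, 1; 1, 1, 0] (by
    rw [det3]
    simp only [mul_zero, zero_mul, mul_one, one_mul, add_zero, zero_add, h.ww, h.wu, h.uw, h.uu, h.a1w, h.aw1, h.a1u, h.au1,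
      h.awu, h.auw, h.aww, h.auu, h.a11, sub_eq_add_neg, neg_zero, h.neg_one, h.neg_w, h.neg_u])

/-- explicit element -/
def Mtfu (h : IsW w u) : SpecialLinearGroup (Fin 3) F := el !![u, 1, 0; u, 0, 0; 0, 1, w] (by
    rw [det3]
    simp only [mul_zero, zero_mul, mul_one, one_mul, add_zero, zero_add, h.ww, h.wu, h.uw, h.uu, h.a1w, h.aw1, h.a1u, h.au1,
      h.awu, h.auw, h.aww, h.auu, h.a11, sub_eq_add_neg, neg_zero, h.neg_one, h.neg_w, h.neg_u])

/-- explicit element -/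
def Mx (h : IsW w u) : SpecialLinearGroup (Fin 3) F := el !![w, w, u; u, u, u; u, 1, 0] (by
    rw [det3]
    simp only [mul_zero, zero_mul, mul_one, one_mul, add_zero, zero_add, h.ww, h.wu, h.uw, h.uu, h.a1w, h.aw1, h.a1u, h.au1,
      h.awu, h.auw, h.aww, h.auu, h.a11, sub_eq_add_neg, neg_zero, h.neg_one, h.neg_w, h.neg_u])

/-- explicit element -/
def Mx2 (h : IsW w u) : SpecialLinearGroup (Fin 3) F := el !![0, 1, 0; 1, 0, 0; w, w, 1] (by
    rw [det3]
    simp only [mul_zero, zero_mul, mul_one, one_mul, add_zero, zero_add, h.ww, h.wu, h.uw, h.uu, h.a1w, h.aw1, h.a1u, h.au1,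
      h.awu, h.auw, h.aww, h.auu, h.a11, sub_eq_add_neg, neg_zero, h.neg_one, h.neg_w, h.neg_u])

/-- explicit element -/
def Md (h : IsW w u) : SpecialLinearGroup (Fin 3) F := el !![1, 0, 0; 0, w, 0; 0, 0, u] (by
    rw [det3]
    simp only [mul_zero, zero_mul, mul_one, one_mul, add_zero, zero_add, h.ww, h.wu, h.uw, h.uu, h.a1w, h.aw1, h.a1u, h.au1,
      h.awu, h.auw, h.aww, h.auu, h.a11, sub_eq_add_neg, neg_zero, h.neg_one, h.neg_w, h.neg_u])

/-- explicit element -/
def Myft (h : IsW w u) : SpecialLinearGroup (Fin 3) F := el !![1, 0, 1; 1, 1, 0; 0, 0, 1] (by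
    rw [det3]
    simp only [mul_zero, zero_mul, mul_one, one_mul, add_zero, zero_add, h.ww, h.wu, h.uw, h.uu, h.a1w, h.aw1, h.a1u, h.au1,
      h.awu, h.auw, h.aww, h.auu, h.a11, sub_eq_add_neg, neg_zero, h.neg_one, h.neg_w, h.neg_u])

/-- explicit element -/
def Myftf (h : IsW w u) : SpecialLinearGroup (Fin 3) F := el !![0, 1, 1; 0, 0, 1; 1, 0, 0] (by
    rw [det3]
    simp only [mul_zero, zero_mul, mul_one, one_mul, add_zero, zero_add, h.ww, h.wu, h.uw, h.uu, h.a1w, h.aw1, h.a1u, h.au1,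
      h.awu, h.auw, h.aww, h.auu, h.a11, sub_eq_add_neg, neg_zero, h.neg_one, h.neg_w, h.neg_u])

/-- explicit element -/
def ME1 (h : IsW w u) : SpecialLinearGroup (Fin 3) F := el !![1, 1, 0; 0, 1, 0; 0, 0, 1] (by
    rw [det3]
    simp only [mul_zero, zero_mul, mul_one, one_mul, add_zero, zero_add, h.ww, h.wu, h.uw, h.uu, h.a1w, h.aw1, h.a1u, h.au1,
      h.awu, h.auw, h.aww, h.auu, h.a11, sub_eq_add_neg, neg_zero, h.neg_one, h.neg_w, h.neg_u])

/-- explicit element -/
def ME2 (h : IsW w u) : SpecialLinearGroup (Fin 3) F := el !![1, u, 0; 0, 1, 0; 0, 0, 1] (by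
    rw [det3]
    simp only [mul_zero, zero_mul, mul_one, one_mul, add_zero, zero_add, h.ww, h.wu, h.uw, h.uu, h.a1w, h.aw1, h.a1u, h.au1,
      h.awu, h.auw, h.aww, h.auu, h.a11, sub_eq_add_neg, neg_zero, h.neg_one, h.neg_w, h.neg_u])

/-- explicit element -/
def ME3 (h : IsW w u) : SpecialLinearGroup (Fin 3) F := el !![1, w, 0; 0, 1, 0; 0, 0, 1] (by
    rw [det3]
    simp only [mul_zero, zero_mul, mul_one, one_mul, add_zero, zero_add, h.ww, h.wu, h.uw, h.uu, h.a1w, h.aw1, h.a1u, h.au1,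
      h.awu, h.auw, h.aww, h.auu, h.a11, sub_eq_add_neg, neg_zero, h.neg_one, h.neg_w, h.neg_u])

/-- explicit element -/
def MdE1 (h : IsW w u) : SpecialLinearGroup (Fin 3) F := el !![1, 1, 0; 0, w, 0; 0, 0, u] (by
    rw [det3]
    simp only [mul_zero, zero_mul, mul_one, one_mul, add_zero, zero_add, h.ww, h.wu, h.uw, h.uu, h.a1w, h.aw1, h.a1u, h.au1,
      h.awu, h.auw, h.aww, h.auu, h.a11, sub_eq_add_neg, neg_zero, h.neg_one, h.neg_w, h.neg_u])

/-- explicit element -/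
def MdE2 (h : IsW w u) : SpecialLinearGroup (Fin 3) F := el !![1, u, 0; 0, w, 0; 0, 0, u] (by
    rw [det3]
    simp only [mul_zero, zero_mul, mul_one, one_mul, add_zero, zero_add, h.ww, h.wu, h.uw, h.uu, h.a1w, h.aw1, h.a1u, h.au1,
      h.awu, h.auw, h.aww, h.auu, h.a11, sub_eq_add_neg, neg_zero, h.neg_one, h.neg_w, h.neg_u])

theorem f_f (h : IsW w u) : Mf h * Mf h = Mf2 h := by
  have m : (!![0, 0, 1; 0, 1, 1; 1, 1, 0] : Matrix (Fin 3) (Fin 3) F) * !![0, 0, 1; 0, 1, 1; 1, 1, 0] = !![1, 1, 0; 1, 0, 1; 0, 1, 0] := by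
    rw [Matrix.mul_fin_three]
    simp only [mul_zero, zero_mul, mul_one, one_mul, add_zero, zero_add, h.ww, h.wu, h.uw, h.uu, h.a1w, h.aw1, h.a1u, h.au1,
      h.awu, h.auw, h.aww, h.auu, h.a11]
  exact Subtype.ext m

theorem f2_f2 (h : IsW w u) : Mf2 h * Mf2 h = Mf4 h := by
  have m : (!![1, 1, 0; 1, 0, 1; 0, 1, 0] : Matrix (Fin 3) (Fin 3) F) * !![1, 1, 0; 1, 0, 1; 0, 1, 0] = !![0, 1, 1; 1, 0, 0; 1, 0, 1] := by
    rw [Matrix.mul_fin_three]
    simp only [mul_zero, zero_mul, mul_one, one_mul, add_zero, zero_add, h.ww, h.wu, h.uw, h.uu, h.a1w, h.aw1, h.a1u, h.au1,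
      h.awu, h.auw, h.aww, h.auu, h.a11]
  exact Subtype.ext m

theorem f4_f2 (h : IsW w u) : Mf4 h * Mf2 h = Mfi h := by
  have m : (!![0, 1, 1; 1, 0, 0; 1, 0, 1] : Matrix (Fin 3) (Fin 3) F) * !![1, 1, 0; 1, 0, 1; 0, 1, 0] = !![1, 1, 1; 1, 1, 0; 1, 0, 0] := by
    rw [Matrix.mul_fin_three]
    simp only [mul_zero, zero_mul, mul_one, one_mul, add_zero, zero_add, h.ww, h.wu, h.uw, h.uu, h.a1w, h.aw1, h.a1u, h.au1,
      h.awu, h.auw, h.aww, h.auu, h.a11]
  exact Subtype.ext m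

theorem fi_f (h : IsW w u) : Mfi h * Mf h = 1 := by
  have m : (!![1, 1, 1; 1, 1, 0; 1, 0, 0] : Matrix (Fin 3) (Fin 3) F) * !![0, 0, 1; 0, 1, 1; 1, 1, 0] = !![1, 0, 0; 0, 1, 0; 0, 0, 1] := by
    rw [Matrix.mul_fin_three]
    simp only [mul_zero, zero_mul, mul_one, one_mul, add_zero, zero_add, h.ww, h.wu, h.uw, h.uu, h.a1w, h.aw1, h.a1u, h.au1,
      h.awu, h.auw, h.aww, h.auu, h.a11]
  apply Subtype.ext
  exact m.trans one_fin_three_eq.symm

theorem y_y (h : IsW w u) : My h * My h = Myi h := by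
  have m : (!![0, 1, 0; 0, 0, 1; 1, 0, 0] : Matrix (Fin 3) (Fin 3) F) * !![0, 1, 0; 0, 0, 1; 1, 0, 0] = !![0, 0, 1; 1, 0, 0; 0, 1, 0] := by
    rw [Matrix.mul_fin_three]
    simp only [mul_zero, zero_mul, mul_one, one_mul, add_zero, zero_add, h.ww, h.wu, h.uw, h.uu, h.a1w, h.aw1, h.a1u, h.au1,
      h.awu, h.auw, h.aww, h.auu, h.a11]
  exact Subtype.ext m

theorem yi_y (h : IsW w u) : Myi h * My h = 1 := by
  have m : (!![0, 0, 1; 1, 0, 0; 0, 1, 0] : Matrix (Fin 3) (Fin 3) F) * !![0, 1, 0; 0, 0, 1; 1, 0, 0] = !![1, 0, 0; 0, 1, 0; 0, 0, 1] := by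
    rw [Matrix.mul_fin_three]
    simp only [mul_zero, zero_mul, mul_one, one_mul, add_zero, zero_add, h.ww, h.wu, h.uw, h.uu, h.a1w, h.aw1, h.a1u, h.au1,
      h.awu, h.auw, h.aww, h.auu, h.a11]
  apply Subtype.ext
  exact m.trans one_fin_three_eq.symm

theorem y_f (h : IsW w u) : My h * Mf h = Myf h := by
  have m : (!![0, 1, 0; 0, 0, 1; 1, 0, 0] : Matrix (Fin 3) (Fin 3) F) * !![0, 0, 1; 0, 1, 1; 1, 1, 0] = !![0, 1, 1; 1, 1, 0; 0, 0, 1] := by
    rw [Matrix.mul_fin_three]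
    simp only [mul_zero, zero_mul, mul_one, one_mul, add_zero, zero_add, h.ww, h.wu, h.uw, h.uu, h.a1w, h.aw1, h.a1u, h.au1,
      h.awu, h.auw, h.aww, h.auu, h.a11]
  exact Subtype.ext m

theorem f2_y (h : IsW w u) : Mf2 h * My h = Myf h := by
  have m : (!![1, 1, 0; 1, 0, 1; 0, 1, 0] : Matrix (Fin 3) (Fin 3) F) * !![0, 1, 0; 0, 0, 1; 1, 0, 0] = !![0, 1, 1; 1, 1, 0; 0, 0, 1] := by
    rw [Matrix.mul_fin_three]
    simp only [mul_zero, zero_mul, mul_one, one_mul, add_zero, zero_add, h.ww, h.wu, h.uw, h.uu, h.a1w, h.aw1, h.a1u, h.au1,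
      h.awu, h.auw, h.aww, h.auu, h.a11]
  exact Subtype.ext m

theorem t_t (h : IsW w u) : Mt h * Mt h = 1 := by
  have m : (!![0, 1, 0; 1, 0, 0; 0, 0, 1] : Matrix (Fin 3) (Fin 3) F) * !![0, 1, 0; 1, 0, 0; 0, 0, 1] = !![1, 0, 0; 0, 1, 0; 0, 0, 1] := by
    rw [Matrix.mul_fin_three]
    simp only [mul_zero, zero_mul, mul_one, one_mul, add_zero, zero_add, h.ww, h.wu, h.uw, h.uu, h.a1w, h.aw1, h.a1u, h.au1,
      h.awu, h.auw, h.aww, h.auu, h.a11]
  apply Subtype.ext
  exact m.trans one_fin_three_eq.symm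

theorem t_y (h : IsW w u) : Mt h * My h = Mty h := by
  have m : (!![0, 1, 0; 1, 0, 0; 0, 0, 1] : Matrix (Fin 3) (Fin 3) F) * !![0, 1, 0; 0, 0, 1; 1, 0, 0] = !![0, 0, 1; 0, 1, 0; 1, 0, 0] := by
    rw [Matrix.mul_fin_three]
    simp only [mul_zero, zero_mul, mul_one, one_mul, add_zero, zero_add, h.ww, h.wu, h.uw, h.uu, h.a1w, h.aw1, h.a1u, h.au1,
      h.awu, h.auw, h.aww, h.auu, h.a11]
  exact Subtype.ext m

theorem yi_t (h : IsW w u) : Myi h * Mt h = Mty h := by
  have m : (!![0, 0, 1; 1, 0, 0; 0, 1, 0] : Matrix (Fin 3) (Fin 3) F) * !![0, 1, 0; 1, 0, 0; 0, 0, 1] = !![0, 0, 1; 0, 1, 0; 1, 0, 0] := by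
    rw [Matrix.mul_fin_three]
    simp only [mul_zero, zero_mul, mul_one, one_mul, add_zero, zero_add, h.ww, h.wu, h.uw, h.uu, h.a1w, h.aw1, h.a1u, h.au1,
      h.awu, h.auw, h.aww, h.auu, h.a11]
  exact Subtype.ext m

theorem f_t (h : IsW w u) : Mf h * Mt h = Mft h := by
  have m : (!![0, 0, 1; 0, 1, 1; 1, 1, 0] : Matrix (Fin 3) (Fin 3) F) * !![0, 1, 0; 1, 0, 0; 0, 0, 1] = !![0, 0, 1; 1, 0, 1; 1, 1, 0] := by
    rw [Matrix.mul_fin_three]
    simp only [mul_zero, zero_mul, mul_one, one_mul, add_zero, zero_add, h.ww, h.wu, h.uw, h.uu, h.a1w, h.aw1, h.a1u, h.au1,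
      h.awu, h.auw, h.aww, h.auu, h.a11]
  exact Subtype.ext m

theorem ft_ft (h : IsW w u) : Mft h * Mft h = Mft2 h := by
  have m : (!![0, 0, 1; 1, 0, 1; 1, 1, 0] : Matrix (Fin 3) (Fin 3) F) * !![0, 0, 1; 1, 0, 1; 1, 1, 0] = !![1, 1, 0; 1, 1, 1; 1, 0, 0] := by
    rw [Matrix.mul_fin_three]
    simp only [mul_zero, zero_mul, mul_one, one_mul, add_zero, zero_add, h.ww, h.wu, h.uw, h.uu, h.a1w, h.aw1, h.a1u, h.au1,
      h.awu, h.auw, h.aww, h.auu, h.a11]
  exact Subtype.ext m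

theorem ft2_ft (h : IsW w u) : Mft2 h * Mft h = 1 := by
  have m : (!![1, 1, 0; 1, 1, 1; 1, 0, 0] : Matrix (Fin 3) (Fin 3) F) * !![0, 0, 1; 1, 0, 1; 1, 1, 0] = !![1, 0, 0; 0, 1, 0; 0, 0, 1] := by
    rw [Matrix.mul_fin_three]
    simp only [mul_zero, zero_mul, mul_one, one_mul, add_zero, zero_add, h.ww, h.wu, h.uw, h.uu, h.a1w, h.aw1, h.a1u, h.au1,
      h.awu, h.auw, h.aww, h.auu, h.a11]
  apply Subtype.ext
  exact m.trans one_fin_three_eq.symm

theorem u_u (h : IsW w u) : Mu h * Mu h = 1 := by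
  have m : (!![0, 0, w; 0, 1, 0; u, 0, 0] : Matrix (Fin 3) (Fin 3) F) * !![0, 0, w; 0, 1, 0; u, 0, 0] = !![1, 0, 0; 0, 1, 0; 0, 0, 1] := by
    rw [Matrix.mul_fin_three]
    simp only [mul_zero, zero_mul, mul_one, one_mul, add_zero, zero_add, h.ww, h.wu, h.uw, h.uu, h.a1w, h.aw1, h.a1u, h.au1,
      h.awu, h.auw, h.aww, h.auu, h.a11]
  apply Subtype.ext
  exact m.trans one_fin_three_eq.symm

theorem u_y (h : IsW w u) : Mu h * My h = Muy h := by
  have m : (!![0, 0, w; 0, 1, 0; u, 0, 0] : Matrix (Fin 3) (Fin 3) F) * !![0, 1, 0; 0, 0, 1; 1, 0, 0] = !![w, 0, 0; 0, 0, 1; 0, u, 0] := by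
    rw [Matrix.mul_fin_three]
    simp only [mul_zero, zero_mul, mul_one, one_mul, add_zero, zero_add, h.ww, h.wu, h.uw, h.uu, h.a1w, h.aw1, h.a1u, h.au1,
      h.awu, h.auw, h.aww, h.auu, h.a11]
  exact Subtype.ext m

theorem yi_u (h : IsW w u) : Myi h * Mu h = Myiu h := by
  have m : (!![0, 0, 1; 1, 0, 0; 0, 1, 0] : Matrix (Fin 3) (Fin 3) F) * !![0, 0, w; 0, 1, 0; u, 0, 0] = !![u, 0, 0; 0, 0, w; 0, 1, 0] := by
    rw [Matrix.mul_fin_three]
    simp only [mul_zero, zero_mul, mul_one, one_mul, add_zero, zero_add, h.ww, h.wu, h.uw, h.uu, h.a1w, h.aw1, h.a1u, h.au1,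
      h.awu, h.auw, h.aww, h.auu, h.a11]
  exact Subtype.ext m

/-- explicit element -/
def MZyiu (h : IsW w u) : SpecialLinearGroup (Fin 3) F := el !![1, 0, 0; 0, 0, u; 0, w, 0] (by
    rw [det3]
    simp only [mul_zero, zero_mul, mul_one, one_mul, add_zero, zero_add, h.ww, h.wu, h.uw, h.uu, h.a1w, h.aw1, h.a1u, h.au1,
      h.awu, h.auw, h.aww, h.auu, h.a11, sub_eq_add_neg, neg_zero, h.neg_one, h.neg_w, h.neg_u])

theorem z_yiu (h : IsW w u) : MZ h * Myiu h = MZyiu h := by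
  have m : (!![w, 0, 0; 0, w, 0; 0, 0, w] : Matrix (Fin 3) (Fin 3) F) * !![u, 0, 0; 0, 0, w; 0, 1, 0] = !![1, 0, 0; 0, 0, u; 0, w, 0] := by
    rw [Matrix.mul_fin_three]
    simp only [mul_zero, zero_mul, mul_one, one_mul, add_zero, zero_add, h.ww, h.wu, h.uw, h.uu, h.a1w, h.aw1, h.a1u, h.au1,
      h.awu, h.auw, h.aww, h.auu, h.a11]
  exact Subtype.ext m

theorem z_zyiu (h : IsW w u) : MZ h * MZyiu h = Muy h := by
  have m : (!![w, 0, 0; 0, w, 0; 0, 0, w] : Matrix (Fin 3) (Fin 3) F) * !![1, 0, 0; 0, 0, u; 0, w, 0] = !![w, 0, 0; 0, 0, 1; 0, u, 0] := by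
    rw [Matrix.mul_fin_three]
    simp only [mul_zero, zero_mul, mul_one, one_mul, add_zero, zero_add, h.ww, h.wu, h.uw, h.uu, h.a1w, h.aw1, h.a1u, h.au1,
      h.awu, h.auw, h.aww, h.auu, h.a11]
  exact Subtype.ext m

theorem f_u (h : IsW w u) : Mf h * Mu h = Mfu h := by
  have m : (!![0, 0, 1; 0, 1, 1; 1, 1, 0] : Matrix (Fin 3) (Fin 3) F) * !![0, 0, w; 0, 1, 0; u, 0, 0] = !![u, 0, 0; u, 1, 0; 0, 1, w] := by
    rw [Matrix.mul_fin_three]
    simp only [mul_zero, zero_mul, mul_one, one_mul, add_zero, zero_add, h.ww, h.wu, h.uw, h.uu, h.a1w, h.aw1, h.a1u, h.au1,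
      h.awu, h.auw, h.aww, h.auu, h.a11]
  exact Subtype.ext m

theorem fu_fu (h : IsW w u) : Mfu h * Mfu h = Mfu2 h := by
  have m : (!![u, 0, 0; u, 1, 0; 0, 1, w] : Matrix (Fin 3) (Fin 3) F) * !![u, 0, 0; u, 1, 0; 0, 1, w] = !![w, 0, 0; 1, 1, 0; u, u, u] := by
    rw [Matrix.mul_fin_three]
    simp only [mul_zero, zero_mul, mul_one, one_mul, add_zero, zero_add, h.ww, h.wu, h.uw, h.uu, h.a1w, h.aw1, h.a1u, h.au1,
      h.awu, h.auw, h.aww, h.auu, h.a11]
  exact Subtype.ext m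

theorem fu2_fu (h : IsW w u) : Mfu2 h * Mfu h = 1 := by
  have m : (!![w, 0, 0; 1, 1, 0; u, u, u] : Matrix (Fin 3) (Fin 3) F) * !![u, 0, 0; u, 1, 0; 0, 1, w] = !![1, 0, 0; 0, 1, 0; 0, 0, 1] := by
    rw [Matrix.mul_fin_three]
    simp only [mul_zero, zero_mul, mul_one, one_mul, add_zero, zero_add, h.ww, h.wu, h.uw, h.uu, h.a1w, h.aw1, h.a1u, h.au1,
      h.awu, h.auw, h.aww, h.auu, h.a11]
  apply Subtype.ext
  exact m.trans one_fin_three_eq.symm

theorem t_u (h : IsW w u) : Mt h * Mu h = Mtu h := by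
  have m : (!![0, 1, 0; 1, 0, 0; 0, 0, 1] : Matrix (Fin 3) (Fin 3) F) * !![0, 0, w; 0, 1, 0; u, 0, 0] = !![0, 1, 0; 0, 0, w; u, 0, 0] := by
    rw [Matrix.mul_fin_three]
    simp only [mul_zero, zero_mul, mul_one, one_mul, add_zero, zero_add, h.ww, h.wu, h.uw, h.uu, h.a1w, h.aw1, h.a1u, h.au1,
      h.awu, h.auw, h.aww, h.auu, h.a11]
  exact Subtype.ext m

theorem tu_tu (h : IsW w u) : Mtu h * Mtu h = Mtu2 h := by
  have m : (!![0, 1, 0; 0, 0, w; u, 0, 0] : Matrix (Fin 3) (Fin 3) F) * !![0, 1, 0; 0, 0, w; u, 0, 0] = !![0, 0, w; 1, 0, 0; 0, u, 0] := by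
    rw [Matrix.mul_fin_three]
    simp only [mul_zero, zero_mul, mul_one, one_mul, add_zero, zero_add, h.ww, h.wu, h.uw, h.uu, h.a1w, h.aw1, h.a1u, h.au1,
      h.awu, h.auw, h.aww, h.auu, h.a11]
  exact Subtype.ext m

theorem tu2_tu (h : IsW w u) : Mtu2 h * Mtu h = 1 := by
  have m : (!![0, 0, w; 1, 0, 0; 0, u, 0] : Matrix (Fin 3) (Fin 3) F) * !![0, 1, 0; 0, 0, w; u, 0, 0] = !![1, 0, 0; 0, 1, 0; 0, 0, 1] := by
    rw [Matrix.mul_fin_three]
    simp only [mul_zero, zero_mul, mul_one, one_mul, add_zero, zero_add, h.ww, h.wu, h.uw, h.uu, h.a1w, h.aw1, h.a1u, h.au1,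
      h.awu, h.auw, h.aww, h.auu, h.a11]
  apply Subtype.ext
  exact m.trans one_fin_three_eq.symm

theorem t_f (h : IsW w u) : Mt h * Mf h = Mtf h := by
  have m : (!![0, 1, 0; 1, 0, 0; 0, 0, 1] : Matrix (Fin 3) (Fin 3) F) * !![0, 0, 1; 0, 1, 1; 1, 1, 0] = !![0, 1, 1; 0, 0, 1; 1, 1, 0] := by
    rw [Matrix.mul_fin_three]
    simp only [mul_zero, zero_mul, mul_one, one_mul, add_zero, zero_add, h.ww, h.wu, h.uw, h.uu, h.a1w, h.aw1, h.a1u, h.au1,
      h.awu, h.auw, h.aww, h.auu, h.a11]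
  exact Subtype.ext m

theorem tf_u (h : IsW w u) : Mtf h * Mu h = Mtfu h := by
  have m : (!![0, 1, 1; 0, 0, 1; 1, 1, 0] : Matrix (Fin 3) (Fin 3) F) * !![0, 0, w; 0, 1, 0; u, 0, 0] = !![u, 1, 0; u, 0, 0; 0, 1, w] := by
    rw [Matrix.mul_fin_three]
    simp only [mul_zero, zero_mul, mul_one, one_mul, add_zero, zero_add, h.ww, h.wu, h.uw, h.uu, h.a1w, h.aw1, h.a1u, h.au1,
      h.awu, h.auw, h.aww, h.auu, h.a11]
  exact Subtype.ext m

theorem tfu_fi (h : IsW w u) : Mtfu h * Mfi h = Mx h := by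
  have m : (!![u, 1, 0; u, 0, 0; 0, 1, w] : Matrix (Fin 3) (Fin 3) F) * !![1, 1, 1; 1, 1, 0; 1, 0, 0] = !![w, w, u; u, u, u; u, 1, 0] := by
    rw [Matrix.mul_fin_three]
    simp only [mul_zero, zero_mul, mul_one, one_mul, add_zero, zero_add, h.ww, h.wu, h.uw, h.uu, h.a1w, h.aw1, h.a1u, h.au1,
      h.awu, h.auw, h.aww, h.auu, h.a11]
  exact Subtype.ext m

theorem x_x (h : IsW w u) : Mx h * Mx h = Mx2 h := by
  have m : (!![w, w, u; u, u, u; u, 1, 0] : Matrix (Fin 3) (Fin 3) F) * !![w, w, u; u, u, u; u, 1, 0] = !![0, 1, 0; 1, 0, 0; w, w, 1] := by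
    rw [Matrix.mul_fin_three]
    simp only [mul_zero, zero_mul, mul_one, one_mul, add_zero, zero_add, h.ww, h.wu, h.uw, h.uu, h.a1w, h.aw1, h.a1u, h.au1,
      h.awu, h.auw, h.aww, h.auu, h.a11]
  exact Subtype.ext m

theorem x2_x2 (h : IsW w u) : Mx2 h * Mx2 h = 1 := by
  have m : (!![0, 1, 0; 1, 0, 0; w, w, 1] : Matrix (Fin 3) (Fin 3) F) * !![0, 1, 0; 1, 0, 0; w, w, 1] = !![1, 0, 0; 0, 1, 0; 0, 0, 1] := by
    rw [Matrix.mul_fin_three]
    simp only [mul_zero, zero_mul, mul_one, one_mul, add_zero, zero_add, h.ww, h.wu, h.uw, h.uu, h.a1w, h.aw1, h.a1u, h.au1,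
      h.awu, h.auw, h.aww, h.auu, h.a11]
  apply Subtype.ext
  exact m.trans one_fin_three_eq.symm

theorem tu_yi (h : IsW w u) : Mtu h * Myi h = Md h := by
  have m : (!![0, 1, 0; 0, 0, w; u, 0, 0] : Matrix (Fin 3) (Fin 3) F) * !![0, 0, 1; 1, 0, 0; 0, 1, 0] = !![1, 0, 0; 0, w, 0; 0, 0, u] := by
    rw [Matrix.mul_fin_three]
    simp only [mul_zero, zero_mul, mul_one, one_mul, add_zero, zero_add, h.ww, h.wu, h.uw, h.uu, h.a1w, h.aw1, h.a1u, h.au1,
      h.awu, h.auw, h.aww, h.auu, h.a11]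
  exact Subtype.ext m

theorem yf_t (h : IsW w u) : Myf h * Mt h = Myft h := by
  have m : (!![0, 1, 1; 1, 1, 0; 0, 0, 1] : Matrix (Fin 3) (Fin 3) F) * !![0, 1, 0; 1, 0, 0; 0, 0, 1] = !![1, 0, 1; 1, 1, 0; 0, 0, 1] := by
    rw [Matrix.mul_fin_three]
    simp only [mul_zero, zero_mul, mul_one, one_mul, add_zero, zero_add, h.ww, h.wu, h.uw, h.uu, h.a1w, h.aw1, h.a1u, h.au1,
      h.awu, h.auw, h.aww, h.auu, h.a11]
  exact Subtype.ext m

theorem yft_fi (h : IsW w u) : Myft h * Mfi h = Myftf h := by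
  have m : (!![1, 0, 1; 1, 1, 0; 0, 0, 1] : Matrix (Fin 3) (Fin 3) F) * !![1, 1, 1; 1, 1, 0; 1, 0, 0] = !![0, 1, 1; 0, 0, 1; 1, 0, 0] := by
    rw [Matrix.mul_fin_three]
    simp only [mul_zero, zero_mul, mul_one, one_mul, add_zero, zero_add, h.ww, h.wu, h.uw, h.uu, h.a1w, h.aw1, h.a1u, h.au1,
      h.awu, h.auw, h.aww, h.auu, h.a11]
  exact Subtype.ext m

theorem yftf_yi (h : IsW w u) : Myftf h * Myi h = ME1 h := by
  have m : (!![0, 1, 1; 0, 0, 1; 1, 0, 0] : Matrix (Fin 3) (Fin 3) F) * !![0, 0, 1; 1, 0, 0; 0, 1, 0] = !![1, 1, 0; 0, 1, 0; 0, 0, 1] := by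
    rw [Matrix.mul_fin_three]
    simp only [mul_zero, zero_mul, mul_one, one_mul, add_zero, zero_add, h.ww, h.wu, h.uw, h.uu, h.a1w, h.aw1, h.a1u, h.au1,
      h.awu, h.auw, h.aww, h.auu, h.a11]
  exact Subtype.ext m

theorem d_E1 (h : IsW w u) : Md h * ME1 h = MdE1 h := by
  have m : (!![1, 0, 0; 0, w, 0; 0, 0, u] : Matrix (Fin 3) (Fin 3) F) * !![1, 1, 0; 0, 1, 0; 0, 0, 1] = !![1, 1, 0; 0, w, 0; 0, 0, u] := by
    rw [Matrix.mul_fin_three]
    simp only [mul_zero, zero_mul, mul_one, one_mul, add_zero, zero_add, h.ww, h.wu, h.uw, h.uu, h.a1w, h.aw1, h.a1u, h.au1,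
      h.awu, h.auw, h.aww, h.auu, h.a11]
  exact Subtype.ext m

theorem E2_d (h : IsW w u) : ME2 h * Md h = MdE1 h := by
  have m : (!![1, u, 0; 0, 1, 0; 0, 0, 1] : Matrix (Fin 3) (Fin 3) F) * !![1, 0, 0; 0, w, 0; 0, 0, u] = !![1, 1, 0; 0, w, 0; 0, 0, u] := by
    rw [Matrix.mul_fin_three]
    simp only [mul_zero, zero_mul, mul_one, one_mul, add_zero, zero_add, h.ww, h.wu, h.uw, h.uu, h.a1w, h.aw1, h.a1u, h.au1,
      h.awu, h.auw, h.aww, h.auu, h.a11]
  exact Subtype.ext m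

theorem d_E2 (h : IsW w u) : Md h * ME2 h = MdE2 h := by
  have m : (!![1, 0, 0; 0, w, 0; 0, 0, u] : Matrix (Fin 3) (Fin 3) F) * !![1, u, 0; 0, 1, 0; 0, 0, 1] = !![1, u, 0; 0, w, 0; 0, 0, u] := by
    rw [Matrix.mul_fin_three]
    simp only [mul_zero, zero_mul, mul_one, one_mul, add_zero, zero_add, h.ww, h.wu, h.uw, h.uu, h.a1w, h.aw1, h.a1u, h.au1,
      h.awu, h.auw, h.aww, h.auu, h.a11]
  exact Subtype.ext m

theorem E3_d (h : IsW w u) : ME3 h * Md h = MdE2 h := by
  have m : (!![1, w, 0; 0, 1, 0; 0, 0, 1] : Matrix (Fin 3) (Fin 3) F) * !![1, 0, 0; 0, w, 0; 0, 0, u] = !![1, u, 0; 0, w, 0; 0, 0, u] := by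
    rw [Matrix.mul_fin_three]
    simp only [mul_zero, zero_mul, mul_one, one_mul, add_zero, zero_add, h.ww, h.wu, h.uw, h.uu, h.a1w, h.aw1, h.a1u, h.au1,
      h.awu, h.auw, h.aww, h.auu, h.a11]
  exact Subtype.ext m

/-! ### The relations -/

theorem quad_sl_seven (h : IsW w u) : Mf h ^ 7 = 1 := by
  rw [show (7 : ℕ) = 4 + 2 + 1 by norm_num, pow_add, pow_add, show (4 : ℕ) = 2 * 2 by norm_num,
    pow_mul, pow_two (Mf h), f_f, pow_two, f2_f2, pow_one, f4_f2, fi_f]

theorem Mf_inv (h : IsW w u) : (Mf h)⁻¹ = Mfi h := inv_eq_of_mul_eq_one_left (fi_f h)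
theorem My_inv (h : IsW w u) : (My h)⁻¹ = Myi h := inv_eq_of_mul_eq_one_left (yi_y h)
theorem MZ_mem (h : IsW w u) : q (MZ h) = 1 := by
  have e : MZ h = Z h := rfl
  rw [e]
  exact qZ h

theorem quad_psl (h : IsW w u) : Quad (q (Mf h)) (q (My h)) (q (Mt h)) (q (Mu h)) where
  f1 := q_ne_one (i := 0) (j := 2) (by decide) (by
    show (1 : F) ≠ 0
    exact one_ne_zero)
  f7 := by rw [← map_pow, quad_sl_seven, map_one]
  yf := by
    rw [← map_mul, ← map_inv, ← map_mul, ← map_pow]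
    congr 1
    rw [mul_inv_eq_iff_eq_mul, pow_two, f_f, y_f, f2_y]
  y3 := by
    rw [← map_pow]
    have : My h ^ 3 = 1 := by rw [pow_succ, pow_two, y_y, yi_y]
    rw [this, map_one]
  tt := by rw [← map_mul, t_t, map_one]
  ty := by
    rw [← map_mul, ← map_inv, ← map_inv, ← map_mul]
    congr 1
    rw [mul_inv_eq_iff_eq_mul, t_y, My_inv, yi_t]
  ft := by rw [← map_mul, ← map_mul, ← map_mul, f_t, ft_ft, ft2_ft, map_one]
  uu := by rw [← map_mul, u_u, map_one]
  uy := by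
    rw [mul_inv_eq_iff_eq_mul, ← map_inv, ← map_mul, ← map_mul, u_y, My_inv, yi_u,
      ← z_zyiu, ← z_yiu, map_mul, map_mul, MZ_mem, one_mul, one_mul]
  fu := by rw [← map_mul, ← map_mul, ← map_mul, f_u, fu_fu, fu2_fu, map_one]
  ne := by
    intro hh
    have h1 : q (Mtu h) = 1 := by
      rw [← t_u, map_mul, ← hh, ← map_mul, t_t, map_one]
    exact q_ne_one (A := Mtu h) (i := 0) (j := 1) (by decide) (by
      show (1 : F) ≠ 0
      exact one_ne_zero) h1
  tu := by rw [← map_mul, ← map_mul, ← map_mul, t_u, tu_tu, tu2_tu, map_one]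
  tfu := by
    rw [← map_inv, ← map_mul, ← map_mul, ← map_mul, ← map_mul, ← map_mul, ← map_mul, Mf_inv,
      t_f, tf_u, tfu_fi, x_x, mul_assoc, x_x, x2_x2, map_one]

theorem transv_coe (h01 : (0 : Fin 3) ≠ 1) (a : F) :
    ((SpecialLinearGroup.transvection h01 a : SpecialLinearGroup (Fin 3) F) :
      Matrix (Fin 3) (Fin 3) F) = !![1, a, 0; 0, 1, 0; 0, 0, 1] := by
  ext i j
  fin_cases i <;> fin_cases j <;>
    simp only [SpecialLinearGroup.transvection, transvection, single, Fin.isValue, Fin.zero_eta, Matrix.add_apply,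
        one_apply_eq, of_apply, one_ne_zero, and_false, ↓reduceIte, add_zero, cons_val', cons_val_zero, cons_val_fin_one,
        Fin.mk_one, Nat.reduceAdd, ne_eq, zero_ne_one, not_false_eq_true, one_apply_ne, and_self, zero_add, cons_val_one,
        Fin.reduceFinMk, Fin.reduceEq, cons_val, and_true]

theorem four_cases [Fintype F] (hF : Fintype.card F = 4) (h : IsW w u) (a : F) :
    a = 0 ∨ a = 1 ∨ a = w ∨ a = u := by
  classical
  have hwu : w ≠ u := by
    intro e
    have h1 := h.awu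
    rw [e, h.auu] at h1
    exact zero_ne_one h1
  have hu1 : u ≠ 1 := by
    intro e
    have h1 := h.a1u
    rw [e, h.a11] at h1
    exact h.w0 h1.symm
  have h1 : ({0, 1, w, u} : Finset F).card = 4 := by
    rw [Finset.card_insert_of_notMem, Finset.card_insert_of_notMem, Finset.card_insert_of_notMem,
      Finset.card_singleton]
    · simpa using hwu
    · simp only [Finset.mem_insert, Finset.mem_singleton, not_or]
      exact ⟨fun e => h.w1 e.symm, fun e => hu1 e.symm⟩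
    · simp only [Finset.mem_insert, Finset.mem_singleton, not_or]
      exact ⟨zero_ne_one, fun e => h.w0 e.symm, fun e => h.u0 e.symm⟩
  have h2 : ({0, 1, w, u} : Finset F) = Finset.univ :=
    Finset.eq_univ_of_card _ (by rw [h1, hF])
  have h3 : a ∈ ({0, 1, w, u} : Finset F) := by rw [h2]; exact Finset.mem_univ a
  simpa only [Finset.mem_insert, Finset.mem_singleton] using h3

theorem q_surj : Function.Surjective (q (F := F)) := QuotientGroup.mk'_surjective _

/-- **generation** -/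
theorem gens_top [Fintype F] (hF : Fintype.card F = 4) (h : IsW w u) :
    Subgroup.closure {q (Mf h), q (My h), q (Mt h), q (Mu h)} = ⊤ := by
  set K := Subgroup.closure {q (Mf h), q (My h), q (Mt h), q (Mu h)} with hK
  set H := K.comap q with hH
  have hf : Mf h ∈ H := Subgroup.subset_closure (by simp)
  have hy : My h ∈ H := Subgroup.subset_closure (by simp)
  have ht : Mt h ∈ H := Subgroup.subset_closure (by simp)
  have hu : Mu h ∈ H := Subgroup.subset_closure (by simp)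
  have hfi : Mfi h ∈ H := by rw [← Mf_inv]; exact H.inv_mem hf
  have hyi : Myi h ∈ H := by rw [← My_inv]; exact H.inv_mem hy
  have hd : Md h ∈ H := by rw [← tu_yi, ← t_u]; exact H.mul_mem (H.mul_mem ht hu) hyi
  have hE1 : ME1 h ∈ H := by
    rw [← yftf_yi, ← yft_fi, ← yf_t, ← y_f]
    exact H.mul_mem (H.mul_mem (H.mul_mem (H.mul_mem hy hf) ht) hfi) hyi
  have hE2 : ME2 h ∈ H := by
    have e : ME2 h = Md h * ME1 h * (Md h)⁻¹ := by
      rw [eq_mul_inv_iff_mul_eq, E2_d, d_E1]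
    rw [e]; exact H.mul_mem (H.mul_mem hd hE1) (H.inv_mem hd)
  have hE3 : ME3 h ∈ H := by
    have e : ME3 h = Md h * ME2 h * (Md h)⁻¹ := by
      rw [eq_mul_inv_iff_mul_eq, E3_d, d_E2]
    rw [e]; exact H.mul_mem (H.mul_mem hd hE2) (H.inv_mem hd)
  have h01 : (0 : Fin 3) ≠ 1 := by decide
  have htop : H = ⊤ := by
    refine Cfsg.Agent.H135.SLCyc.eq_top_of_mem (n := 2) (by norm_num) (My h) ?_ H hy h01 ?_
    · ext i j
      fin_cases i <;> fin_cases j <;> simp only [Nat.reduceAdd, My, el, Fin.zero_eta, Fin.isValue, of_apply, cons_val',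
          cons_val_zero, cons_val_fin_one, Fin.val_eq_zero_iff, even_two, Even.neg_pow, one_pow, Fin.coe_ofNat_eq_mod,
          Nat.zero_mod, zero_add, zero_ne_one, ↓reduceIte, OfNat.zero_ne_ofNat, and_true, Fin.mk_one, cons_val_one,
          Nat.one_mod, Fin.reduceFinMk, cons_val, Nat.mod_succ, OfNat.ofNat_ne_one, Fin.reduceEq, and_self,
          OfNat.one_ne_ofNat, one_ne_zero, and_false, OfNat.ofNat_eq_ofNat, Nat.reduceEqDiff]
    · intro a
      rcases four_cases hF h a with rfl | rfl | rfl | rfl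
      · have e : SpecialLinearGroup.transvection h01 (0 : F) = 1 := by
          apply Subtype.ext
          exact (transv_coe h01 0).trans one_fin_three_eq.symm
        rw [e]; exact H.one_mem
      · have e : SpecialLinearGroup.transvection h01 (1 : F) = ME1 h :=
          Subtype.ext (transv_coe h01 1)
        rw [e]; exact hE1
      · have e : SpecialLinearGroup.transvection h01 a = ME3 h :=
          Subtype.ext (transv_coe h01 a)
        rw [e]; exact hE3
      · have e : SpecialLinearGroup.transvection h01 a = ME2 h :=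
          Subtype.ext (transv_coe h01 a)
        rw [e]; exact hE2
  rw [eq_top_iff]
  rintro x -
  obtain ⟨g, rfl⟩ := q_surj x
  have : g ∈ H := by rw [htop]; exact Subgroup.mem_top _
  exact this

end gens

/-- **`PSL₃(4)` is generated by elements with the relations `Quad`** -/
theorem exists_quad {F : Type*} [Field F] [Fintype F] (hF : Fintype.card F = 4) {S : Type*} [Group S]
    (e : S ≃* ProjectiveSpecialLinearGroup (Fin 3) F) :
    ∃ f y t u : S, Quad f y t u ∧ Subgroup.closure {f, y, t, u} = ⊤ := by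
  obtain ⟨w, u, h⟩ := exists_isW hF
  refine ⟨e.symm (q (Mf h)), e.symm (q (My h)), e.symm (q (Mt h)), e.symm (q (Mu h)),
    (quad_psl h).map e.symm.toMonoidHom e.symm.injective, ?_⟩
  have h1 := congrArg (Subgroup.map e.symm.toMonoidHom) (gens_top hF h)
  rw [MonoidHom.map_closure] at h1
  have h2 : e.symm.toMonoidHom '' {q (Mf h), q (My h), q (Mt h), q (Mu h)} =
      {e.symm (q (Mf h)), e.symm (q (My h)), e.symm (q (Mt h)), e.symm (q (Mu h))} := by
    rw [Set.image_insert_eq, Set.image_insert_eq, Set.image_insert_eq, Set.image_singleton]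
    rfl
  rw [h2] at h1
  rw [h1, ← MonoidHom.range_eq_map, MonoidHom.range_eq_top]
  exact e.symm.surjective

end Cfsg.Agent.H868.JM
end

-- part: H868/JM/L34
section
/-!
# `PSL₃(4)` is not the socle of a maximal subgroup of `J4`
-/

set_option autoImplicit false
set_option maxRecDepth 100000

open Cfsg

namespace Cfsg.Agent.H868.JM.L34

open Cfsg.Agent.Lib Cfsg.Agent.Lib.F2Mat Cfsg.Agent.Lib.F2MatGroup
open Cfsg.Agent.J4.Rep112 Cfsg.Agent.J4.LowerData
open Cfsg.Agent.H858 Cfsg.Agent.H858.VK Cfsg.Agent.H858.Data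
open Cfsg.Agent.H68.JM (ac tv ac_one ac_mul ac_inv ac_code ac_code' vword vword_sound vword_lt Row)
open Cfsg.Agent.H111.JM.Eng Cfsg.Agent.H111.JM.Env Cfsg.Agent.H111.JM.EnvF Cfsg.Agent.H111.JM.G0
open Cfsg.Agent.H111.JM.Sol
open Cfsg.Agent.H868.JM (f1 f2 q1 c6 g2 I2)
open Cfsg.Agent.H860.JM (NL Excl cj cj_cj mem_cj cj_eq_iff centralizer_cj normalizer_cj)

local notation "𝒢" => Cfsg.Spor.J4
local notation "yy" => Cfsg.Agent.H878.JM.Base.y0

attribute [local irreducible] f1 f2 q1 c6 Cfsg.Agent.H878.JM.Base.y0 Cfsg.Agent.H878.JM.Base.c1 Cfsg.Agent.H878.JM.Base.c2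
  Cfsg.Agent.H878.JM.Base.c3 Cfsg.Agent.H878.JM.Base.t1 Cfsg.Agent.H878.JM.Base.t2
  Cfsg.Agent.H878.JM.Base.t3

/-! ### Conjugation -/

theorem cj_le {g : 𝒢} {A B : Subgroup 𝒢} (h : A ≤ B) : cj g A ≤ cj g B := by
  intro x hx
  rw [mem_cj] at hx ⊢
  exact h hx

theorem cj_inv (g : 𝒢) (A : Subgroup 𝒢) : cj g⁻¹ (cj g A) = A := by
  rw [cj_cj, inv_mul_cancel, cj_eq_iff]
  exact Subgroup.one_mem _

theorem cj_inv' (g : 𝒢) (A : Subgroup 𝒢) : cj g (cj g⁻¹ A) = A := by
  rw [cj_cj, mul_inv_cancel, cj_eq_iff]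
  exact Subgroup.one_mem _

theorem cj_top (g : 𝒢) : cj g (⊤ : Subgroup 𝒢) = ⊤ := by
  rw [eq_top_iff]
  intro x _
  rw [mem_cj]
  exact Subgroup.mem_top _

theorem cj_bot (g : 𝒢) : cj g (⊥ : Subgroup 𝒢) = ⊥ := Subgroup.map_bot _

theorem NL_cj {M S : Subgroup 𝒢} (g : 𝒢) (h : NL M S) : NL (cj g M) (cj g S) := by
  have e : S ≃* (cj g S : Subgroup 𝒢) := S.equivMapOfInjective _ (MulAut.conj g).injective
  refine ⟨⟨?_, ?_⟩, cj_le h.le, ?_, ?_, ?_, ?_⟩
  · intro h1
    apply h.coatom.1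
    rw [← cj_inv g M, h1, cj_top]
  · intro B hB
    have h1 : M < cj g⁻¹ B := by
      refine lt_of_le_of_ne ?_ ?_
      · rw [← cj_inv g M]; exact cj_le hB.le
      · intro h2
        apply hB.ne
        rw [h2, cj_inv']
    have h2 := h.coatom.2 _ h1
    rw [← cj_inv' g B, h2, cj_top]
  · rw [normalizer_cj]; exact cj_le h.norm
  · have := h.simple
    exact (MulEquiv.isSimpleGroup e.symm)
  · intro h1
    apply h.nab
    exact ⟨⟨fun a b => e.injective (by rw [map_mul, map_mul]; exact h1.is_comm.comm _ _)⟩⟩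
  · rw [centralizer_cj, h.cent, cj_bot]

theorem quad_conj {f y t u : 𝒢} (h : Quad f y t u) (g : 𝒢) :
    Quad (g * f * g⁻¹) (g * y * g⁻¹) (g * t * g⁻¹) (g * u * g⁻¹) :=
  h.map (MulAut.conj g).toMonoidHom (MulAut.conj g).injective

theorem cj_closure (f y t u g : 𝒢) : cj g (Subgroup.closure {f, y, t, u}) =
    Subgroup.closure {g * f * g⁻¹, g * y * g⁻¹, g * t * g⁻¹, g * u * g⁻¹} := by
  have h : cj g (Subgroup.closure {f, y, t, u}) =
      (Subgroup.closure {f, y, t, u}).map (MulAut.conj g).toMonoidHom := rfl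
  rw [h, MonoidHom.map_closure, Set.image_insert_eq, Set.image_insert_eq, Set.image_insert_eq,
    Set.image_singleton]
  rfl

/-- the configuration -/
structure Cf (M S : Subgroup 𝒢) (f t u : 𝒢) : Prop where
  nl : NL M S
  card : Nat.card S = 20160
  q : Quad f yy t u
  cl : S = Subgroup.closure {f, yy, t, u}

namespace Cf

variable {M S : Subgroup 𝒢} {f t u : 𝒢}

theorem conj (h : Cf M S f t u) {c : 𝒢} (hf : c * f = f * c) (hy : c * yy = yy * c) :
    Cf (cj c M) (cj c S) f (c * t * c⁻¹) (c * u * c⁻¹) := by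
  have h1 : c * f * c⁻¹ = f := by rw [hf, mul_inv_cancel_right]
  have h2 : c * yy * c⁻¹ = yy := by rw [hy, mul_inv_cancel_right]
  refine ⟨NL_cj c h.nl, ?_, ?_, ?_⟩
  · rw [Cfsg.Agent.H860.JM.card_cj, h.card]
  · have := quad_conj h.q c
    rwa [h1, h2] at this
  · rw [h.cl, cj_closure, h1, h2]

theorem tyt (h : Cf M S f t u) : TY t := ⟨h.q.tt, h.q.ty⟩
theorem tyu (h : Cf M S f t u) : TY u := ⟨h.q.uu, h.q.uy⟩

theorem f_mem (h : Cf M S f t u) : f ∈ S := by
  rw [h.cl]; exact Subgroup.subset_closure (by simp)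
theorem y_mem (h : Cf M S f t u) : yy ∈ S := by
  rw [h.cl]; exact Subgroup.subset_closure (by simp)
theorem t_mem (h : Cf M S f t u) : t ∈ S := by
  rw [h.cl]; exact Subgroup.subset_closure (by simp)
theorem le (h : Cf M S f t u) {K : Subgroup 𝒢} (h1 : f ∈ K) (h2 : yy ∈ K) (h3 : t ∈ K)
    (h4 : u ∈ K) : S ≤ K := by
  rw [h.cl, Subgroup.closure_le]
  rintro x (rfl | rfl | rfl | rfl)
  · exact h1
  · exact h2
  · exact h3
  · exact h4

/-- an element commuting with the generators is trivial -/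
theorem eq_one (h : Cf M S f t u) {x : 𝒢} (h1 : x * f = f * x) (h2 : x * yy = yy * x)
    (h3 : x * t = t * x) (h4 : x * u = u * x) : x = 1 := by
  have h5 : S ≤ Subgroup.centralizer {x} := by
    apply h.le <;> rw [Subgroup.mem_centralizer_singleton_iff]
    · exact h1.symm
    · exact h2.symm
    · exact h3.symm
    · exact h4.symm
  have h6 : x ∈ Subgroup.centralizer (S : Set 𝒢) := by
    rw [Subgroup.mem_centralizer_iff]
    intro s hs
    exact Subgroup.mem_centralizer_singleton_iff.1 (h5 hs)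
  rw [h.nl.cent] at h6
  exact Subgroup.mem_bot.1 h6

end Cf

/-! ### Packed matrices -/

/-- equal elements have equal packed matrices -/
theorem beq_of {L : List 𝒢} {E : List ℕ} (h : List.Forall₂ (Codes 112) (L.map rho) E)
    {w v : List ℕ} (hw : evG L w = evG L v) : Nat.beq (evW 112 E w) (evW 112 E v) = true := by
  have e1 := codes_evW h w
  have e2 := codes_evW h v
  rw [evG_map] at e1 e2
  unfold Codes at e1 e2
  have h1 : toMat 112 (evW 112 E w) = toMat 112 (evW 112 E v) := by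
    rw [← e1, ← e2, hw]
  have h2 := toMat_inj (evW_lt (by norm_num) E w) (evW_lt (by norm_num) E v) h1
  rw [h2]
  exact Nat.beq_refl _

theorem eq_of_beq {L : List 𝒢} {E : List ℕ} (h : List.Forall₂ (Codes 112) (L.map rho) E)
    {w v : List ℕ} (hb : Nat.beq (evW 112 E w) (evW 112 E v) = true) : evG L w = evG L v := by
  have e1 := codes_evW h w
  have e2 := codes_evW h v
  rw [evG_map] at e1 e2
  exact rho_injective (Codes.eq e1 e2 hb)

theorem getG_TR {m : ℕ} (hm : m < 8) : getG TR m = rm m := by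
  interval_cases m <;> rfl

theorem codes_rm {m : ℕ} (hm : m < 8) : Codes 112 (rho (rm m)) (get (F2Mat.one 112) LR m) := by
  have h := codes_get hR m
  rwa [getG_map, getG_TR hm] at h

theorem henv {m : ℕ} (hm : m < 8) {u : 𝒢} {A : ℕ} (hA : Codes 112 (rho u) A) :
    List.Forall₂ (Codes 112) ((u :: rm m :: L0).map rho) (env m A) :=
  .cons hA (.cons (codes_rm hm) hL)

theorem rel_sound {a m : ℕ} (hm : m < 8) {f u : 𝒢} {A : ℕ} (hA : Codes 112 (rho u) A)
    (hf : getG (u :: rm m :: L0) a = f) (hf' : getG (u :: rm m :: L0) (a + 1) = f⁻¹)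
    (hq : Quad f yy (rm m) u) {b : Bool} (h : rel a m A b = true) : b = true := by
  unfold rel at h
  have h1 : Nat.beq A (get (F2Mat.one 112) LR m) = false := by
    rcases hb : Nat.beq A (get (F2Mat.one 112) LR m) with _ | _
    · rfl
    · exfalso
      exact hq.ne (rho_injective (Codes.eq (codes_rm hm) hA (by
        rw [Nat.eq_of_beq_eq_true hb]; exact Nat.beq_refl _)))
  have h2 : Nat.beq (evW 112 (env m A) r1) (evW 112 (env m A) []) = true := by
    apply beq_of (henv hm hA)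
    have h3 := hq.tu
    simp only [r1, evG_cons, evG_nil, mul_one]
    rw [← h3]
    simp only [mul_assoc]
    rfl
  have h3 : Nat.beq (evW 112 (env m A) (r2 a)) (evW 112 (env m A) []) = true := by
    apply beq_of (henv hm hA)
    have h3 := hq.tfu
    simp only [r2, evG_cons, evG_nil, mul_one, hf, hf']
    rw [← h3]
    simp only [mul_assoc]
    rfl
  rw [h1, h2, h3] at h
  exact h


/-! ### The first type -/

theorem comm_w {a b : List ℕ} (h : Nat.beq (evW 112 LM (a ++ b)) (evW 112 LM (b ++ a)) = true) :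
    evG L0 a * evG L0 b = evG L0 b * evG L0 a := by
  rw [← evG_append', ← evG_append']
  exact eq_w h

/-- the involution commuting with `f1`, `y0`, `rm 0` -/
noncomputable def x0 : 𝒢 := evG L0 wx0

theorem x0_f1 : x0 * f1 = f1 * x0 := by
  have h := comm_w (a := wx0) (b := [0]) (by decide +kernel)
  rw [show evG L0 [0] = f1 by rw [evG_cons, evG_nil, mul_one]; rfl] at h
  exact h

theorem x0_y0 : x0 * yy = yy * x0 := by
  have h := comm_w (a := wx0) (b := [9]) (by decide +kernel)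
  rw [show evG L0 [9] = yy by rw [evG_cons, evG_nil, mul_one]; rfl] at h
  exact h

theorem x0_rm : x0 * rm 0 = rm 0 * x0 := comm_w (a := wx0) (b := rw0) (by decide +kernel)

theorem x0_ne_one : x0 ≠ 1 := ne_w (w := wx0) (v := []) x0_ne

theorem no_one (hcard : Nat.card {t // TY t} ≤ 10296) {M S : Subgroup 𝒢} {t u : 𝒢}
    (h : Cf M S f1 t u) : False := by
  have := finite_J4
  obtain ⟨m, hm, c, hc1, hc2, hc3⟩ := sol1 hcard h.tyt h.q.ft
  have h' := h.conj hc1 hc2
  rw [hc3] at h'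
  obtain ⟨hu, -⟩ := sol1' hcard h'.tyu h'.q.fu
  obtain ⟨p, hp, hu2⟩ := List.mem_flatMap.1 hu
  have hm' : m ∈ [0, 1, 2, 3] := by
    have : m = 0 ∨ m = 1 ∨ m = 2 ∨ m = 3 := by omega
    simpa using this
  obtain ⟨A, hA, hT⟩ := Piece.chk_sound hC1 hC1i hR (c1_ok m hm' p hp) (rho (c * u * c⁻¹))
    (by rw [Piece.vis_map]; exact List.mem_map_of_mem hu2)
  have hb := rel_sound (a := 2) (by omega) hA rfl rfl h'.q hT
  rcases hm0 : Nat.beq m 0 with _ | _
  · rw [hm0] at hb
    exact absurd hb Bool.false_ne_true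
  · rw [hm0] at hb
    have e0 := Nat.eq_of_beq_eq_true hm0
    subst e0
    have e1 := eq_of_beq (henv (m := 0) (by norm_num) hA) hb
    have e2 : x0 * (c * u * c⁻¹) = (c * u * c⁻¹) * x0 := by
      have e3 : evG (c * u * c⁻¹ :: rm 0 :: L0) [6, 8, 7, 7, 8, 6, 0] = x0 * (c * u * c⁻¹) := by
        unfold x0 wx0
        simp only [evG_cons, evG_nil, mul_one, mul_assoc]
        rfl
      have e4 : evG (c * u * c⁻¹ :: rm 0 :: L0) [0, 6, 8, 7, 7, 8, 6] = (c * u * c⁻¹) * x0 := by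
        unfold x0 wx0
        simp only [evG_cons, evG_nil, mul_one]
        rfl
      rw [← e3, ← e4]
      exact e1
    exact x0_ne_one (h'.eq_one x0_f1 x0_y0 x0_rm e2)


/-! ### The second type: vectors -/

/-- the stabilizer of a row vector -/
noncomputable def stab (v : ℕ) : Subgroup 𝒢 where
  carrier := {x | ac (tv v) x = tv v}
  one_mem' := ac_one _
  mul_mem' := by
    intro a b ha hb
    show ac (tv v) (a * b) = tv v
    rw [ac_mul, show ac (tv v) a = tv v from ha]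
    exact hb
  inv_mem' := by
    intro a ha
    exact ac_inv ha

theorem mem_stab {v : ℕ} {x : 𝒢} : x ∈ stab v ↔ ac (tv v) x = tv v := Iff.rfl

theorem fix_of {w : List ℕ} {v : ℕ} (h : vword LM w v = v) : evG L0 w ∈ stab v := by
  rw [mem_stab, vword_sound hL, h]

theorem w1_lt : w1 < 2 ^ 112 := by decide +kernel
theorem w3_lt : w3 < 2 ^ 112 := by decide +kernel

theorem ne_of {w w' : List ℕ} {v : ℕ} (hv : v < 2 ^ 112) (h : vword LM w v ≠ vword LM w' v) :
    ac (tv v) (evG L0 w) ≠ ac (tv v) (evG L0 w') := by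
  rw [vword_sound hL, vword_sound hL]
  intro e
  exact h (F2Mat.toVec_inj (vword_lt hv) (vword_lt hv) e)

/-! ### The orbit of `w1` under `I2` -/

theorem exists_orb : ∀ i < 120, ∃ x ∈ I2, ac (tv w1) x = tv (VO.getD i 0) := by
  obtain ⟨L', h', hk⟩ := run_sound codes_gens check_orb
  have h'' : List.Forall₂ (Codes 112) (Cfsg.Agent.H868.JM.LF.map rho) L' := by
    rw [Cfsg.Agent.H868.JM.map_LF]; exact h'
  rw [force_eq, force_eq] at hk
  have hA := codes_evW h'' [7, 14, 6]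
  have hB := codes_evW h'' [7, 40, 6]
  rw [evG_map] at hA hB
  set A := evW 112 L' [7, 14, 6] with hAd
  set B := evW 112 L' [7, 40, 6] with hBd
  have eA : evG Cfsg.Agent.H868.JM.LF [7, 14, 6] = g2 * (Elem.f * g2⁻¹) := by
    rw [Cfsg.Agent.H868.JM.LF_eq]
    simp only [evG_cons, evG_nil, mul_one]
    rw [Elem.f_eq]
    rfl
  have eB : evG Cfsg.Agent.H868.JM.LF [7, 40, 6] = g2 * (t * g2⁻¹) := by
    rw [Cfsg.Agent.H868.JM.LF_eq]
    simp only [evG_cons, evG_nil, mul_one]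
    rfl
  have mA : g2 * (Elem.f * g2⁻¹) ∈ I2 := ⟨Elem.f, Loc7.f_mem, by
    show g2 * Elem.f * g2⁻¹ = _
    rw [mul_assoc]⟩
  have mB : g2 * (t * g2⁻¹) ∈ I2 := ⟨t, Loc7.t_mem, by
    show g2 * t * g2⁻¹ = _
    rw [mul_assoc]⟩
  rw [eA] at hA
  rw [eB] at hB
  unfold chkO at hk
  rw [List.all_eq_true] at hk
  intro i
  induction i using Nat.strong_induction_on with
  | _ i ih =>
    intro hi
    rcases i with _ | i
    · exact ⟨1, Subgroup.one_mem _, by rw [ac_one, VO_zero]⟩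
    · have h1 := tree_lt i (by omega)
      obtain ⟨x, hx, h2⟩ := ih (tree.getD i (0, 0)).1 (by omega) (by omega)
      have h3 := Nat.eq_of_beq_eq_true (hk i (List.mem_range.2 (by omega)))
      by_cases h0 : (tree.getD i (0, 0)).2 = 0
      · rw [if_pos h0] at h3
        refine ⟨x * (g2 * (Elem.f * g2⁻¹)), Subgroup.mul_mem _ hx mA, ?_⟩
        rw [ac_mul, h2, ac_code' hA, h3]
      · rw [if_neg h0] at h3
        refine ⟨x * (g2 * (t * g2⁻¹)), Subgroup.mul_mem _ hx mB, ?_⟩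
        rw [ac_mul, h2, ac_code' hB, h3]

/-- **the stabilizer of `w1` in `I2` is trivial** -/
theorem I2_stab {x : 𝒢} (hx : x ∈ I2) (hs : x ∈ stab w1) : x = 1 := by
  have := finite_J4
  choose g hg1 hg2 using exists_orb
  let F : Fin 120 → I2 := fun i => ⟨g i i.2, hg1 i i.2⟩
  have hF : Function.Injective F := by
    intro i j hij
    have h1 : g i i.2 = g j j.2 := congrArg Subtype.val hij
    have h2 : tv (VO.getD i 0) = tv (VO.getD j 0) := by
      rw [← hg2 i i.2, ← hg2 j j.2, h1]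
    have h3 := F2Mat.toVec_inj (VO_lt i i.2) (VO_lt j j.2) h2
    have hl := VO_length
    have hi : (i : ℕ) < VO.length := by rw [hl]; exact i.2
    have hj : (j : ℕ) < VO.length := by rw [hl]; exact j.2
    rw [List.getD_eq_getElem _ _ hi, List.getD_eq_getElem _ _ hj] at h3
    exact Fin.ext ((List.Nodup.getElem_inj_iff VO_nodup).1 h3)
  have hb : Function.Bijective F := by
    have : Finite I2 := inferInstance
    refine (Nat.bijective_iff_injective_and_card F).2 ⟨hF, ?_⟩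
    rw [Cfsg.Agent.H868.JM.card_I2, Nat.card_eq_fintype_card, Fintype.card_fin]
  have key : ∀ y : 𝒢, ∀ hy : y ∈ I2, y ∈ stab w1 → y = g 0 (by norm_num) := by
    intro y hy hy2
    obtain ⟨i, hi⟩ := hb.2 ⟨y, hy⟩
    have h1 : g i i.2 = y := congrArg Subtype.val hi
    have h2 : tv (VO.getD i 0) = tv (VO.getD 0 0) := by
      rw [← hg2 i i.2, h1, VO_zero]; exact hy2
    have h3 := F2Mat.toVec_inj (VO_lt i i.2) (VO_lt 0 (by norm_num)) h2
    have hl := VO_length
    have hi' : (i : ℕ) < VO.length := by rw [hl]; exact i.2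
    have hj : 0 < VO.length := by rw [hl]; norm_num
    rw [List.getD_eq_getElem _ _ hi', List.getD_eq_getElem _ _ hj] at h3
    have h4 := (List.Nodup.getElem_inj_iff VO_nodup).1 h3
    rw [← h1]
    congr 1
  rw [key x hx hs, ← key 1 (Subgroup.one_mem _) (Subgroup.one_mem _)]


/-! ### The second type: the group -/

/-- Sylow 7-subgroups of a group of order 20160 -/
theorem sylow7 {S : Subgroup 𝒢} (hc : Nat.card S = 20160) {x x' : 𝒢} (hx : x ∈ S) (hx' : x' ∈ S)
    (ho : orderOf x = 7) (ho' : orderOf x' = 7) :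
    ∃ a ∈ S, a * x' * a⁻¹ ∈ Subgroup.zpowers x := by
  have := finite_J4
  have hp : Fact (Nat.Prime 7) := ⟨by norm_num⟩
  have h1 : Nat.card (Subgroup.zpowers (⟨x', hx'⟩ : S)) = 7 := by
    rw [Nat.card_zpowers, Subgroup.orderOf_mk, ho']
  have h2 : Nat.card (Subgroup.zpowers (⟨x, hx⟩ : S)) = 7 := by
    rw [Nat.card_zpowers, Subgroup.orderOf_mk, ho]
  obtain ⟨a, ha⟩ := Abs.exists_conj_prime h1 h2 (by rw [hc]; norm_num)
  refine ⟨a, a.2, ?_⟩
  have h3 : a * ⟨x', hx'⟩ * a⁻¹ ∈ Subgroup.zpowers (⟨x, hx⟩ : S) := by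
    rw [← ha]
    exact ⟨⟨x', hx'⟩, Subgroup.mem_zpowers _, rfl⟩
  obtain ⟨k, hk⟩ := Subgroup.mem_zpowers_iff.1 h3
  exact Subgroup.mem_zpowers_iff.2 ⟨k, by
    have := congrArg Subtype.val hk
    simpa only [SubgroupClass.coe_zpow, Subgroup.coe_mul, InvMemClass.coe_inv] using this⟩

theorem e_f2 : evG L0 [2] = f2 := by rw [evG_cons, evG_nil, mul_one]; rfl
theorem e_y : evG L0 [9] = yy := by rw [evG_cons, evG_nil, mul_one]; rfl
theorem e_c6 : evG L0 [7, 7] = c6 ^ 2 := by
  rw [pow_two]; simp only [evG_cons, evG_nil, mul_one]; rfl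
theorem e_c63 : evG L0 [7, 7, 7] = c6 ^ 3 := by
  rw [pow_succ, pow_two]; simp only [evG_cons, evG_nil, mul_one, mul_assoc]; rfl

theorem final {m : ℕ} (hm : m = 4 ∨ m = 5) {M S : Subgroup 𝒢} {u : 𝒢} (h : Cf M S f2 (rm m) u)
    (h1 : u ∈ stab w1) (h3 : u ∈ stab w3) : False := by
  have := finite_J4
  -- the facts on vectors
  obtain ⟨a1, a2, a4, a5⟩ := v_w1
  obtain ⟨b1, b2, b4, b5, b6, b7⟩ := v_w3
  have r1 : rm m ∈ stab w1 := by
    rcases hm with rfl | rfl
    · exact fix_of (w := rw4) a4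
    · exact fix_of (w := rw5) a5
  have r3 : rm m ∈ stab w3 := by
    rcases hm with rfl | rfl
    · exact fix_of (w := rw4) b4
    · exact fix_of (w := rw5) b5
  have hc6 : ac (tv w3) (c6 ^ 2 * rm m) ≠ ac (tv w3) (c6 ^ 2) := by
    rcases hm with rfl | rfl
    · have := ne_of w3_lt v_c6.1
      rwa [evG_append', e_c6] at this
    · have := ne_of w3_lt v_c6.2
      rwa [evG_append', e_c6] at this
  have hz1 : ac (tv w1) (evG L0 wz * rm m) ≠ ac (tv w1) (evG L0 wz) := by
    rcases hm with rfl | rfl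
    · have := ne_of w1_lt v_z.1
      rwa [evG_append'] at this
    · have := ne_of w1_lt v_z.2
      rwa [evG_append'] at this
  have hz3 : evG L0 wz ∈ stab w3 := fix_of b7
  have f2w1 : f2 ∈ stab w1 := by rw [← e_f2]; exact fix_of a1
  have f2w3 : f2 ∈ stab w3 := by rw [← e_f2]; exact fix_of b1
  have yw1 : yy ∈ stab w1 := by rw [← e_y]; exact fix_of a2
  have yw3 : yy ∈ stab w3 := by rw [← e_y]; exact fix_of b2
  have cw3 : c6 ^ 3 ∈ stab w3 := by rw [← e_c63]; exact fix_of b6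
  have hS1 : S ≤ stab w1 := h.le f2w1 yw1 r1 h1
  have hS3 : S ≤ stab w3 := h.le f2w3 yw3 r3 h3
  have hnorm : ∀ g ∈ M, ∀ x ∈ S, g * x * g⁻¹ ∈ S := fun g hg x hx =>
    (Subgroup.mem_normalizer_iff.1 (h.nl.norm hg) x).1 hx
  -- an element `g` with `g (rm m) g⁻¹` fixing the vector `v`
  have hmove : ∀ (v : ℕ) (g : 𝒢), g * rm m * g⁻¹ ∈ stab v →
      ac (tv v) (g * rm m) = ac (tv v) g := by
    intro v g hg
    have e : g * rm m = (g * rm m * g⁻¹) * g := by group
    rw [e, ac_mul, mem_stab.1 hg]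
  have hc2 : c6 ^ 2 ∉ M := fun hc => hc6 (hmove w3 _ (hS3 (hnorm _ hc _ h.t_mem)))
  have key : M ≤ stab w3 := by
    intro g hg
    have o2 : orderOf f2 = 7 := Cfsg.Agent.H868.JM.orderOf_f2
    obtain ⟨a, ha, h4⟩ := sylow7 h.card h.f_mem (hnorm g hg _ h.f_mem) o2 (by
      rw [show g * f2 * g⁻¹ = MulAut.conj g f2 from rfl]
      exact (orderOf_injective (MulAut.conj g).toMonoidHom (MulAut.conj g).injective f2).trans o2)
    have h5 : a * g * f2 * (a * g)⁻¹ ∈ Subgroup.zpowers f2 := by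
      have e : a * g * f2 * (a * g)⁻¹ = a * (g * f2 * g⁻¹) * a⁻¹ := by group
      rw [e]; exact h4
    obtain ⟨b, hb, i, j, h6⟩ := Cfsg.Agent.H868.JM.norm_2 h5
    rw [y0_eq] at h6
    have hfM : f2 ∈ M := h.nl.le h.f_mem
    have hyM : yy ∈ M := h.nl.le h.y_mem
    have haM : a ∈ M := h.nl.le ha
    have hbM : b ∈ M := by
      have e : b = (f2 ^ i)⁻¹ * ((yy ^ j)⁻¹ * (a * g)) := by rw [h6]; group
      rw [e]
      exact M.mul_mem (M.inv_mem (M.pow_mem hfM i)) (M.mul_mem (M.inv_mem (M.pow_mem hyM j))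
        (M.mul_mem haM hg))
    have h7 : b * yy * b⁻¹ * yy⁻¹ = 1 := by
      apply I2_stab
      · have e : b * yy * b⁻¹ * yy⁻¹ = b * (yy * b⁻¹ * yy⁻¹) := by group
        rw [e]
        refine Subgroup.mul_mem _ hb ?_
        have := Cfsg.Agent.H868.JM.y0_I2 (Subgroup.inv_mem _ hb)
        rwa [y0_eq] at this
      · exact hS1 (S.mul_mem (hnorm b hbM _ h.y_mem) (S.inv_mem h.y_mem))
    have h8 : b * yy = yy * b := mul_inv_eq_iff_eq_mul.1 (mul_inv_eq_one.1 h7)
    have h9 : b ∈ Subgroup.zpowers c6 := by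
      rw [Cfsg.Agent.H868.JM.cent_2, y0_eq]
      exact ⟨Cfsg.Agent.H868.JM.I2_comm hb, h8⟩
    obtain ⟨k, hk⟩ := (Submonoid.mem_powers_iff _ _).1 (mem_powers_iff_mem_zpowers.2 h9)
    have c6m : ∀ n l : ℕ, n % 6 = l % 6 → c6 ^ n = c6 ^ l := by
      intro n l e
      rw [← Nat.div_add_mod n 6, ← Nat.div_add_mod l 6, e, pow_add, pow_add, pow_mul, pow_mul,
        Cfsg.Agent.H868.JM.c6_pow, one_pow, one_pow]
    have h10 : k % 3 = 0 := by
      by_contra hne
      have h11 : k % 3 = 1 ∨ k % 3 = 2 := by omega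
      rcases h11 with h11 | h11
      · apply hc2
        have e : c6 ^ 2 = b ^ 2 := by
          rw [← hk, ← pow_mul]; exact c6m _ _ (by omega)
        rw [e]; exact M.pow_mem hbM 2
      · apply hc2
        have e : c6 ^ 2 = b ^ 4 := by
          rw [← hk, ← pow_mul]; exact c6m _ _ (by omega)
        rw [e]; exact M.pow_mem hbM 4
    have hb3 : b ∈ stab w3 := by
      have e : b = (c6 ^ 3) ^ (k / 3) := by
        rw [← hk, ← pow_mul]; congr 1; omega
      rw [e]; exact Subgroup.pow_mem _ cw3 _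
    have e : g = a⁻¹ * (yy ^ j * (f2 ^ i * b)) := by rw [← h6]; group
    rw [e]
    exact Subgroup.mul_mem _ (Subgroup.inv_mem _ (hS3 ha)) (Subgroup.mul_mem _
      (Subgroup.pow_mem _ yw3 j) (Subgroup.mul_mem _ (Subgroup.pow_mem _ f2w3 i) hb3))
  have hne : stab w3 ≠ ⊤ := by
    intro ht
    apply hc6
    have e1 : c6 ^ 2 * rm m ∈ stab w3 := by rw [ht]; exact Subgroup.mem_top _
    have e2 : c6 ^ 2 ∈ stab w3 := by rw [ht]; exact Subgroup.mem_top _
    rw [mem_stab.1 e1, mem_stab.1 e2]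
  have hM : M = stab w3 := by
    rcases key.eq_or_lt with h4 | h4
    · exact h4
    · exact absurd (h.nl.coatom.2 _ h4) hne
  have hzM : evG L0 wz ∈ M := by rw [hM]; exact hz3
  exact hz1 (hmove w1 _ (hS1 (hnorm _ hzM _ h.t_mem)))

theorem no_two (hcard : Nat.card {t // TY t} ≤ 10296) {M S : Subgroup 𝒢} {t u : 𝒢}
    (h : Cf M S f2 t u) : False := by
  have := finite_J4
  obtain ⟨m, hm4, hm8, c, hc1, hc2, hc3⟩ := sol2 hcard h.tyt h.q.ft
  have h' := h.conj hc1 hc2
  rw [hc3] at h'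
  obtain ⟨hu, -⟩ := sol2' hcard h'.tyu h'.q.fu
  obtain ⟨p, hp, hu2⟩ := List.mem_flatMap.1 hu
  have hm' : m ∈ [4, 5, 6, 7] := by
    have : m = 4 ∨ m = 5 ∨ m = 6 ∨ m = 7 := by omega
    simpa using this
  obtain ⟨A, hA, hT⟩ := Piece.chk_sound hC2 hC2i hR (c2_ok m hm' p hp) (rho (c * u * c⁻¹))
    (by rw [Piece.vis_map]; exact List.mem_map_of_mem hu2)
  have hb := rel_sound (a := 4) hm8 hA rfl rfl h'.q hT
  rcases h5 : Nat.ble m 5 with _ | _
  · rw [h5] at hb
    exact absurd hb Bool.false_ne_true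
  · rw [h5] at hb
    have h6 : m ≤ 5 := Nat.le_of_ble_eq_true h5
    rcases h7 : Nat.beq (vmul 112 w1 A) w1 with _ | _
    · rw [h7] at hb
      exact absurd hb Bool.false_ne_true
    · rw [h7] at hb
      have h8 := Nat.eq_of_beq_eq_true hb
      have h9 := Nat.eq_of_beq_eq_true h7
      refine final (m := m) (by omega) h' ?_ ?_
      · rw [mem_stab, ac_code' hA, h9]
      · rw [mem_stab, ac_code' hA, h8]

/-! ### The result -/

theorem quad_inv {f y t u : 𝒢} (h : Quad f⁻¹ y t u) : Quad f y u t := by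
  have hti : t⁻¹ = t := inv_eq_of_mul_eq_one_left h.tt
  have hui : u⁻¹ = u := inv_eq_of_mul_eq_one_left h.uu
  have e3 : ∀ v : 𝒢, v⁻¹ = v → f⁻¹ * v * (f⁻¹ * v) * (f⁻¹ * v) = 1 →
      f * v * (f * v) * (f * v) = 1 := by
    intro v hv h1
    have h2 : (f⁻¹ * v * (f⁻¹ * v) * (f⁻¹ * v))⁻¹ = 1 := by rw [h1, inv_one]
    simp only [mul_inv_rev, inv_inv, hv] at h2
    have h3 : f * v * (f * v) * (f * v) = v⁻¹ * (v * f * (v * f * (v * f))) * v := by group
    rw [h3]
    simp only [mul_assoc] at h2 ⊢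
    rw [← mul_assoc f v, ← mul_assoc f v] at h2
    calc v⁻¹ * (v * (f * (v * (f * (v * (f * v)))))) = v⁻¹ * (v * (f * (v * (f * (v * f))))) * v := by group
      _ = v⁻¹ * 1 * v := by
        congr 2
        rw [← h2]; group
      _ = 1 := by group
  refine ⟨?_, ?_, ?_, h.y3, h.uu, h.uy, e3 u hui h.fu, h.tt, h.ty, e3 t hti h.ft, h.ne.symm, ?_, ?_⟩
  · intro hf
    apply h.f1
    rw [hf, inv_one]
  · have h1 := h.f7
    rw [inv_pow, inv_eq_one] at h1
    exact h1
  · have h1 := congrArg (fun z => z⁻¹) h.yf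
    simp only [mul_inv_rev, inv_inv, inv_pow] at h1
    rw [← h1]; group
  · have h1 : (t * u * (t * u) * (t * u))⁻¹ = 1 := by rw [h.tu, inv_one]
    simp only [mul_inv_rev, hti, hui] at h1
    rw [← h1]; group
  · have h1 := h.tfu
    rw [inv_inv] at h1
    have h2 : u * f * t * f⁻¹ * (u * f * t * f⁻¹) * (u * f * t * f⁻¹) * (u * f * t * f⁻¹) =
        (u * f) * (t * f⁻¹ * u * f * (t * f⁻¹ * u * f) * (t * f⁻¹ * u * f) * (t * f⁻¹ * u * f)) *
          (u * f)⁻¹ := by group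
    rw [h2, h1]; group

/-- **`PSL₃(4)` is not the socle of a maximal subgroup of `J4`** -/
theorem excl (hcard : Nat.card {t // TY t} ≤ 10296) {F : Type} [Field F] [Fintype F]
    (hF : Fintype.card F = 4) : Excl (Matrix.ProjectiveSpecialLinearGroup (Fin 3) F) := by
  rintro M S hN ⟨e⟩
  obtain ⟨f', y', t', u', hq, hcl⟩ := exists_quad hF e
  have hc : Nat.card S = 20160 := by
    rw [Nat.card_congr e.toEquiv]
    exact Cfsg.Agent.CTwoTab.card_PSL_three F hF
  have hq' : Quad (f' : 𝒢) (y' : 𝒢) (t' : 𝒢) (u' : 𝒢) := hq.map S.subtype S.subtype_injective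
  have hcl' : S = Subgroup.closure {(f' : 𝒢), (y' : 𝒢), (t' : 𝒢), (u' : 𝒢)} := by
    have h1 := congrArg (Subgroup.map S.subtype) hcl
    rw [MonoidHom.map_closure, Set.image_insert_eq, Set.image_insert_eq, Set.image_insert_eq,
      Set.image_singleton, ← MonoidHom.range_eq_map, Subgroup.range_subtype] at h1
    exact h1.symm
  have h7 : Fact (Nat.Prime 7) := ⟨by norm_num⟩
  have ho : orderOf (f' : 𝒢) = 7 := orderOf_eq_prime hq'.f7 hq'.f1
  obtain ⟨g, hg1, hg2⟩ := Cfsg.Agent.H868.JM.seven_three ho hq'.y3 hq'.yf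
  rw [y0_eq] at hg1
  have hN' := NL_cj g hN
  have hc' : Nat.card (cj g S) = 20160 := by rw [Cfsg.Agent.H860.JM.card_cj, hc]
  have hQ := quad_conj hq' g
  have hC : cj g S = Subgroup.closure {g * (f' : 𝒢) * g⁻¹, yy, g * (t' : 𝒢) * g⁻¹,
      g * (u' : 𝒢) * g⁻¹} := by
    have h1 := congrArg (cj g) hcl'
    rw [cj_closure, hg1] at h1
    exact h1
  rw [hg1] at hQ
  have hswap : ∀ f : 𝒢, g * (f' : 𝒢) * g⁻¹ = f⁻¹ → Cf (cj g M) (cj g S) f (g * (u' : 𝒢) * g⁻¹)
      (g * (t' : 𝒢) * g⁻¹) := by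
    intro f hf
    rw [hf] at hQ hC
    refine ⟨hN', hc', quad_inv hQ, ?_⟩
    rw [hC]
    apply le_antisymm
    · rw [Subgroup.closure_le]
      rintro x (rfl | rfl | rfl | rfl)
      · exact Subgroup.inv_mem _ (Subgroup.subset_closure (by simp only [Set.mem_insert_iff, Set.mem_singleton_iff, true_or]))
      · exact Subgroup.subset_closure (by simp only [Set.mem_insert_iff, Set.mem_singleton_iff, true_or, or_true])
      · exact Subgroup.subset_closure (by simp only [Set.mem_insert_iff, mul_left_inj, mul_right_inj, SetLike.coe_eq_coe,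
          Set.mem_singleton_iff, or_true])
      · exact Subgroup.subset_closure (by simp only [Set.mem_insert_iff, Set.mem_singleton_iff, mul_left_inj, mul_right_inj,
          SetLike.coe_eq_coe, true_or, or_true])
    · rw [Subgroup.closure_le]
      rintro x (rfl | rfl | rfl | rfl)
      · have h1 : x⁻¹ ∈ Subgroup.closure {x⁻¹, yy, g * (t' : 𝒢) * g⁻¹, g * (u' : 𝒢) * g⁻¹} :=
          Subgroup.subset_closure (by simp only [Set.mem_insert_iff, Set.mem_singleton_iff, true_or])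
        have h2 := Subgroup.inv_mem _ h1
        rwa [inv_inv] at h2
      · exact Subgroup.subset_closure (by simp only [Set.mem_insert_iff, Set.mem_singleton_iff, true_or, or_true])
      · exact Subgroup.subset_closure (by simp only [Set.mem_insert_iff, mul_left_inj, mul_right_inj, SetLike.coe_eq_coe,
          Set.mem_singleton_iff, or_true])
      · exact Subgroup.subset_closure (by simp only [Set.mem_insert_iff, Set.mem_singleton_iff, mul_left_inj, mul_right_inj,
          SetLike.coe_eq_coe, true_or, or_true])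
  rcases hg2 with h1 | h1 | h1 | h1
  · rw [h1] at hQ hC
    exact no_one hcard ⟨hN', hc', hQ, hC⟩
  · exact no_one hcard (hswap f1 h1)
  · rw [h1] at hQ hC
    exact no_two hcard ⟨hN', hc', hQ, hC⟩
  · exact no_two hcard (hswap f2 h1)

end Cfsg.Agent.H868.JM.L34
end

-- part: H265/JM/L223Check
section
/-!
# Words for the subgroups `L₂(23)` of the fourth Janko group (helper265)

Straight line program computing, from `x, y, y⁻¹, t`: the elements `u`, `h`, `w` of `H859.PGLWords`, an involution `v` of the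
subgroup `M₂₄`, `H = h²`, `z = h¹¹` and `k = w v z` (of order 11, commuting with `H`), together with the products
`u w H^i`, `k^j`, `k^j z`; the relations and non-relations are checked in the 112-dimensional representation.
-/

set_option autoImplicit false

namespace Cfsg.Agent.H265.JM.L223

open Cfsg.Agent.Lib.F2MatGroup Cfsg.Agent.J4.Rep112

/-- the additional words -/
def extra : List (List ℕ) := [
  [7, 9, 7, 9, 7, 8, 7, 9, 7, 9, 7, 9, 7, 9, 7, 8, 7, 9, 7, 9, 7, 8, 7, 9, 7, 8, 7, 8, 7, 9, 7, 8, 7, 8, 7, 8, 7, 8, 7, 9, 7, 8, 7, 8, 7],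
  [8, 10, 8, 9, 8, 9, 8, 10, 8, 10, 8, 10, 8, 10, 8, 10, 8, 9, 8, 9, 8, 9, 8, 9, 8, 9, 8, 10, 8, 10, 8, 9, 8, 9, 8, 9, 8, 10, 8, 10, 8, 9, 8, 9, 8, 9, 8, 9, 8, 10, 8],
  [0, 0, 0, 0, 0, 4],
  [3, 2, 0],
  [8, 4],
  [0, 3],
  [0, 4],
  [0, 5],
  [0, 6],
  [0, 7],
  [0, 8],
  [0, 9],
  [0, 10],
  [0, 11],
  [0, 12],
  [],
  [0, 12],
  [0, 13],
  [0, 14],
  [0, 15],
  [0, 16],
  [0, 17],
  [0, 18],
  [0, 19],
  [0, 20],
  [0, 21],
  [10, 23],
  [10, 24],
  [10, 25],
  [10, 26],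
  [10, 27],
  [10, 28],
  [10, 29],
  [10, 30],
  [10, 31],
  [10, 32],
  [10, 33]]

/-- the program -/
def slp : List (List ℕ) := Cfsg.Agent.H859.PGLWords.slp ++ extra

/-- a word for `H` in `x, y, y⁻¹` -/
def wH : List ℕ := [44, 46, 44, 45, 44, 45, 44, 46, 44, 46, 44, 46, 44, 46, 44, 46, 44, 45, 44, 45, 44, 45, 44, 45, 44, 45, 44, 46, 44, 46, 44, 45, 44, 45, 44, 45, 44, 46, 44, 46, 44, 45, 44, 45, 44, 45, 44, 45, 44, 46, 44]

/-- a word for `v` in `x, y, y⁻¹` -/
def wv : List ℕ := [44, 46, 44, 46, 44, 45, 44, 46, 44, 46, 44, 46, 44, 46, 44, 45, 44, 46, 44, 46, 44, 45, 44, 46, 44, 45, 44, 45, 44, 46, 44, 45, 44, 45, 44, 45, 44, 45, 44, 46, 44, 45, 44, 45, 44]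

/-- the index of `k ^ j * z ^ e` -/
def dix (j e : ℕ) : ℕ := if e = 0 then 21 - j else 10 - j

/-- the relations -/
def rels : List (List ℕ × List ℕ) := [
  ([41], [44, 45]),
  (List.replicate 23 41, []),
  (List.replicate 22 39, []),
  ([39, 41], List.replicate 19 41 ++ [39]),
  ([35], [39, 39]),
  ([37, 37], []),
  ([37, 39, 37, 39], []),
  ([33, 35], [35, 33]),
  (List.replicate 11 33, []),
  ([34, 33, 34, 33], []),
  ([34], List.replicate 11 39),
  ([37, 33], [33, 37]),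
  ([36], [37, 33, 34]),
  ([35], wH),
  ([36], wv)] ++
  ((List.range 11).map fun i => ([32 - i], [41, 37] ++ List.replicate i 35)) ++
  ((List.range 11).map fun j => ([21 - j], List.replicate j 33)) ++
  ((List.range 11).map fun j => ([10 - j], List.replicate j 33 ++ [34]))

/-- the three exceptions -/
def exc (i j e : ℕ) : Bool := i == 0 && ((e == 0 && j == 0) || (e == 1 && (j == 1 || j == 10)))

/-- the exponents -/
def trip : List (ℕ × ℕ × ℕ) :=
  (List.range 11).flatMap fun i => (List.range 11).flatMap fun j => (List.range 2).map fun e => (i, j, e)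

/-- the words to be checked -/
def nl : List (List ℕ × List ℕ) :=
  (trip.filter fun p => !exc p.1 p.2.1 p.2.2).map fun p =>
    ([32 - p.1, dix p.2.1 p.2.2, 32 - p.1, dix p.2.1 p.2.2, 32 - p.1, dix p.2.1 p.2.2], [])

/-- the non-relations -/
def nrels : List (List ℕ × List ℕ) := [([41], []), ([33], []), ([34], []), ([35], [])] ++ nl

theorem check_all : check 112 codes slp rels nrels = true := by
  rw [Lib.F112.check_eq]
  decide +kernel

end Cfsg.Agent.H265.JM.L223
end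

-- part: H265/JM/L223Rel
section
/-!
# The group `23:22` and the centralizer of its elements of order 11 in `J4` (helper265)
-/

set_option autoImplicit false

namespace Cfsg.Agent.H265.JM.L223

open Cfsg Subgroup
open Cfsg.Agent.Lib.F2MatGroup Cfsg.Agent.J4.Rep112
open Cfsg.Agent.H859.PGLWords (check_J4 evG_append)
open Cfsg.Agent.J4.Pres
open Cfsg.Agent.H859

local notation "𝒢" => Cfsg.Spor.J4

instance finite_J4 : Finite 𝒢 := Cfsg.Agent.H858.FixJ4.facts.1

/-- the values of the program -/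
noncomputable def L : List 𝒢 := runG slp gens
/-- order 23 -/
noncomputable def u : 𝒢 := getG L 41
/-- order 22 -/
noncomputable def h : 𝒢 := getG L 39
/-- order 11, the square of `h` -/
noncomputable def H : 𝒢 := getG L 35
/-- involution -/
noncomputable def w : 𝒢 := getG L 37
/-- involution -/
noncomputable def v : 𝒢 := getG L 36
/-- order 11, commutes with `H` -/
noncomputable def k : 𝒢 := getG L 33
/-- involution, `h ^ 11` -/
noncomputable def z : 𝒢 := getG L 34

theorem eq_of {a b : List ℕ} (hh : (a, b) ∈ rels) : evG L a = evG L b := (check_J4 check_all).1 _ hh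
theorem ne_of {a b : List ℕ} (hh : (a, b) ∈ nrels) : evG L a ≠ evG L b := (check_J4 check_all).2 _ hh

theorem ev_pow (i n : ℕ) : evG L (List.replicate n i) = getG L i ^ n :=
  Cfsg.Agent.J4.Lower.evG_replicate L i n

theorem x_eq : getG L 44 = x := rfl
theorem y_eq : getG L 45 = y := rfl
theorem y_eq' : getG L 46 = y⁻¹ := rfl

theorem u_eq : u = x * y := by
  have := eq_of (a := [41]) (b := [44, 45]) (by decide +kernel)
  simp only [evG_cons, evG_nil, mul_one, x_eq, y_eq] at this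
  exact this

theorem u_pow : u ^ 23 = 1 := by
  have := eq_of (a := List.replicate 23 41) (b := []) (by decide +kernel)
  rwa [ev_pow, evG_nil] at this

theorem h_pow : h ^ 22 = 1 := by
  have := eq_of (a := List.replicate 22 39) (b := []) (by decide +kernel)
  rwa [ev_pow, evG_nil] at this

theorem h_u : h * u = u ^ 19 * h := by
  have := eq_of (a := [39, 41]) (b := List.replicate 19 41 ++ [39]) (by decide +kernel)
  simp only [evG_append, ev_pow, evG_cons, evG_nil, mul_one] at this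
  exact this

theorem H_eq : H = h * h := by
  have := eq_of (a := [35]) (b := [39, 39]) (by decide +kernel)
  simp only [evG_cons, evG_nil, mul_one] at this
  exact this

theorem w_w : w * w = 1 := by
  have := eq_of (a := [37, 37]) (b := []) (by decide +kernel)
  simp only [evG_cons, evG_nil, mul_one] at this
  exact this

theorem w_h : w * h * w * h = 1 := by
  have := eq_of (a := [37, 39, 37, 39]) (b := []) (by decide +kernel)
  simp only [evG_cons, evG_nil, mul_one, ← mul_assoc] at this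
  exact this

theorem k_H : k * H = H * k := by
  have := eq_of (a := [33, 35]) (b := [35, 33]) (by decide +kernel)
  simp only [evG_cons, evG_nil, mul_one] at this
  exact this

theorem k_pow : k ^ 11 = 1 := by
  have := eq_of (a := List.replicate 11 33) (b := []) (by decide +kernel)
  rwa [ev_pow, evG_nil] at this

theorem z_k : z * k * z * k = 1 := by
  have := eq_of (a := [34, 33, 34, 33]) (b := []) (by decide +kernel)
  simp only [evG_cons, evG_nil, mul_one, ← mul_assoc] at this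
  exact this

theorem z_eq : z = h ^ 11 := by
  have := eq_of (a := [34]) (b := List.replicate 11 39) (by decide +kernel)
  rw [ev_pow, evG_cons, evG_nil, mul_one] at this
  exact this

theorem w_k : w * k = k * w := by
  have := eq_of (a := [37, 33]) (b := [33, 37]) (by decide +kernel)
  simp only [evG_cons, evG_nil, mul_one] at this
  exact this

theorem v_eq : v = w * k * z := by
  have := eq_of (a := [36]) (b := [37, 33, 34]) (by decide +kernel)
  simp only [evG_cons, evG_nil, mul_one, ← mul_assoc] at this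
  exact this

theorem u_ne : u ≠ 1 := by
  have := ne_of (a := [41]) (b := []) (by decide +kernel)
  simp only [evG_cons, evG_nil, mul_one] at this
  exact this

theorem k_ne : k ≠ 1 := by
  have := ne_of (a := [33]) (b := []) (by decide +kernel)
  simp only [evG_cons, evG_nil, mul_one] at this
  exact this

theorem H_ne : H ≠ 1 := by
  have := ne_of (a := [35]) (b := []) (by decide +kernel)
  simp only [evG_cons, evG_nil, mul_one] at this
  exact this

/-- words in `x, y, y⁻¹` -/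
theorem word_mem {l : List ℕ} (hl : ∀ i ∈ l, i = 44 ∨ i = 45 ∨ i = 46) : evG L l ∈ phi.range := by
  rw [phi_range]
  have hx : x ∈ Subgroup.closure {x, y} := Subgroup.subset_closure (by simp)
  have hy : y ∈ Subgroup.closure {x, y} := Subgroup.subset_closure (by simp)
  induction l with
  | nil => rw [evG_nil]; exact one_mem _
  | cons i l ih =>
    rw [evG_cons]
    refine mul_mem ?_ (ih fun j hj => hl j (List.mem_cons_of_mem _ hj))
    rcases hl i List.mem_cons_self with rfl | rfl | rfl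
    · rw [x_eq]; exact hx
    · rw [y_eq]; exact hy
    · rw [y_eq']; exact inv_mem hy

theorem u_mem : u ∈ phi.range := by
  rw [u_eq, phi_range]
  exact mul_mem (Subgroup.subset_closure (by simp)) (Subgroup.subset_closure (by simp))

theorem H_mem : H ∈ phi.range := by
  have := eq_of (a := [35]) (b := wH) (by decide +kernel)
  rw [evG_cons, evG_nil, mul_one] at this
  change H = _ at this
  rw [this]
  exact word_mem (by decide +kernel)

theorem v_mem : v ∈ phi.range := by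
  have := eq_of (a := [36]) (b := wv) (by decide +kernel)
  rw [evG_cons, evG_nil, mul_one] at this
  change v = _ at this
  rw [this]
  exact word_mem (by decide +kernel)

theorem A_eq {i : ℕ} (hi : i < 11) : getG L (32 - i) = u * w * H ^ i := by
  have key : ∀ i < 11, ([32 - i], [41, 37] ++ List.replicate i 35) ∈ rels := by decide +kernel
  have := eq_of (key i hi)
  simp only [evG_append, ev_pow, evG_cons, evG_nil, mul_one] at this
  exact this

theorem D_eq {j e : ℕ} (hj : j < 11) (he : e < 2) : getG L (dix j e) = k ^ j * z ^ e := by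
  have he' : e = 0 ∨ e = 1 := by omega
  rcases he' with rfl | rfl
  · have key : ∀ i < 11, ([21 - i], List.replicate i 33) ∈ rels := by decide +kernel
    have := eq_of (key j hj)
    simp only [ev_pow, evG_cons, evG_nil, mul_one] at this
    rw [pow_zero, mul_one]
    exact this
  · have key : ∀ i < 11, ([10 - i], List.replicate i 33 ++ [34]) ∈ rels := by decide +kernel
    have := eq_of (key j hj)
    simp only [evG_append, ev_pow, evG_cons, evG_nil, mul_one] at this
    rw [pow_one]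
    exact this

/-- **the computation** -/
theorem ne_one {i j e : ℕ} (hi : i < 11) (hj : j < 11) (he : e < 2) (hx : exc i j e = false) :
    (u * w * H ^ i * (k ^ j * z ^ e)) ^ 3 ≠ 1 := by
  have hm : ([32 - i, dix j e, 32 - i, dix j e, 32 - i, dix j e], ([] : List ℕ)) ∈ nrels := by
    apply List.mem_append_right
    unfold nl
    refine List.mem_map.2 ⟨(i, j, e), List.mem_filter.2 ⟨?_, by rw [hx]; rfl⟩, rfl⟩
    unfold trip
    refine List.mem_flatMap.2 ⟨i, List.mem_range.2 hi, List.mem_flatMap.2 ⟨j, List.mem_range.2 hj, ?_⟩⟩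
    exact List.mem_map.2 ⟨e, List.mem_range.2 he, rfl⟩
  have := ne_of hm
  simp only [evG_cons, evG_nil, mul_one, A_eq hi, D_eq hj he] at this
  intro h3
  apply this
  rw [← h3, pow_succ, pow_two]
  simp only [mul_assoc]

/-! ### derived relations -/

theorem z_z : z * z = 1 := by
  rw [z_eq, ← pow_add, h_pow]

theorem z_inv : z⁻¹ = z := inv_eq_of_mul_eq_one_right z_z
theorem w_inv : w⁻¹ = w := inv_eq_of_mul_eq_one_right w_w

theorem H_eq' : H = h ^ 2 := by rw [H_eq, pow_two]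

theorem H_pow : H ^ 11 = 1 := by rw [H_eq', ← pow_mul, h_pow]

theorem z_H : z * H = H * z := by rw [z_eq, H_eq', ← pow_add, ← pow_add]

theorem w_h' : w * h * w⁻¹ = h⁻¹ := by
  rw [w_inv]
  exact eq_inv_of_mul_eq_one_left w_h

theorem w_hp (n : ℕ) : w * h ^ n * w⁻¹ = (h ^ n)⁻¹ := by
  rw [← conj_pow, w_h', inv_pow]

theorem w_H : w * H * w⁻¹ = H⁻¹ := by rw [H_eq']; exact w_hp 2

theorem w_z : w * z = z * w := by
  have h1 : w * z * w⁻¹ = z⁻¹ := by rw [z_eq]; exact w_hp 11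
  rw [z_inv, mul_inv_eq_iff_eq_mul] at h1
  exact h1

theorem z_k' : z * k * z⁻¹ = k⁻¹ := by
  rw [z_inv]
  exact eq_inv_of_mul_eq_one_left z_k

theorem h_u' : h * u * h⁻¹ = u ^ 19 := by rw [h_u, mul_inv_cancel_right]

theorem hp_u (n : ℕ) : h ^ n * u * (h ^ n)⁻¹ = u ^ (19 ^ n) := by
  induction n with
  | zero => simp only [pow_zero, one_mul, inv_one, mul_one, pow_one]
  | succ n ih =>
    have e : h ^ (n + 1) * u * (h ^ (n + 1))⁻¹ = h * (h ^ n * u * (h ^ n)⁻¹) * h⁻¹ := by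
      rw [pow_succ']; group
    rw [e, ih, ← conj_pow, h_u', ← pow_mul, pow_succ, mul_comm 19]

/-- exponents of `u` modulo 23 -/
theorem u_mod {a b : ℕ} (hab : a % 23 = b % 23) : u ^ a = u ^ b := by
  rw [← Nat.div_add_mod a 23, ← Nat.div_add_mod b 23, hab, pow_add, pow_add, pow_mul, pow_mul, u_pow,
    one_pow, one_pow]

theorem H_u : H * u = u ^ 16 * H := by
  have h1 := hp_u 2
  rw [← H_eq', u_mod (b := 16) (by norm_num), mul_inv_eq_iff_eq_mul] at h1
  exact h1

theorem H_up (n : ℕ) : H * u ^ n = u ^ (16 * n) * H := by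
  induction n with
  | zero => simp
  | succ n ih => rw [pow_succ, ← mul_assoc, ih, mul_assoc, H_u, ← mul_assoc, ← pow_add]; rfl

theorem z_u : z * u * z⁻¹ = u⁻¹ := by
  have h1 := hp_u 11
  rw [← z_eq, u_mod (b := 22) (by norm_num)] at h1
  rw [h1]
  exact eq_inv_of_mul_eq_one_left (by rw [← pow_succ, u_pow])

instance fact23 : Fact (Nat.Prime 23) := ⟨by norm_num⟩
instance fact11 : Fact (Nat.Prime 11) := ⟨by norm_num⟩

theorem orderOf_u : orderOf u = 23 := orderOf_eq_prime u_pow u_ne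
theorem orderOf_H : orderOf H = 11 := orderOf_eq_prime H_pow H_ne
theorem orderOf_k : orderOf k = 11 := orderOf_eq_prime k_pow k_ne

theorem card_zu : Nat.card (zpowers u) = 23 := by rw [Nat.card_zpowers, orderOf_u]

theorem isPGroup_zu : IsPGroup 23 (zpowers u) := Cfsg.Agent.H858.NormC.isPGroup_of_card card_zu

theorem not_dvd_zu : ¬ 23 ∣ (zpowers u).index :=
  Cfsg.Agent.H858.NormC.not_dvd_index card_zu (BigCent.sq_not_dvd (by simp))

/-- the elements commuting with `u` -/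
theorem cent_u {c : 𝒢} (hc : c * u = u * c) : ∃ n : ℕ, c = u ^ n := by
  classical
  have h1 := PrimeSub.centralizer_eq (by norm_num) card_zu (BigNum.data23 card_zu).1
  have h2 : c ∈ centralizer (zpowers u : Set 𝒢) := by
    rw [mem_centralizer_iff]
    intro y hy
    obtain ⟨n, rfl⟩ := hy
    exact ((Commute.zpow_right (show Commute c u from hc) n).eq).symm
  rw [h1, mem_zpowers_iff_mem_range_orderOf, Finset.mem_image] at h2
  obtain ⟨n, -, hn⟩ := h2
  exact ⟨n, hn.symm⟩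

/-- an element of odd order 11 with square one -/
theorem eq_one_of {a : 𝒢} (h2 : a * a = 1) (h11 : a ^ 11 = 1) : a = 1 := by
  have : a ^ 11 = (a * a) ^ 5 * a := by rw [← pow_two, ← pow_mul, ← pow_succ]
  rw [h2, one_pow, one_mul] at this
  rw [← this, h11]

/-- powers of `k` commuting with `z` -/
theorem kpow_eq_one {a : 𝒢} (ha : a ∈ zpowers k) (hz : z * a * z⁻¹ = a) : a = 1 := by
  obtain ⟨n, rfl⟩ := ha
  simp only at hz ⊢
  have h1 : z * k ^ n * z⁻¹ = (k ^ n)⁻¹ := by rw [← conj_zpow, z_k', inv_zpow]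
  apply eq_one_of
  · rw [← eq_inv_iff_mul_eq_one, ← h1, hz]
  · rw [← zpow_natCast, ← zpow_mul, mul_comm, zpow_mul, zpow_natCast, k_pow, one_zpow]

theorem disj {a : 𝒢} (ha : a ∈ zpowers k) (hb : a ∈ zpowers H) : a = 1 := by
  apply kpow_eq_one ha
  obtain ⟨n, rfl⟩ := hb
  have h1 : z * H ^ n = H ^ n * z := (Commute.zpow_right (show Commute z H from z_H) n).eq
  simp only
  rw [h1, mul_inv_cancel_right]

/-- the map to the centralizer of `H` -/
theorem map_inj {i j e i' j' e' : ℕ} (hi : i < 11) (hj : j < 11) (he : e < 2) (hi' : i' < 11) (hj' : j' < 11)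
    (he' : e' < 2) (heq : H ^ i * (k ^ j * z ^ e) = H ^ i' * (k ^ j' * z ^ e')) : i = i' ∧ j = j' ∧ e = e' := by
  have hkH : Commute k H := k_H
  have hk1 : ∀ i j : ℕ, Commute k (H ^ i * k ^ j) := fun i j =>
    (hkH.pow_right i).mul_right ((Commute.refl k).pow_right j)
  have hz : ¬ Commute k z := by
    intro hkz
    apply k_ne
    apply kpow_eq_one (mem_zpowers k)
    rw [hkz.eq.symm, mul_inv_cancel_right]
  have hee : e = e' := by
    by_contra hne
    apply hz
    rcases (show (e = 0 ∧ e' = 1) ∨ (e = 1 ∧ e' = 0) by omega) with ⟨rfl, rfl⟩ | ⟨rfl, rfl⟩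
    · rw [pow_zero, pow_one, mul_one, ← mul_assoc] at heq
      have h1 : z = (H ^ i' * k ^ j')⁻¹ * (H ^ i * k ^ j) := by rw [heq]; group
      rw [h1]
      exact (hk1 _ _).inv_right.mul_right (hk1 _ _)
    · rw [pow_zero, pow_one, mul_one, ← mul_assoc] at heq
      have h1 : z = (H ^ i * k ^ j)⁻¹ * (H ^ i' * k ^ j') := by rw [← heq]; group
      rw [h1]
      exact (hk1 _ _).inv_right.mul_right (hk1 _ _)
  subst hee
  have h1 : H ^ i * k ^ j = H ^ i' * k ^ j' := by
    rw [← mul_assoc, ← mul_assoc] at heq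
    exact mul_right_cancel heq
  have h2 : (H ^ i')⁻¹ * H ^ i = k ^ j' * (k ^ j)⁻¹ := by
    rw [eq_mul_inv_iff_mul_eq, mul_assoc, h1]; group
  have h3 : k ^ j' * (k ^ j)⁻¹ = 1 := by
    apply disj
    · exact mul_mem (pow_mem (mem_zpowers k) _) (inv_mem (pow_mem (mem_zpowers k) _))
    · rw [← h2]
      exact mul_mem (inv_mem (pow_mem (mem_zpowers H) _)) (pow_mem (mem_zpowers H) _)
  rw [h3] at h2
  rw [inv_mul_eq_one] at h2
  rw [mul_inv_eq_one] at h3
  refine ⟨?_, ?_, rfl⟩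
  · exact (pow_injOn_Iio_orderOf (x := H) (by rw [orderOf_H]; exact hi') (by rw [orderOf_H]; exact hi) h2).symm
  · exact (pow_injOn_Iio_orderOf (x := k) (by rw [orderOf_k]; exact hj') (by rw [orderOf_k]; exact hj) h3).symm

/-- the order of the centralizer of `H` -/
theorem card_cent_H : Nat.card (centralizer ({H} : Set 𝒢)) ≤ 242 := by
  obtain ⟨m, hm⟩ := H_mem
  have hmo : orderOf m = 11 := by
    rw [← orderOf_injective phi Cfsg.Agent.H858.VK.phi_injective, hm, orderOf_H]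
  have hi : ¬ 11 ∣ M24Eleven.F.index := M24Eleven.not_dvd_F
  obtain ⟨g, hg⟩ := SylEleven.exists_conj_mem M24Eleven.isPGroup_F hi (g := m)
    ⟨1, by rw [pow_one, ← hmo, pow_orderOf_eq_one]⟩
  have hgo : orderOf (g * m * g⁻¹) = 11 := by
    rw [← hmo]
    exact orderOf_injective (MulAut.conj g).toMonoidHom (MulAut.conj g).injective m
  have h1 : zpowers (g * m * g⁻¹) = M24Eleven.F := by
    apply Subgroup.eq_of_le_of_card_ge
    · rw [zpowers_le]; exact hg
    · rw [M24Eleven.card_F, Nat.card_zpowers, hgo]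
  have h2 : M24Eleven.f ∈ zpowers (g * m * g⁻¹) := by
    rw [h1]; exact mem_zpowers _
  have h3 : IsConj H (phi (g * m * g⁻¹)) := by
    rw [isConj_iff]
    exact ⟨phi g, by rw [← hm, map_mul, map_mul, map_inv]⟩
  rw [ClassEleven.card_centralizer_conj h3]
  refine le_trans ?_ CentEleven.card_centralizer_le
  apply Nat.card_le_card_of_injective _ (Subgroup.inclusion_injective (?_ : centralizer ({phi (g * m * g⁻¹)} : Set 𝒢) ≤
    centralizer {phi M24Eleven.f}))
  intro c hc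
  rw [mem_centralizer_singleton_iff] at hc ⊢
  obtain ⟨n, hn⟩ := h2
  simp only at hn
  rw [← hn, map_zpow]
  exact (Commute.zpow_right (show Commute c _ from hc) n).eq

/-- **the elements commuting with `H`** -/
theorem cent_H {c : 𝒢} (hc : c * H = H * c) : ∃ i j e : ℕ, i < 11 ∧ j < 11 ∧ e < 2 ∧ c = H ^ i * (k ^ j * z ^ e) := by
  have hmem : ∀ i j e : ℕ, H ^ i * (k ^ j * z ^ e) ∈ centralizer ({H} : Set 𝒢) := by
    intro i j e
    rw [mem_centralizer_singleton_iff]
    have h1 : Commute (H ^ i * (k ^ j * z ^ e)) H :=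
      ((Commute.refl H).pow_left i).mul_left (((show Commute k H from k_H).pow_left j).mul_left
        ((show Commute z H from z_H).pow_left e))
    exact h1.eq
  let f : Fin 11 × Fin 11 × Fin 2 → centralizer ({H} : Set 𝒢) := fun p => ⟨H ^ (p.1 : ℕ) * (k ^ (p.2.1 : ℕ) * z ^ (p.2.2 : ℕ)), hmem _ _ _⟩
  have hf : Function.Injective f := by
    rintro ⟨i, j, e⟩ ⟨i', j', e'⟩ hh
    have h1 := congrArg Subtype.val hh
    simp only [f] at h1
    obtain ⟨h2, h3, h4⟩ := map_inj i.2 j.2 e.2 i'.2 j'.2 e'.2 h1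
    rw [Prod.mk.injEq, Prod.mk.injEq]
    exact ⟨Fin.ext h2, Fin.ext h3, Fin.ext h4⟩
  have hb : Function.Bijective f := hf.bijective_of_nat_card_le (by
    refine card_cent_H.trans ?_
    simp)
  obtain ⟨⟨i, j, e⟩, hp⟩ := hb.2 ⟨c, mem_centralizer_singleton_iff.2 hc⟩
  exact ⟨i, j, e, i.2, j.2, e.2, (congrArg Subtype.val hp).symm⟩

end Cfsg.Agent.H265.JM.L223
end

-- part: H265/JM/L223
section
/-!
# S5580, Part III: one class of maximal subgroups of `J4` with socle `L₂(23)` (helper265)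
-/

set_option autoImplicit false

namespace Cfsg.Agent.H265.JM.L223

open Cfsg Subgroup
open Cfsg.Agent.J4.Rep112
open Cfsg.Agent.J4.Pres
open Cfsg.Agent.H859
open Cfsg.Agent.H860.JM (NL OneCl cj)

local notation "𝒢" => Cfsg.Spor.J4

instance simple_J4 : IsSimpleGroup 𝒢 := Cfsg.Agent.S1703.result.1

/-! ### conjugation into standard position -/

theorem dec1 : ∀ m < 23, m ≠ 0 → ∃ n < 22, 19 ^ n * m % 23 = 1 := by decide +kernel

theorem step1 {a : 𝒢} (h23 : a ^ 23 = 1) (h1 : a ≠ 1) : ∃ g : 𝒢, g * a * g⁻¹ = u := by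
  classical
  obtain ⟨g, hg⟩ := SylEleven.exists_conj_mem isPGroup_zu not_dvd_zu (g := a) ⟨1, by rw [pow_one, h23]⟩
  rw [mem_zpowers_iff_mem_range_orderOf, Finset.mem_image] at hg
  obtain ⟨m, hm, hm2⟩ := hg
  rw [orderOf_u, Finset.mem_range] at hm
  have hm0 : m ≠ 0 := by
    rintro rfl
    apply h1
    rw [pow_zero, eq_comm, mul_inv_eq_one] at hm2
    exact mul_left_cancel (hm2.trans (mul_one g).symm)
  obtain ⟨n, -, hn⟩ := dec1 m hm hm0
  refine ⟨h ^ n * g, ?_⟩
  have e : h ^ n * g * a * (h ^ n * g)⁻¹ = h ^ n * (g * a * g⁻¹) * (h ^ n)⁻¹ := by group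
  rw [e, ← hm2, ← conj_pow, hp_u, ← pow_mul, u_mod (b := 1) (by rw [hn]), pow_one]

theorem step2 {t : 𝒢} (ht : t * u * t⁻¹ = u ^ 16) : ∃ n : ℕ, u ^ n * t * (u ^ n)⁻¹ = H := by
  have h1 : (H⁻¹ * t) * u = u * (H⁻¹ * t) := by
    rw [mul_inv_eq_iff_eq_mul] at ht
    rw [mul_assoc, ht, ← mul_assoc, ← mul_assoc]
    congr 1
    rw [inv_mul_eq_iff_eq_mul, ← mul_assoc, H_u, mul_inv_cancel_right]
  obtain ⟨j, hj⟩ := cent_u h1
  have h2 : t = u ^ (16 * j) * H := by
    rw [inv_mul_eq_iff_eq_mul] at hj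
    rw [hj, H_up]
  refine ⟨21 * j, ?_⟩
  rw [mul_inv_eq_iff_eq_mul, H_up, h2, ← mul_assoc, ← pow_add]
  congr 1
  apply u_mod
  omega

theorem step3 {b : 𝒢} (hb : b * b = 1) (hbH : b * H * b⁻¹ = H⁻¹) (h3 : (u * b) ^ 3 = 1) :
    b = w ∨ b = v ∨ b = z * v * z⁻¹ := by
  have hbi : b⁻¹ = b := inv_eq_of_mul_eq_one_right hb
  have h1 : (w * b) * H = H * (w * b) := by
    rw [mul_inv_eq_iff_eq_mul] at hbH
    have h2 := w_H
    rw [mul_inv_eq_iff_eq_mul] at h2
    have h4 : w * H⁻¹ = H * w := by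
      rw [mul_inv_eq_iff_eq_mul, mul_assoc, h2, ← mul_assoc, mul_inv_cancel, one_mul]
    rw [mul_assoc, hbH, ← mul_assoc, h4, mul_assoc]
  obtain ⟨i, j, e, hi, hj, he, hc⟩ := cent_H h1
  have hb2 : b = w * (H ^ i * (k ^ j * z ^ e)) := by
    rw [← hc, ← mul_assoc, w_w, one_mul]
  have hx : exc i j e = true := by
    by_contra hx
    rw [Bool.not_eq_true] at hx
    apply ne_one hi hj he hx
    rw [← h3, hb2]
    simp only [mul_assoc]
  have hx2 : (i = 0 ∧ j = 0 ∧ e = 0) ∨ (i = 0 ∧ j = 1 ∧ e = 1) ∨ (i = 0 ∧ j = 10 ∧ e = 1) := by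
    unfold exc at hx
    simp only [Bool.and_eq_true, Bool.or_eq_true, beq_iff_eq] at hx
    omega
  rcases hx2 with ⟨rfl, rfl, rfl⟩ | ⟨rfl, rfl, rfl⟩ | ⟨rfl, rfl, rfl⟩
  · left
    rw [hb2, pow_zero, pow_zero, pow_zero, mul_one, mul_one, mul_one]
  · right; left
    rw [hb2, pow_zero, pow_one, pow_one, one_mul, v_eq, mul_assoc]
  · right; right
    rw [hb2, pow_zero, pow_one, one_mul, v_eq]
    have h5 : k ^ 10 = k⁻¹ := eq_inv_of_mul_eq_one_left (by rw [← pow_succ, k_pow])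
    have h6 : z * (w * k * z) * z⁻¹ = w * (z * k * z⁻¹) * z := by
      have h7 : z * w = w * z := w_z.symm
      calc z * (w * k * z) * z⁻¹ = z * w * k := by group
        _ = w * z * k := by rw [h7]
        _ = w * (z * k * z⁻¹) * z := by group
    rw [h6, z_k', h5, mul_assoc]

/-- the subgroup of `PGL₂(23)` -/
def SW : Subgroup 𝒢 := closure {u, H, w}
/-- the subgroup of `M₂₄` -/
def SV : Subgroup 𝒢 := closure {u, H, v}

theorem map_cl (g a b c : 𝒢) : cj g (closure {a, b, c}) = closure {g * a * g⁻¹, g * b * g⁻¹, g * c * g⁻¹} := by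
  change (closure {a, b, c}).map (MulAut.conj g).toMonoidHom = _
  rw [MonoidHom.map_closure]
  congr 1
  ext x
  simp only [MulEquiv.toMonoidHom_eq_coe, MonoidHom.coe_coe, MulAut.conj_apply, Set.mem_image, Set.mem_insert_iff, eq_comm,
      Set.mem_singleton_iff, exists_eq_or_imp', ↓existsAndEq, true_and]

theorem cj_cj (g g' : 𝒢) (S : Subgroup 𝒢) : cj g (cj g' S) = cj (g * g') S := by
  ext x
  simp only [Subgroup.mem_map, MulEquiv.toMonoidHom_eq_coe, MonoidHom.coe_coe, MulAut.conj_apply]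
  constructor
  · rintro ⟨y, ⟨s, hs, rfl⟩, rfl⟩
    exact ⟨s, hs, by group⟩
  · rintro ⟨s, hs, rfl⟩
    exact ⟨_, ⟨s, hs, rfl⟩, by group⟩

theorem cj_one (S : Subgroup 𝒢) : cj 1 S = S := by
  ext x
  simp only [Subgroup.mem_map, MulEquiv.toMonoidHom_eq_coe, MonoidHom.coe_coe, MulAut.conj_apply]
  constructor
  · rintro ⟨s, hs, rfl⟩
    simpa using hs
  · intro hx
    exact ⟨x, hx, by group⟩

/-- a subgroup `PSL₂(23)` is conjugate to one of two subgroups -/
theorem exists_cj {S : Subgroup 𝒢} {F : Type} [Field F] [Fintype F] (hF : Fintype.card F = 23)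
    (e : S ≃* Matrix.ProjectiveSpecialLinearGroup (Fin 2) F) : ∃ g : 𝒢, cj g S = SW ∨ cj g S = SV := by
  obtain ⟨-, a, t, b, h1, h2, h3, h4, h5, h6, h7⟩ := PslGens.exists_gens' hF e
  have hS : S = closure {(a : 𝒢), (t : 𝒢), (b : 𝒢)} := by
    have h8 : (closure {a, t, b}).map S.subtype = S := by
      rw [h7, ← MonoidHom.range_eq_map, Subgroup.range_subtype]
    rw [MonoidHom.map_closure] at h8
    refine h8.symm.trans ?_
    congr 1
    ext x
    simp only [subtype_apply, coe_subtype, Set.mem_image, Set.mem_insert_iff, eq_comm, Set.mem_singleton_iff,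
        exists_eq_or_imp', ↓existsAndEq, true_and]
  obtain ⟨g1, hg1⟩ := step1 (a := (a : 𝒢)) (by rw [← coe_pow, h2, coe_one]) (by
    intro h
    apply h1
    exact Subtype.ext h)
  have h3' : (t : 𝒢) * a * (t : 𝒢)⁻¹ = (a : 𝒢) ^ 16 := congrArg Subtype.val h3
  have h4' : (b : 𝒢) * b = 1 := congrArg Subtype.val h4
  have h5' : (b : 𝒢) * t * (b : 𝒢)⁻¹ = (t : 𝒢)⁻¹ := congrArg Subtype.val h5
  have h6' : ((a : 𝒢) * b) ^ 3 = 1 := congrArg Subtype.val h6
  have ht1 : (g1 * t * g1⁻¹) * u * (g1 * t * g1⁻¹)⁻¹ = u ^ 16 := by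
    rw [← hg1, conj_pow, ← h3']; group
  obtain ⟨n, hn⟩ := step2 ht1
  set g := u ^ n * g1 with hg
  have e1 : g * a * g⁻¹ = u := by
    have : g * a * g⁻¹ = u ^ n * (g1 * a * g1⁻¹) * (u ^ n)⁻¹ := by rw [hg]; group
    rw [this, hg1]; group
  have e2 : g * t * g⁻¹ = H := by
    have : g * t * g⁻¹ = u ^ n * (g1 * t * g1⁻¹) * (u ^ n)⁻¹ := by rw [hg]; group
    rw [this, hn]
  have e3 := step3 (b := g * b * g⁻¹)
    (by rw [show g * (b : 𝒢) * g⁻¹ * (g * b * g⁻¹) = g * (b * b) * g⁻¹ by group, h4']; group)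
    (by
      rw [← e2, show g * (b : 𝒢) * g⁻¹ * (g * t * g⁻¹) * (g * b * g⁻¹)⁻¹ = g * (b * t * (b : 𝒢)⁻¹) * g⁻¹ by group, h5']
      group)
    (by
      rw [← e1, show g * (a : 𝒢) * g⁻¹ * (g * b * g⁻¹) = g * (a * b) * g⁻¹ by group, conj_pow, h6']; group)
  rcases e3 with h8 | h8 | h8
  · refine ⟨g, Or.inl ?_⟩
    rw [hS, map_cl, e1, e2, h8, SW]
  · refine ⟨g, Or.inr ?_⟩
    rw [hS, map_cl, e1, e2, h8, SV]
  · refine ⟨z * g, Or.inr ?_⟩
    rw [hS, ← cj_cj, map_cl, e1, e2, h8, map_cl, SV, z_u]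
    have e4 : z * H * z⁻¹ = H := by rw [z_H, mul_inv_cancel_right]
    have e5 : z * (z * v * z⁻¹) * z⁻¹ = v := by
      rw [z_inv, show z * (z * v * z) * z = (z * z) * v * (z * z) by group, z_z]; group
    rw [e4, e5]
    apply le_antisymm
    · rw [closure_le]
      rintro x (rfl | rfl | rfl)
      · exact inv_mem (subset_closure (by simp))
      · exact subset_closure (by simp)
      · exact subset_closure (by simp)
    · rw [closure_le]
      rintro x (rfl | rfl | rfl)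
      · rw [← inv_inv u]
        exact inv_mem (subset_closure (by simp))
      · exact subset_closure (by simp)
      · exact subset_closure (by simp)

/-! ### the subgroup `SV` -/

theorem u_mem_SV : u ∈ SV := subset_closure (by simp)
theorem H_mem_SV : H ∈ SV := subset_closure (by simp)
theorem v_mem_SV : v ∈ SV := subset_closure (by simp)

theorem SV_le : SV ≤ phi.range := by
  rw [SV, closure_le]
  rintro x (rfl | rfl | rfl)
  · exact u_mem
  · exact H_mem
  · exact v_mem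

/-- the order of a group containing `H` and `k` -/
theorem not_k_mem {S : Subgroup 𝒢} (hS : Nat.card S = 6072) (hH : H ∈ S) (hk : k ∈ S) : False := by
  have hHk : ∀ a ∈ zpowers H, ∀ b ∈ zpowers k, Commute a b := by
    rintro _ ⟨m, rfl⟩ _ ⟨n, rfl⟩
    exact ((show Commute H k from k_H.symm).zpow_left m).zpow_right n
  let f : zpowers H × zpowers k →* S :=
    { toFun := fun p => ⟨p.1 * p.2, mul_mem ((zpowers_le.2 hH) p.1.2) ((zpowers_le.2 hk) p.2.2)⟩
      map_one' := by ext; simp only [Prod.fst_one, OneMemClass.coe_one, Prod.snd_one, mul_one]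
      map_mul' := by
        rintro ⟨a, b⟩ ⟨c, d⟩
        ext
        simp only [Prod.fst_mul, Prod.snd_mul, coe_mul]
        have h1 := (hHk c c.2 b b.2).eq
        calc (a : 𝒢) * c * (b * d) = a * (c * b) * d := by group
          _ = a * (b * c) * d := by rw [h1]
          _ = a * b * (c * d) := by group }
  have hf : Function.Injective f := by
    rw [injective_iff_map_eq_one]
    rintro ⟨a, b⟩ hab
    have h1 : (a : 𝒢) * b = 1 := congrArg Subtype.val hab
    have h2 : (b : 𝒢) = (a : 𝒢)⁻¹ := eq_inv_of_mul_eq_one_right h1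
    have h3 : (b : 𝒢) = 1 := disj b.2 (by rw [h2]; exact inv_mem a.2)
    have h4 : (a : 𝒢) = 1 := by rw [h3, mul_one] at h1; exact h1
    exact Prod.ext (Subtype.ext h4) (Subtype.ext h3)
  have h1 := Subgroup.card_dvd_of_injective f hf
  rw [Nat.card_prod, Nat.card_zpowers, Nat.card_zpowers, orderOf_H, orderOf_k, hS] at h1
  revert h1
  norm_num

theorem dec2 : ∀ m < 23, m ≠ 0 → ∃ n < 22, 19 ^ n % 23 = m := by decide +kernel

/-- the normalizer of `SV` is contained in `M₂₄` -/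
theorem normalizer_SV (hS : Nat.card SV = 6072) : normalizer (SV : Set 𝒢) ≤ phi.range := by
  classical
  intro n hn
  -- the Frattini argument
  have hu1 : n * u * n⁻¹ ∈ SV := (mem_normalizer_iff.1 hn u).1 u_mem_SV
  let U' : SV := ⟨u, u_mem_SV⟩
  have hU' : Nat.card (zpowers U') = 23 := by
    rw [Nat.card_zpowers, ← orderOf_u, ← Subgroup.orderOf_coe]
  have hi : ¬ 23 ∣ (zpowers U').index :=
    Cfsg.Agent.H858.NormC.not_dvd_index hU' (by rw [hS]; norm_num)
  obtain ⟨s, hs⟩ := SylEleven.exists_conj_mem (Cfsg.Agent.H858.NormC.isPGroup_of_card hU') hi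
    (g := (⟨n * u * n⁻¹, hu1⟩ : SV)) ⟨1, by
      ext
      rw [pow_one, coe_pow, conj_pow, u_pow]
      simp only [mul_one, mul_inv_cancel, OneMemClass.coe_one]⟩
  rw [mem_zpowers_iff_mem_range_orderOf, Finset.mem_image] at hs
  obtain ⟨m, hm, hm2⟩ := hs
  have hU2 : orderOf U' = 23 := by rw [← Nat.card_zpowers, hU']
  rw [hU2, Finset.mem_range] at hm
  have hm3 : u ^ m = s * (n * u * n⁻¹) * (s : 𝒢)⁻¹ := congrArg Subtype.val hm2
  have hm0 : m ≠ 0 := by
    rintro rfl
    apply u_ne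
    rw [pow_zero] at hm3
    have : u = (s * n)⁻¹ * (s * (n * u * n⁻¹) * (s : 𝒢)⁻¹) * (s * n) := by group
    rw [this, ← hm3]; group
  obtain ⟨b, -, hb⟩ := dec2 m hm hm0
  -- `h ^ b` has the same action
  have h1 : (h ^ b)⁻¹ * (s * n) * u = u * ((h ^ b)⁻¹ * (s * n)) := by
    have h2 := hp_u b
    rw [u_mod (b := m) (by rw [hb, Nat.mod_eq_of_lt hm]), hm3] at h2
    have h3 : h ^ b * u * (h ^ b)⁻¹ = (s * n) * u * (s * n)⁻¹ := by rw [h2]; group
    calc (h ^ b)⁻¹ * (s * n) * u = (h ^ b)⁻¹ * ((s * n) * u * (s * n)⁻¹) * (s * n) := by group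
      _ = (h ^ b)⁻¹ * (h ^ b * u * (h ^ b)⁻¹) * (s * n) := by rw [h3]
      _ = u * ((h ^ b)⁻¹ * (s * n)) := by group
  obtain ⟨c, hc⟩ := cent_u h1
  have hsn : (s : 𝒢) * n = h ^ b * u ^ c := by rw [← hc]; group
  have hn2 : n = (s : 𝒢)⁻¹ * (h ^ b * u ^ c) := by rw [← hsn]; group
  rcases Nat.even_or_odd' b with ⟨b', hb' | hb'⟩
  · apply SV_le
    rw [hn2, hb', pow_mul, ← H_eq']
    exact mul_mem (inv_mem s.2) (mul_mem (pow_mem H_mem_SV _) (pow_mem u_mem_SV _))
  · exfalso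
    have hle : SV ≤ normalizer (SV : Set 𝒢) := le_normalizer
    have hh : h ∈ normalizer (SV : Set 𝒢) := by
      have h2 : h ^ b ∈ normalizer (SV : Set 𝒢) := by
        have : h ^ b = s * n * (u ^ c)⁻¹ := by rw [hsn]; group
        rw [this]
        exact mul_mem (mul_mem (hle s.2) hn) (inv_mem (pow_mem (hle u_mem_SV) _))
      have h3 : h = (H ^ b')⁻¹ * h ^ b := by
        rw [hb', pow_succ, pow_mul, ← H_eq']; group
      rw [h3]
      exact mul_mem (inv_mem (pow_mem (hle H_mem_SV) _)) h2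
    have hz : z ∈ normalizer (SV : Set 𝒢) := by rw [z_eq]; exact pow_mem hh _
    have h4 : z * v * z⁻¹ ∈ SV := (mem_normalizer_iff.1 hz v).1 v_mem_SV
    have h5 : v * (z * v * z⁻¹) = k * k := by
      rw [v_eq]
      calc w * k * z * (z * (w * k * z) * z⁻¹) = w * k * (z * z) * (w * k) := by group
        _ = (w * k) * (w * k) := by rw [z_z, mul_one]
        _ = (k * w) * (w * k) := by rw [w_k]
        _ = k * (w * w) * k := by group
        _ = k * k := by rw [w_w, mul_one]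
    have h6 : k * k ∈ SV := by rw [← h5]; exact mul_mem v_mem_SV h4
    have h7 : k ∈ SV := by
      have h8 : k = (k * k) ^ 6 := by
        rw [← pow_two, ← pow_mul, show 2 * 6 = 11 + 1 from rfl, pow_succ, k_pow, one_mul]
      rw [h8]
      exact pow_mem h6 6
    exact not_k_mem hS H_mem_SV h7

/-! ### maximal subgroups -/

theorem normalizer_ne_top {S : Subgroup 𝒢} (h1 : S ≠ ⊥) (h2 : S ≠ ⊤) : normalizer (S : Set 𝒢) ≠ ⊤ := by
  intro h
  have hn : S.Normal := normalizer_eq_top_iff.1 h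
  rcases hn.eq_bot_or_eq_top with h3 | h3
  · exact h1 h3
  · exact h2 h3

theorem ne_bot {M S : Subgroup 𝒢} (hN : NL M S) : S ≠ ⊥ := by
  intro h
  apply hN.nab
  subst h
  exact ⟨⟨fun a b => Subsingleton.elim _ _⟩⟩

theorem ne_top {M S : Subgroup 𝒢} (hN : NL M S) : S ≠ ⊤ := by
  intro h
  exact hN.coatom.1 (top_le_iff.1 (h ▸ hN.le))

theorem eq_normalizer {M S : Subgroup 𝒢} (hN : NL M S) : M = normalizer (S : Set 𝒢) := by
  by_contra h
  exact normalizer_ne_top (ne_bot hN) (ne_top hN) (hN.coatom.2 _ (lt_of_le_of_ne hN.norm h))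

theorem cj_normalizer (g : 𝒢) (S : Subgroup 𝒢) : cj g (normalizer (S : Set 𝒢)) = normalizer (cj g S : Set 𝒢) :=
  Subgroup.map_equiv_normalizer_eq S (MulAut.conj g)

theorem isCoatom_cj {M : Subgroup 𝒢} (hM : IsCoatom M) (g : 𝒢) : IsCoatom (cj g M) :=
  (OrderIso.isCoatom_iff (MulEquiv.mapSubgroup (MulAut.conj g)) M).2 hM

theorem EJ_ne_bot : Cfsg.Agent.J4.Invol.EJ ≠ ⊥ := by
  intro h
  have h1 := Cfsg.Agent.J4.Invol.card_EJ Cfsg.Agent.H858.VK.rho_injective
  rw [h, Subgroup.card_bot] at h1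
  norm_num at h1

theorem EJ_ne_top : Cfsg.Agent.J4.Invol.EJ ≠ ⊤ := by
  intro h
  apply u_ne
  exact Cfsg.Agent.H858.VK.inf_eq_one u (by rw [h]; exact mem_top _) u_mem

theorem not_le_range {M : Subgroup 𝒢} (hM : IsCoatom M) : ¬ M ≤ phi.range := by
  intro h
  have h1 : M ≤ normalizer (Cfsg.Agent.J4.Invol.EJ : Set 𝒢) := h.trans Cfsg.Agent.H858.VK.phi_norm
  have h2 : M = normalizer (Cfsg.Agent.J4.Invol.EJ : Set 𝒢) := by
    by_contra h3
    exact normalizer_ne_top EJ_ne_bot EJ_ne_top (hM.2 _ (lt_of_le_of_ne h1 h3))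
  apply EJ_ne_bot
  rw [eq_bot_iff]
  intro e he
  rw [mem_bot]
  apply Cfsg.Agent.H858.VK.inf_eq_one e he
  apply h
  rw [h2]
  exact le_normalizer he

/-- the socle of a maximal subgroup is conjugate to `SW` -/
theorem exists_cj_SW {M S : Subgroup 𝒢} (hN : NL M S) {F : Type} [Field F] [Fintype F] (hF : Fintype.card F = 23)
    (e : S ≃* Matrix.ProjectiveSpecialLinearGroup (Fin 2) F) : ∃ g : 𝒢, cj g S = SW := by
  obtain ⟨g, hg | hg⟩ := exists_cj hF e
  · exact ⟨g, hg⟩
  · exfalso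
    have h1 : cj g M = normalizer (SV : Set 𝒢) := by
      rw [eq_normalizer hN, cj_normalizer, hg]
    have h2 := isCoatom_cj hN.coatom g
    have h3 : Nat.card SV = 6072 := by
      rw [← hg, ← (PslGens.exists_gens' hF e).1]
      exact (Nat.card_congr (S.equivMapOfInjective (MulAut.conj g).toMonoidHom
        (MulAut.conj g).injective).toEquiv).symm
    apply not_le_range h2
    rw [h1]
    exact normalizer_SV h3

/-- **S5580, Part III, `L₂(23)`**: the maximal subgroups of `J4` with socle `L₂(23)` form one class -/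
theorem one_L223 {F : Type} [Field F] [Fintype F] (h : Fintype.card F = 23) :
    OneCl (Matrix.ProjectiveSpecialLinearGroup (Fin 2) F) := by
  rintro M S M' S' hN hN' ⟨e⟩ ⟨e'⟩
  obtain ⟨g, hg⟩ := exists_cj_SW hN h e
  obtain ⟨g', hg'⟩ := exists_cj_SW hN' h e'
  refine ⟨g'⁻¹ * g, ?_⟩
  have h1 : S' = cj (g'⁻¹ * g) S := by
    rw [← cj_cj, hg, ← hg', cj_cj, inv_mul_cancel, cj_one]
  rw [eq_normalizer hN', eq_normalizer hN, cj_normalizer, ← h1]

end Cfsg.Agent.H265.JM.L223
end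

private theorem dce_02f1b5b1d4ee : _root_.True := by
  try have : _root_.True := by simp only [_root_.Cfsg.Agent.H868.JM.L34.r2.eq_1]
  try have : _root_.True := by simp only [_root_.Cfsg.Agent.H856.JM.A6.nsx.eq_1]
  try have : _root_.True := by simp only [_root_.Cfsg.Agent.H856.JM.A6.esx.eq_1]
  try have : _root_.True := by simp only [_root_.Cfsg.Agent.H868.JM.My.congr_simp]
  try have : _root_.True := by simp only [_root_.Cfsg.Agent.H868.JM.L34.r1.eq_1]
  try have : _root_.True := by simp only [_root_.Cfsg.Agent.H868.JM.Mf.congr_simp]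
  try have : _root_.True := by simp only [_root_.Cfsg.Agent.H265.JM.L223.SV.eq_1]
  try have : _root_.True := by simp only [_root_.Matrix.SpecialLinearGroup.transvection.eq_1]
  try have : _root_.True := by simp only [_root_.Cfsg.Agent.H868.JM.Mt.congr_simp]
  try have : _root_.True := by simp only [_root_.Cfsg.Agent.H868.JM.Mu.congr_simp]
  try have : _root_.True := by simp only [_root_.Cfsg.Agent.H366.LThreeFour.el.eq_1]
  try have : _root_.True := by simp only [_root_.Cfsg.Agent.H265.JM.L223.SW.eq_1]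
  try have : _root_.True := by simp only [_root_.Cfsg.Agent.H856.JM.A5.cen.eq_1]
  try have : _root_.True := by simp only [_root_.Cfsg.Agent.H868.JM.My.eq_1]
  try have : _root_.True := by simp only [_root_.Cfsg.Agent.H856.JM.A6.gE.eq_1]
  exact _root_.True.intro
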